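import Cfsg.Agent.Lib.Fischer.Polar.Herm

/-!
Every translation is a product of two sections, and this determines the value of its cocycle.
-/

set_option autoImplicit false

namespace Cfsg.Agent.Fischer.Polar

open Cfsg Cfsg.Agent.Fischer.Solv

universe u

variable {G : Type u} [Group G] [Finite G] {D : Set G} {a b : G} {F : Type} [Field F]

namespace Lab

variable (L : Lab D a b F)

/-- `k` is a value of the cocycle at `q`. -/
def Val (q : G) (k : F) : Prop :=
  ∃ (i : F) (p : ↥(both D a b)) (l : F) (r : ↥(both D a b)) (m : F), (i = 0 ∨ i = 1) ∧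
    q = L.A i * L.S p l * L.S r m ∧ k = i + L.herm (l • L.y p) (m • L.y r)

open scoped Classical in
/-- The cocycle. -/
noncomputable def gam (q : G) : F := if h : ∃ k, L.Val q k then h.choose else 0

variable (hB : Base D a b) (h4 : IsFour F) (hL : L.Linear)
include hB h4 hL

theorem herm_S (p : ↥(both D a b)) (l : F) : L.herm (l • L.y p) (l • L.y p) = 0 := by
  rw [L.herm_yy hB h4 hL, L.y_commute hB h4 (Commute.refl _), mul_zero]

theorem val_one : L.Val 1 0 := by
  obtain ⟨p, hp⟩ := hB.toThick.prj_nonempty hB.ha hB.hb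
  let p' : ↥(both D a b) := ⟨p, hp.1.1, hp.1.2.2.symm, hp.2⟩
  exact ⟨0, p', 0, p', 0, Or.inl rfl, by simp [S_zero, A_zero],
    by rw [L.herm_S hB h4 hL, add_zero]⟩

theorem bit_add {i j : F} (hi : i = 0 ∨ i = 1) (hj : j = 0 ∨ j = 1) :
    i + j = 0 ∨ i + j = 1 := by
  rcases hi with rfl | rfl <;> rcases hj with rfl | rfl <;> simp [h4.add_self]

theorem val_shift {q : G} {k : F} (h : L.Val q k) {j : F} (hj : j = 0 ∨ j = 1) :
    L.Val (L.A j * q) (j + k) := by
  obtain ⟨i, p, l, r, m, hi, rfl, rfl⟩ := h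
  refine ⟨j + i, p, l, r, m, L.bit_add hB h4 hL hj hi, ?_, (add_assoc _ _ _).symm⟩
  rw [L.A_add hB h4 hj hi]
  simp only [mul_assoc]

theorem val_mem {q : G} {k : F} (h : L.Val q k) : q ∈ L.Q := by
  obtain ⟨i, p, l, r, m, -, rfl, -⟩ := h
  exact mul_mem (mul_mem (L.A_mem i) (L.S_mem p l)) (L.S_mem r m)

theorem val_xv {q : G} {i : F} {p r : ↥(both D a b)} {l m : F}
    (h : q = L.A i * L.S p l * L.S r m) : L.xv q = l • L.y p + m • L.y r := by
  rw [h, L.xv_mul hB h4 (mul_mem (L.A_mem i) (L.S_mem p l)) (L.S_mem r m),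
    L.xv_mul hB h4 (L.A_mem i) (L.S_mem p l), L.xv_A hB h4, zero_add, L.xv_S' hB h4 hL,
    L.xv_S' hB h4 hL]

theorem val_pair (p r : ↥(both D a b)) (l m : F) :
    L.Val (L.S p l * L.S r m) (L.herm (l • L.y p) (m • L.y r)) :=
  ⟨0, p, l, r, m, Or.inl rfl, by rw [A_zero, one_mul], (zero_add _).symm⟩

/-- Three sections reduce to two: the statement. -/
def Three (p r t : ↥(both D a b)) (l m n : F) : Prop :=
  L.Val (L.S p l * L.S r m * L.S t n) (L.herm (l • L.y p) (m • L.y r) +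
    L.herm (l • L.y p) (n • L.y t) + L.herm (m • L.y r) (n • L.y t))

omit hB h4 hL in
theorem three_def {p r t : ↥(both D a b)} {l m n : F} :
    L.Three p r t l m n ↔ L.Val (L.S p l * L.S r m * L.S t n) (L.herm (l • L.y p) (m • L.y r) +
      L.herm (l • L.y p) (n • L.y t) + L.herm (m • L.y r) (n • L.y t)) := Iff.rfl

theorem three_left {p r t : ↥(both D a b)} {l m n : F}
    (h : L.herm (l • L.y p) (m • L.y r) = 0 ∨ L.herm (l • L.y p) (m • L.y r) = 1) :
    L.Three p r t l m n := by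
  obtain ⟨s, k, e, e'⟩ := L.merge hB h4 hL h
  have h' := L.val_shift hB h4 hL (L.val_pair hB h4 hL s t k n) h
  rw [e', herm_add_left, ← mul_assoc, ← e, ← add_assoc] at h'
  exact h'

theorem three_right {p r t : ↥(both D a b)} {l m n : F}
    (h : L.herm (m • L.y r) (n • L.y t) = 0 ∨ L.herm (m • L.y r) (n • L.y t) = 1) :
    L.Three p r t l m n := by
  obtain ⟨s, k, e, e'⟩ := L.merge hB h4 hL h
  have h' := L.val_shift hB h4 hL (L.val_pair hB h4 hL p s l k) h
  rw [e', L.herm_add_right hB h4 hL (L.smul_y_mem l p) (L.smul_y_mem m r) (L.smul_y_mem n t),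
    (L.A_comm hB h4 _ (mul_mem (L.S_mem p l) (L.S_mem s k))).eq, mul_assoc (L.S p l),
    ← (L.A_comm hB h4 _ (L.S_mem s k)).eq, ← e, ← mul_assoc,
    add_comm (L.herm (m • L.y r) (n • L.y t))] at h'
  exact h'

theorem three_swap12 {p r t : ↥(both D a b)} {l m n : F} (h : L.Three r p t m l n) :
    L.Three p r t l m n := by
  rw [three_def] at h ⊢
  have h' := L.val_shift hB h4 hL h
    (j := L.herm (l • L.y p) (m • L.y r) + L.herm (l • L.y p) (m • L.y r) ^ 2) (h4.trace _)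
  rw [L.swap hB h4 hL p r l m, mul_assoc (L.A _)]
  convert h' using 1
  rw [L.herm_symm hB h4 hL (L.smul_y_mem l p) (L.smul_y_mem m r)]
  linear_combination -(h4.add_self (L.herm (l • L.y p) (m • L.y r) ^ 2))

theorem three_swap23 {p r t : ↥(both D a b)} {l m n : F} (h : L.Three p t r l n m) :
    L.Three p r t l m n := by
  rw [three_def] at h ⊢
  have h' := L.val_shift hB h4 hL h
    (j := L.herm (m • L.y r) (n • L.y t) + L.herm (m • L.y r) (n • L.y t) ^ 2) (h4.trace _)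
  rw [mul_assoc (L.S p l), L.swap hB h4 hL r t m n, ← mul_assoc (L.S p l),
    ← (L.A_comm hB h4 _ (L.S_mem p l)).eq, mul_assoc (L.A _), ← mul_assoc (L.S p l)]
  convert h' using 1
  rw [L.herm_symm hB h4 hL (L.smul_y_mem m r) (L.smul_y_mem n t)]
  linear_combination -(h4.add_self (L.herm (m • L.y r) (n • L.y t) ^ 2))

theorem three_equal {p r t : ↥(both D a b)} {l m n u : F}
    (hu : ¬(u = 0 ∨ u = 1)) (h12 : L.herm (l • L.y p) (m • L.y r) = u)
    (h23 : L.herm (m • L.y r) (n • L.y t) = u) : L.Three p r t l m n := by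
  have hu2 : u ^ 2 = u + 1 := by
    rw [not_or] at hu
    exact ((h4.cases u).resolve_left hu.1).resolve_left hu.2
  have hy := L.smul_y_mem (l := l) (p := p)
  have hm1 := L.smul_y_mem (l := u * m) (p := r)
  have hm2 := L.smul_y_mem (l := u ^ 2 * m) (p := r)
  have hn := L.smul_y_mem (l := n) (p := t)
  have e1 : L.herm (l • L.y p) ((u * m) • L.y r) = 1 := by
    rw [← smul_smul, L.herm_smul_right hB h4 hL u hy (L.smul_y_mem m r), h12, mul_comm]
    refine h4.cube ?_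
    exact fun h => hu (Or.inl h)
  have e2 : L.herm ((u ^ 2 * m) • L.y r) (n • L.y t) = 1 := by
    rw [← smul_smul, herm_smul_left, h23, mul_comm]
    refine h4.cube ?_
    exact fun h => hu (Or.inl h)
  obtain ⟨s, k, e, e'⟩ := L.merge hB h4 hL (Or.inr e1)
  obtain ⟨s', k', f, f'⟩ := L.merge hB h4 hL (Or.inr e2)
  have hsplit : L.S r m = L.S r (u * m) * L.S r (u ^ 2 * m) := by
    rw [L.S_mul hB h4]
    congr 1
    linear_combination -m * hu2 - u * m * h4.two
  rw [three_def, hsplit]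
  rw [e1] at e
  rw [e2] at f
  have g : L.S p l * (L.S r (u * m) * L.S r (u ^ 2 * m)) * L.S t n = L.S s k * L.S s' k' := by
    calc L.S p l * (L.S r (u * m) * L.S r (u ^ 2 * m)) * L.S t n
        = (L.S p l * L.S r (u * m)) * (L.S r (u ^ 2 * m) * L.S t n) := by simp only [mul_assoc]
      _ = L.A 1 * (L.S s k * L.A 1) * L.S s' k' := by rw [e, f]; simp only [mul_assoc]
      _ = L.S s k * L.S s' k' := by
        rw [← (L.A_comm hB h4 1 (L.S_mem s k)).eq, ← mul_assoc (L.A 1), A_one,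
          hB.sq a hB.ha, one_mul]
  rw [g]
  convert L.val_pair hB h4 hL s s' k k' using 1
  rw [e', f', herm_add_left, L.herm_add_right hB h4 hL hy hm2 hn,
    L.herm_add_right hB h4 hL hm1 hm2 hn]
  have q1 : L.herm (l • L.y p) ((u ^ 2 * m) • L.y r) = u * u := by
    rw [← smul_smul, L.herm_smul_right hB h4 hL _ hy (L.smul_y_mem m r), h12, h4.pow_four]
  have q2 : L.herm ((u * m) • L.y r) ((u ^ 2 * m) • L.y r) = 0 := by
    rw [L.herm_yy hB h4 hL, L.y_commute hB h4 (Commute.refl _), mul_zero]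
  have q3 : L.herm ((u * m) • L.y r) (n • L.y t) = u * u := by
    rw [← smul_smul, herm_smul_left, h23]
  rw [q1, q2, q3, h12, h23]
  linear_combination -(h4.add_self (u * u)) + h4.add_self u

theorem three (p r t : ↥(both D a b)) (l m n : F) : L.Three p r t l m n := by
  set u := L.herm (l • L.y p) (m • L.y r) with hu
  set v := L.herm (l • L.y p) (n • L.y t) with hv
  set w := L.herm (m • L.y r) (n • L.y t) with hw
  by_cases bu : u = 0 ∨ u = 1
  · exact L.three_left hB h4 hL bu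
  by_cases bw : w = 0 ∨ w = 1
  · exact L.three_right hB h4 hL bw
  by_cases bv : v = 0 ∨ v = 1
  · exact L.three_swap23 hB h4 hL (L.three_left hB h4 hL bv)
  rcases h4.pair_cases bu bw with huw | huw
  · exact L.three_equal hB h4 hL bu hu.symm (hw.symm.trans huw)
  rcases h4.pair_cases bu bv with huv | huv
  · refine L.three_swap23 hB h4 hL (L.three_equal hB h4 hL bu (hv.symm.trans huv) ?_)
    rw [L.herm_symm hB h4 hL (L.smul_y_mem m r) (L.smul_y_mem n t), ← hw, huw, h4.pow_four]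
  · refine L.three_swap12 hB h4 hL (L.three_equal hB h4 hL (u := u ^ 2) ?_ ?_ (hv.symm.trans huv))
    · rintro (h | h)
      · exact bu (Or.inl (pow_eq_zero_iff two_ne_zero |>.1 h))
      · exact bu (Or.inr (h4.sq_inj (h.trans (one_pow 2).symm)))
    · rw [L.herm_symm hB h4 hL (L.smul_y_mem l p) (L.smul_y_mem m r)]

theorem val_mul_S {q : G} {k : F} (h : L.Val q k) (t : ↥(both D a b)) (n : F) :
    L.Val (q * L.S t n) (k + L.herm (L.xv q) (n • L.y t)) := by
  obtain ⟨i, p, l, r, m, hi, hq, rfl⟩ := h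
  rw [L.val_xv hB h4 hL hq, herm_add_left, hq]
  have h' := L.val_shift hB h4 hL (L.three hB h4 hL p r t l m n) hi
  simp only [mul_assoc, add_assoc] at h' ⊢
  exact h'

theorem val_mul_A {q : G} {k : F} (h : L.Val q k) {j : F} (hj : j = 0 ∨ j = 1) :
    L.Val (q * L.A j) (k + j) := by
  rw [← (L.A_comm hB h4 j (L.val_mem hB h4 hL h)).eq, add_comm]
  exact L.val_shift hB h4 hL h hj

theorem A_sq (i : F) : L.A i * L.A i = 1 := by
  unfold A
  split
  · exact one_mul 1
  · exact hB.sq a hB.ha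

theorem val_unique {q : G} {k k' : F} (h : L.Val q k) (h' : L.Val q k') : k = k' := by
  obtain ⟨j, p, l, r, m, hj, hq', rfl⟩ := h'
  have h1 := L.val_mul_S hB h4 hL h r m
  have h2 := L.val_mul_S hB h4 hL h1 p l
  have h3 := L.val_mul_A hB h4 hL h2 hj
  have hs : ∀ (p : ↥(both D a b)) (l : F), L.S p l * L.S p l = 1 := fun p l => by
    rw [L.S_mul hB h4, h4.add_self, S_zero]
  have hone : q * L.S r m * L.S p l * L.A j = 1 := by
    rw [hq']
    simp only [mul_assoc, invol_cancel (hs r m), invol_cancel (hs p l), L.A_sq hB h4 hL]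
  rw [hone] at h3
  have hxq : L.xv q = l • L.y p + m • L.y r := L.val_xv hB h4 hL hq'
  have hx1 : L.xv (q * L.S r m) = l • L.y p := by
    rw [L.xv_mul hB h4 (L.val_mem hB h4 hL h) (L.S_mem r m), hxq, L.xv_S' hB h4 hL, add_assoc,
      ← add_smul, h4.add_self, zero_smul, add_zero]
  rw [hx1, hxq, L.herm_S hB h4 hL, add_zero, herm_add_left, L.herm_S hB h4 hL, add_zero] at h3
  obtain ⟨i, s, c, s', c', hi, h1q, e⟩ := h3
  have hv := L.val_xv hB h4 hL h1q
  rw [L.xv_one hB h4] at hv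
  have hcc : c • L.y s = c' • L.y s' := by
    funext z
    exact h4.add_eq_zero.1 (congrFun hv z).symm
  rw [L.S_congr hB h4 hL hcc, mul_assoc, hs, mul_one] at h1q
  have hi0 : i = 0 := by
    refine hi.resolve_right fun k => ?_
    rw [k, A_one] at h1q
    exact hB.ne_one a hB.ha h1q.symm
  rw [hi0, zero_add, hcc, L.herm_S hB h4 hL] at e
  exact h4.add_eq_zero.1 (by linear_combination e)

theorem exists_val {q : G} (hq : q ∈ L.Q) : ∃ k, L.Val q k := by
  have step : ∀ z ∈ insert a (Set.range fun z : ↥(both D a b) × F => L.g z.1 z.2),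
      ∀ q, (∃ k, L.Val q k) → ∃ k, L.Val (q * z) k := by
    rintro z (rfl | ⟨⟨p, l⟩, rfl⟩) q ⟨k, hk⟩
    · exact ⟨_, A_one (L := L) ▸ L.val_mul_A hB h4 hL hk (j := 1) (Or.inr rfl)⟩
    · by_cases hl : l = 0
      · subst hl
        exact ⟨k, by simpa [g, L.zero, hB.sq p p.2.1] using hk⟩
      · have h := L.val_mul_S hB h4 hL (L.val_mul_A hB h4 hL hk (j := 1) (Or.inr rfl)) p l
        rw [L.S_of_ne p hl, A_one, mul_assoc, invol_cancel (hB.sq a hB.ha)] at h
        exact ⟨_, h⟩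
  unfold Q at hq
  induction hq using Subgroup.closure_induction_right with
  | one => exact ⟨0, L.val_one hB h4 hL⟩
  | mul_right y _ z hz h => exact step z hz y h
  | mul_inv_cancel y _ z hz h =>
    have hzz : z⁻¹ = z := by
      rcases hz with rfl | ⟨⟨p, l⟩, rfl⟩
      · exact hB.ts.inv_eq hB.ha
      · exact L.g_inv hB p l
    rw [hzz]
    exact step z hz y h

theorem gam_spec {q : G} (hq : q ∈ L.Q) : L.Val q (L.gam q) := by
  have h := L.exists_val hB h4 hL hq
  rw [gam, dif_pos h]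
  exact h.choose_spec

theorem gam_eq {q : G} {k : F} (h : L.Val q k) : L.gam q = k :=
  L.val_unique hB h4 hL (L.gam_spec hB h4 hL (L.val_mem hB h4 hL h)) h

theorem gam_mul {q q' : G} (hq : q ∈ L.Q) (hq' : q' ∈ L.Q) :
    L.gam (q * q') = L.gam q + L.gam q' + L.herm (L.xv q) (L.xv q') := by
  obtain ⟨i, p, l, r, m, hi, e, hk⟩ := L.gam_spec hB h4 hL hq'
  have h1 := L.val_mul_A hB h4 hL (L.gam_spec hB h4 hL hq) hi
  have h2 := L.val_mul_S hB h4 hL h1 p l
  have h3 := L.val_mul_S hB h4 hL h2 r m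
  rw [L.xv_mul hB h4 (mul_mem hq (L.A_mem i)) (L.S_mem p l), L.xv_mul hB h4 hq (L.A_mem i),
    L.xv_A hB h4, add_zero, L.xv_S' hB h4 hL, herm_add_left] at h3
  rw [L.gam_eq hB h4 hL (k := L.gam q + i + L.herm (L.xv q) (l • L.y p) +
      (L.herm (L.xv q) (m • L.y r) + L.herm (l • L.y p) (m • L.y r)))
      (by rw [e]; simpa only [← mul_assoc] using h3),
    hk, L.val_xv hB h4 hL e,
    L.herm_add_right hB h4 hL (L.xv_mem hB h4 hL hq) (L.smul_y_mem l p) (L.smul_y_mem m r)]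
  ring

theorem gam_a : L.gam a = 1 := by
  have h := L.val_shift hB h4 hL (L.val_one hB h4 hL) (j := 1) (Or.inr rfl)
  rw [A_one, mul_one, add_zero] at h
  exact L.gam_eq hB h4 hL h

theorem gam_trace {q : G} (hq : q ∈ L.Q) :
    L.gam q + L.gam q ^ 2 = L.herm (L.xv q) (L.xv q) := by
  obtain ⟨i, p, l, r, m, hi, e, hk⟩ := L.gam_spec hB h4 hL hq
  rw [hk, L.val_xv hB h4 hL e, herm_add_left,
    L.herm_add_right hB h4 hL (L.smul_y_mem l p) (L.smul_y_mem l p) (L.smul_y_mem m r),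
    L.herm_add_right hB h4 hL (L.smul_y_mem m r) (L.smul_y_mem l p) (L.smul_y_mem m r),
    L.herm_S hB h4 hL, L.herm_S hB h4 hL,
    L.herm_symm hB h4 hL (L.smul_y_mem l p) (L.smul_y_mem m r), h4.sq_add]
  linear_combination h4.trace_eq_zero.2 hi

theorem exists_merge {q : G} (hq : q ∈ L.Q) (hiso : L.herm (L.xv q) (L.xv q) = 0) :
    ∃ (i : F) (p : ↥(both D a b)) (l : F), (i = 0 ∨ i = 1) ∧ q = L.A i * L.S p l ∧
      L.gam q = i := by
  obtain ⟨i, p, l, r, m, hi, e, hk⟩ := L.gam_spec hB h4 hL hq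
  have ht := L.gam_trace hB h4 hL hq
  rw [hiso, hk, h4.sq_add] at ht
  have h0 : L.herm (l • L.y p) (m • L.y r) + L.herm (l • L.y p) (m • L.y r) ^ 2 = 0 := by
    linear_combination ht - h4.trace_eq_zero.2 hi
  have hb := h4.trace_eq_zero.1 h0
  obtain ⟨t, n, f, -⟩ := L.merge hB h4 hL hb
  refine ⟨i + L.herm (l • L.y p) (m • L.y r), t, n, L.bit_add hB h4 hL hi hb, ?_, hk⟩
  rw [e, mul_assoc, f, L.A_add hB h4 hi hb, mul_assoc]

theorem gam_eq_zero {q : G} (hq : q ∈ L.Q) :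
    L.gam q = 0 ↔ ∃ (p : ↥(both D a b)) (l : F), q = L.S p l := by
  constructor
  · intro h
    obtain ⟨i, p, l, -, e, hk⟩ := L.exists_merge hB h4 hL hq (by
      rw [← L.gam_trace hB h4 hL hq, h]; ring)
    rw [← hk, h, A_zero, one_mul] at e
    exact ⟨p, l, e⟩
  · rintro ⟨p, l, rfl⟩
    exact L.gam_eq hB h4 hL ⟨0, p, l, p, 0, Or.inl rfl, by simp [A_zero, S_zero],
      by rw [L.herm_y hB h4 hL (L.smul_y_mem l p)]; ring⟩

/-- A singular vector belongs to a point. -/
theorem exists_y {x : ↥(both D a b) → F} (hx : x ∈ L.X) (hiso : L.herm x x = 0) :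
    ∃ (p : ↥(both D a b)) (l : F), x = l • L.y p := by
  obtain ⟨q, hq, rfl⟩ := L.exists_xv hB h4 hL hx
  obtain ⟨i, p, l, -, e, -⟩ := L.exists_merge hB h4 hL hq hiso
  refine ⟨p, l, ?_⟩
  rw [e, L.xv_mul hB h4 (L.A_mem i) (L.S_mem p l), L.xv_A hB h4, zero_add, L.xv_S' hB h4 hL]

/-- Members commuting with `b` come from single sections. -/
theorem near {c : G} (hc : c ∈ nbr D a) (hcb : Commute c b) :
    ∃ (p : ↥(both D a b)) (l : F), L.S p l * b * (L.S p l)⁻¹ = c := by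
  classical
  have : Finite F := h4.finite
  by_cases hcb' : c = b
  · obtain ⟨p, hp⟩ := hB.toThick.prj_nonempty hB.ha hB.hb
    exact ⟨⟨p, hp.1.1, hp.1.2.2.symm, hp.2⟩, 0, by rw [hcb', S_zero, one_mul, inv_one, mul_one]⟩
  have hp0 : c ∈ perp D b := ⟨hc.1, hcb', hcb.symm⟩
  obtain ⟨y, hy, hay⟩ := hB.one b hB.hb.1 c hp0 a hB.ha
  have hyb : y ≠ b := fun h => hB.hb.2 (h ▸ hay)
  let p : ↥(both D a b) := ⟨y, hy.1, hay.symm, line_commute_left hB.hb.1 hp0 hy⟩
  have hcl : c ∈ line D b (p : G) := by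
    show c ∈ line D b y
    rw [hB.toThick.line_eq_left hB.hb.1 hp0 hy hyb]
    exact right_mem_line hB.hb.1 hp0
  have hbp := hB.mem_perp_right p.2
  have hsub : Set.range (fun l => L.S p l * b * (L.S p l)⁻¹) ⊆ line D b (p : G) \ {(p : G)} := by
    rintro _ ⟨l, rfl⟩
    exact ⟨L.S_conj_mem_line hB p l, fun h => (L.conj_b_nbr hB h4 (L.S_mem p l)).2
      ((show L.S p l * b * (L.S p l)⁻¹ = (p : G) from h) ▸ p.2.2.1.symm)⟩
  have hinj : Function.Injective (fun l => L.S p l * b * (L.S p l)⁻¹) := by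
    intro l m h
    have h' : (L.S p m)⁻¹ * L.S p l * b * ((L.S p m)⁻¹ * L.S p l)⁻¹ = b := by
      calc (L.S p m)⁻¹ * L.S p l * b * ((L.S p m)⁻¹ * L.S p l)⁻¹
          = (L.S p m)⁻¹ * (L.S p l * b * (L.S p l)⁻¹) * L.S p m := by simp [mul_assoc]
        _ = (L.S p m)⁻¹ * (L.S p m * b * (L.S p m)⁻¹) * L.S p m := congrArg (fun z => _ * z * _) h
        _ = b := by simp [mul_assoc]
    have h1 := L.free hB h4 (mul_mem (inv_mem (L.S_mem p m)) (L.S_mem p l)) h'
    have h2 := congrArg L.xv (inv_mul_eq_one.1 h1)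
    rw [L.xv_S' hB h4 hL, L.xv_S' hB h4 hL] at h2
    by_cases hm : m = 0
    · rw [hm, zero_smul] at h2
      rw [L.smul_y_eq_zero hB h4 hL h2.symm, hm]
    · exact (L.eq_of_smul_y hB h4 hL h2 hm).2.symm
  have heq := Set.eq_of_subset_of_ncard_le hsub (by
    rw [Set.ncard_range_of_injective hinj, h4.card,
      Set.ncard_sdiff_singleton_of_mem (right_mem_line hB.hb.1 hbp),
      hB.five b hB.hb.1 p hbp]) (Set.toFinite _)
  have : c ∈ Set.range (fun l => L.S p l * b * (L.S p l)⁻¹) := by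
    rw [heq]
    exact ⟨hcl, fun h => hc.2 ((show c = (p : G) from h) ▸ p.2.2.1.symm)⟩
  obtain ⟨l, hl⟩ := this
  exact ⟨p, l, hl⟩

/-- The translations are transitive on the members not commuting with `a`. -/
theorem trans {c : G} (hc : c ∈ nbr D a) : ∃ q ∈ L.Q, q * b * q⁻¹ = c := by
  have step : ∀ d ∈ nbr D a, (∃ q ∈ L.Q, q * b * q⁻¹ = d) → ∀ c ∈ nbr D a, Commute c d →
      ∃ q ∈ L.Q, q * b * q⁻¹ = c := by
    rintro d hd ⟨q, hq, rfl⟩ c hc hcd
    have hqa := (L.isTrans hB h4 (inv_mem hq)).1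
    have hc' := conj_mem_nbr hB.toTClass q⁻¹ hc
    rw [hqa] at hc'
    obtain ⟨p, l, h⟩ := L.near hB h4 hL hc' (by
      have := hcd.conj q⁻¹
      simpa [mul_assoc] using this)
    refine ⟨q * L.S p l, mul_mem hq (L.S_mem p l), ?_⟩
    calc q * L.S p l * b * (q * L.S p l)⁻¹ = q * (L.S p l * b * (L.S p l)⁻¹) * q⁻¹ := by
          simp [mul_assoc]
      _ = c := by rw [h]; simp [mul_assoc]
  by_cases hcb : Commute c b
  · obtain ⟨p, l, h⟩ := L.near hB h4 hL hc hcb
    exact ⟨_, L.S_mem p l, h⟩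
  by_cases hex : ∃ d ∈ both D b c, ¬Commute a d
  · obtain ⟨d, hd, hda⟩ := hex
    obtain ⟨p, l, h⟩ := L.near hB h4 hL ⟨hd.1, hda⟩ hd.2.1
    exact step d ⟨hd.1, hda⟩ ⟨_, L.S_mem p l, h⟩ c hc hd.2.2.symm
  push Not at hex
  rcases hB.toPolar.span b hB.hb.1 c ⟨hc.1, fun k => hcb k.symm⟩ a
      ⟨hB.ha, fun k => hB.hb.2 k.symm⟩ (fun d hd => (hex d hd).symm) with h | h
  · exact absurd (h ▸ Commute.refl a) hc.2
  · refine ⟨a, L.a_mem, ?_⟩
    rw [hB.ts.inv_eq hB.ha, hB.ts.braid hB.ha hB.hb.1 hB.hb.2, h,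
      invol_conj_invol (hB.sq b hB.hb.1)]

end Lab

end Cfsg.Agent.Fischer.Polar
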