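import Cfsg.Agent.Lib.Fischer.Polar.Cocycle
import Cfsg.Agent.Lib.Forms.Classify
import Cfsg.Agent.Lib.Forms.Herm

/-!
The class as the set of isotropic points of a hermitian space over the field of four elements.
-/

set_option autoImplicit false

namespace Cfsg.Agent.Fischer.Polar

open Cfsg Cfsg.Agent.Fischer.Solv

universe u

variable {G : Type u} [Group G] [Finite G] {D : Set G} {a b : G} {F : Type} [Field F]

namespace Lab

variable (L : Lab D a b F)

/-- The hermitian space. -/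
abbrev Sp : Type u := F × ↥L.X × F

open scoped Classical in
/-- The vector of a member of the fibre. -/
noncomputable def fvec (p : ↥(both D a b)) (l : F) : L.Sp :=
  (if l = 0 then 0 else 1, ⟨(if l = 0 then 1 else l) • L.y p, L.smul_y_mem _ p⟩, 0)

/-- Vectors representing a member. -/
def Rep (d : G) (v : L.Sp) : Prop :=
  (d = a ∧ v = (1, 0, 0)) ∨ (∃ p l, d = L.e p l ∧ v = L.fvec p l) ∨
    ∃ q ∈ L.Q, d = q * b * q⁻¹ ∧ ∃ hx : L.xv q ∈ L.X, v = (L.gam q ^ 2, ⟨L.xv q, hx⟩, 1)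

/-- The hermitian form of the space, semilinear in the first variable. -/
noncomputable def bil (v w : L.Sp) : F :=
  v.1 ^ 2 * w.2.2 + v.2.2 ^ 2 * w.1 + L.herm w.2.1 v.2.1

variable (hB : Base D a b) (h4 : IsFour F) (hL : L.Linear)
include hB h4 hL

theorem herm_zero_right {x : ↥(both D a b) → F} (hx : x ∈ L.X) : L.herm x 0 = 0 := by
  obtain ⟨p, hp⟩ := hB.toThick.prj_nonempty hB.ha hB.hb
  let p' : ↥(both D a b) := ⟨p, hp.1.1, hp.1.2.2.symm, hp.2⟩
  rw [← zero_smul F (L.y p'), L.herm_y hB h4 hL hx, zero_pow two_ne_zero, zero_mul]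

theorem bil_conj (v w : L.Sp) : L.bil v w ^ 2 = L.bil w v := by
  unfold bil
  rw [h4.sq_add, h4.sq_add, mul_pow, mul_pow, h4.pow_four, h4.pow_four,
    ← L.herm_symm hB h4 hL w.2.1.2 v.2.1.2]
  ring

theorem commute_b_fib (p : ↥(both D a b)) (l : F) : Commute b (L.e p l) ↔ l = 0 := by
  refine ⟨fun h => L.inj p ?_, fun h => by rw [h, L.zero]; exact p.2.2.2.symm⟩
  have h' : L.e p l ∈ both D a b := ⟨(L.mem p l).1.1, (L.comm_a hB p l).symm, h.symm⟩
  rw [L.zero]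
  exact hB.fib_unique p.2 h' (L.mem p l) (hB.self_mem_fib h')

omit h4 hL in
theorem commute_conj {q c : G} : Commute (q * b * q⁻¹) c ↔ Commute b (q⁻¹ * c * q) := by
  conv_lhs => rw [show c = q * (q⁻¹ * c * q) * q⁻¹ by simp [mul_assoc]]
  exact Commute.conj_iff q

theorem xv_inv {q : G} (hq : q ∈ L.Q) : L.xv q⁻¹ = L.xv q := by
  have h := L.xv_mul hB h4 (inv_mem hq) hq
  rw [inv_mul_cancel, L.xv_one hB h4] at h
  exact funext fun r => h4.add_eq_zero.1 (congrFun h r).symm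

theorem gam_quot {q q' : G} (hq : q ∈ L.Q) (hq' : q' ∈ L.Q) :
    L.gam (q⁻¹ * q') = L.gam q ^ 2 + L.gam q' + L.herm (L.xv q) (L.xv q') := by
  have h := L.gam_mul hB h4 hL hq (mul_mem (inv_mem hq) hq')
  rw [mul_inv_cancel_left, L.xv_mul hB h4 (inv_mem hq) hq', L.xv_inv hB h4 hL hq,
    L.herm_add_right hB h4 hL (L.xv_mem hB h4 hL hq) (L.xv_mem hB h4 hL hq)
      (L.xv_mem hB h4 hL hq')] at h
  have ht := L.gam_trace hB h4 hL hq
  linear_combination -h + ht + (-L.gam q ^ 2 - L.herm (L.xv q) (L.xv q') - L.gam q) * h4.two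

theorem rep_comm {d d' : G} {v v' : L.Sp} (h : L.Rep d v) (h' : L.Rep d' v') :
    Commute d d' ↔ L.bil v v' = 0 := by
  have hsymm : ∀ {d d' : G} {v v' : L.Sp}, (Commute d d' ↔ L.bil v v' = 0) →
      (Commute d' d ↔ L.bil v' v = 0) := by
    intro d d' v v' e
    rw [← L.bil_conj hB h4 hL v v', pow_eq_zero_iff two_ne_zero, ← e]
    exact ⟨Commute.symm, Commute.symm⟩
  have haf : ∀ p l, Commute a (L.e p l) ↔ L.bil (1, 0, 0) (L.fvec p l) = 0 := by
    intro p l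
    refine iff_of_true (L.comm_a hB p l) ?_
    simp [bil, fvec]
    refine L.herm_zero_right hB h4 hL ?_
    split
    · exact L.y_mem p
    · exact L.smul_y_mem l p
  have han : ∀ q ∈ L.Q, ∀ hx : L.xv q ∈ L.X,
      Commute a (q * b * q⁻¹) ↔ L.bil (1, 0, 0) (L.gam q ^ 2, ⟨L.xv q, hx⟩, 1) = 0 := by
    intro q hq hx
    refine iff_of_false (fun k => (L.conj_b_nbr hB h4 hq).2 k) ?_
    simp [bil, L.herm_zero_right hB h4 hL hx]
  have hff : ∀ p l r m, Commute (L.e p l) (L.e r m) ↔ L.bil (L.fvec p l) (L.fvec r m) = 0 := by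
    intro p l r m
    rw [hB.commute_fib p.2 r.2 (L.mem p l) (L.mem r m)]
    simp only [bil, fvec, L.herm_yy hB h4 hL, mul_zero, zero_add, zero_pow two_ne_zero, zero_mul]
    constructor
    · intro k
      rw [L.y_commute hB h4 k.symm, mul_zero]
    · intro k
      by_contra hn
      refine L.y_ne hB h4 (fun e => hn e.symm) ((mul_eq_zero.1 k).resolve_left (mul_ne_zero ?_ ?_))
      · split <;> simp_all
      · refine pow_ne_zero 2 ?_
        split <;> simp_all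
  have hfn : ∀ p l, ∀ q ∈ L.Q, ∀ hx : L.xv q ∈ L.X, Commute (L.e p l) (q * b * q⁻¹) ↔
      L.bil (L.fvec p l) (L.gam q ^ 2, ⟨L.xv q, hx⟩, 1) = 0 := by
    intro p l q hq hx
    have he := (L.isTrans hB h4 (inv_mem hq)).2 p l
    rw [inv_inv, L.xv_inv hB h4 hL hq] at he
    rw [show Commute (L.e p l) (q * b * q⁻¹) ↔ Commute (q * b * q⁻¹) (L.e p l) from
      ⟨Commute.symm, Commute.symm⟩, commute_conj hB, he, L.commute_b_fib hB h4 hL]
    simp only [bil, fvec, L.herm_y hB h4 hL hx, zero_pow two_ne_zero, zero_mul, mul_one, add_zero]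
    by_cases hl : l = 0
    · simp [hl]
    · simp only [if_neg hl, one_pow]
      constructor
      · intro k
        rw [h4.add_eq_zero] at k
        rw [← k, show l ^ 2 * l = 1 by rw [mul_comm, h4.cube hl], h4.add_self]
      · intro k
        rw [h4.add_eq_zero] at k ⊢
        calc l = l * (l ^ 2 * L.xv q p) := by rw [← k, mul_one]
          _ = L.xv q p := by rw [← mul_assoc, h4.cube hl, one_mul]
  have hnn : ∀ q ∈ L.Q, ∀ q' ∈ L.Q, ∀ (hx : L.xv q ∈ L.X) (hx' : L.xv q' ∈ L.X),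
      Commute (q * b * q⁻¹) (q' * b * q'⁻¹) ↔
        L.bil (L.gam q ^ 2, ⟨L.xv q, hx⟩, 1) (L.gam q' ^ 2, ⟨L.xv q', hx'⟩, 1) = 0 := by
    intro q hq q' hq' hx hx'
    have hm := mul_mem (inv_mem hq) hq'
    have e1 : Commute (q * b * q⁻¹) (q' * b * q'⁻¹) ↔
        ∃ (p : ↥(both D a b)) (l : F), q⁻¹ * q' = L.S p l := by
      rw [commute_conj hB,
        show q⁻¹ * (q' * b * q'⁻¹) * q = q⁻¹ * q' * b * (q⁻¹ * q')⁻¹ by simp [mul_assoc]]
      constructor
      · intro k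
        obtain ⟨p, l, e⟩ := L.near hB h4 hL (L.conj_b_nbr hB h4 hm) k.symm
        refine ⟨p, l, (inv_mul_eq_one.1 (L.free hB h4 (mul_mem (inv_mem (L.S_mem p l)) hm) ?_)).symm⟩
        calc (L.S p l)⁻¹ * (q⁻¹ * q') * b * ((L.S p l)⁻¹ * (q⁻¹ * q'))⁻¹
            = (L.S p l)⁻¹ * (q⁻¹ * q' * b * (q⁻¹ * q')⁻¹) * L.S p l := by simp [mul_assoc]
          _ = b := by rw [← e]; simp [mul_assoc]
      · rintro ⟨p, l, e⟩
        rw [e]
        exact (L.S_conj_commute hB p l).symm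
    rw [e1, ← L.gam_eq_zero hB h4 hL hm, L.gam_quot hB h4 hL hq hq',
      ← pow_eq_zero_iff (M₀ := F) (two_ne_zero : (2 : ℕ) ≠ 0) (a := L.bil _ _)]
    simp only [bil, h4.sq_add, mul_pow, h4.pow_four, one_pow, mul_one, one_mul]
    rw [← L.herm_symm hB h4 hL hx' hx]
  rcases h with ⟨rfl, rfl⟩ | ⟨p, l, rfl, rfl⟩ | ⟨q, hq, rfl, hx, rfl⟩ <;>
    rcases h' with ⟨rfl, rfl⟩ | ⟨r, m, rfl, rfl⟩ | ⟨q', hq', rfl, hx', rfl⟩
  · exact iff_of_true (Commute.refl _) (by simp [bil, L.herm_zero_right hB h4 hL (zero_mem _)])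
  · exact haf r m
  · exact han q' hq' hx'
  · exact hsymm (haf p l)
  · exact hff p l r m
  · exact hfn p l q' hq' hx'
  · exact hsymm (han q hq hx)
  · exact hsymm (hfn r m q hq hx)
  · exact hnn q hq q' hq' hx hx'

theorem rep_unique {d : G} {v v' : L.Sp} (h : L.Rep d v) (h' : L.Rep d v') : v = v' := by
  have haf : ∀ p l, L.e p l ≠ a := fun p l k => (L.mem p l).2 k
  have han : ∀ q ∈ L.Q, q * b * q⁻¹ ≠ a := fun q hq k =>
    (L.conj_b_nbr hB h4 hq).2 (k ▸ Commute.refl a)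
  have hfn : ∀ p l, ∀ q ∈ L.Q, L.e p l ≠ q * b * q⁻¹ := fun p l q hq k =>
    (L.conj_b_nbr hB h4 hq).2 (k ▸ L.comm_a hB p l)
  rcases h with ⟨rfl, rfl⟩ | ⟨p, l, rfl, rfl⟩ | ⟨q, hq, rfl, hx, rfl⟩ <;>
    rcases h' with ⟨e1, rfl⟩ | ⟨r, m, e1, rfl⟩ | ⟨q', hq', e1, hx', rfl⟩
  · rfl
  · exact absurd e1.symm (haf r m)
  · exact absurd e1.symm (han q' hq')
  · exact absurd e1 (haf p l)
  · obtain rfl : r = p := Subtype.ext
      (hB.fib_unique p.2 r.2 (L.mem p l) (e1 ▸ L.mem r m))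
    rw [L.inj r e1]
  · exact absurd e1 (hfn p l q' hq')
  · exact absurd e1 (han q hq)
  · exact absurd e1.symm (hfn r m q hq)
  · have h1 := L.free hB h4 (mul_mem (inv_mem hq') hq) (by
      calc q'⁻¹ * q * b * (q'⁻¹ * q)⁻¹ = q'⁻¹ * (q * b * q⁻¹) * q' := by simp [mul_assoc]
        _ = b := by rw [e1]; simp [mul_assoc])
    obtain rfl := inv_mul_eq_one.1 h1
    rfl

theorem exists_rep {d : G} (hd : d ∈ D) : ∃ v, L.Rep d v ∧ v ≠ 0 := by
  classical
  by_cases hda : d = a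
  · exact ⟨_, Or.inl ⟨hda, rfl⟩, fun h => one_ne_zero (congrArg Prod.fst h)⟩
  by_cases hc : Commute a d
  · obtain ⟨p, hp, hv⟩ := hB.proj ⟨hd, hda, hc⟩
    obtain ⟨l, hl⟩ := L.surj hB h4 ⟨p, hp⟩ hv
    refine ⟨_, Or.inr (Or.inl ⟨⟨p, hp⟩, l, hl.symm, rfl⟩), fun h => ?_⟩
    have h2 : (if l = 0 then (1 : F) else l) • L.y ⟨p, hp⟩ = 0 :=
      congrArg (fun v : L.Sp => (v.2.1 : ↥(both D a b) → F)) h
    have h3 := L.smul_y_eq_zero hB h4 hL h2
    split at h3 <;> simp_all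
  · obtain ⟨q, hq, h⟩ := L.trans hB h4 hL ⟨hd, hc⟩
    exact ⟨_, Or.inr (Or.inr ⟨q, hq, h.symm, L.xv_mem hB h4 hL hq, rfl⟩),
      fun h => one_ne_zero (congrArg (fun v : L.Sp => v.2.2) h)⟩

theorem cover (v : L.Sp) (hv : v ≠ 0) (h0 : L.bil v v = 0) :
    ∃ d ∈ D, ∃ (w : L.Sp) (k : F), L.Rep d w ∧ k ≠ 0 ∧ v = k • w := by
  obtain ⟨α, ⟨x, hx⟩, β⟩ := v
  simp only [bil] at h0
  by_cases hβ : β = 0
  · subst hβ
    rw [mul_zero, zero_pow two_ne_zero, zero_mul, add_zero, zero_add] at h0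
    obtain ⟨p, l, hxy⟩ := L.exists_y hB h4 hL hx h0
    by_cases hl : l = 0
    · rw [hl, zero_smul] at hxy
      subst hxy
      have hα : α ≠ 0 := fun k => hv (by rw [k]; rfl)
      refine ⟨a, hB.ha, _, α, Or.inl ⟨rfl, rfl⟩, hα, ?_⟩
      ext <;> simp
    · by_cases hα : α = 0
      · refine ⟨L.e p 0, (L.mem p 0).1.1, _, l, Or.inr (Or.inl ⟨p, 0, rfl, rfl⟩), hl, ?_⟩
        ext <;> simp [fvec, hα, hxy]
      · have hne : l / α ≠ 0 := div_ne_zero hl hα
        refine ⟨L.e p (l / α), (L.mem p _).1.1, _, α, Or.inr (Or.inl ⟨p, _, rfl, rfl⟩), hα, ?_⟩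
        ext z
        · simp [fvec, hne]
        · simp [fvec, hne, hxy]
          field_simp
        · simp [fvec]
  · obtain ⟨q, hq, hqx⟩ := L.exists_xv hB h4 hL (Submodule.smul_mem L.X β⁻¹ hx)
    have ht := L.gam_trace hB h4 hL hq
    have hself : L.herm (L.xv q) (L.xv q) = α / β + (α / β) ^ 2 := by
      rw [hqx, herm_smul_left, L.herm_smul_right hB h4 hL _ hx hx]
      have hh : L.herm x x = α ^ 2 * β + β ^ 2 * α := by
        linear_combination h0 - (α ^ 2 * β + β ^ 2 * α) * h4.two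
      rw [hh]
      field_simp
      ring
    rw [hself] at ht
    have hbit := (h4.trace_eq_zero (x := L.gam q ^ 2 + α / β)).1
      (by rw [h4.sq_add, h4.pow_four]; linear_combination ht + (α / β + (α / β) ^ 2) * h4.two)
    obtain ⟨q', hq', hx', hg⟩ : ∃ q' ∈ L.Q, L.xv q' = β⁻¹ • x ∧ L.gam q' ^ 2 = α / β := by
      rcases hbit with h | h
      · exact ⟨q, hq, hqx, h4.add_eq_zero.1 h⟩
      · refine ⟨q * a, mul_mem hq L.a_mem, ?_, ?_⟩
        · rw [L.xv_mul hB h4 hq L.a_mem, L.xv_a hB, add_zero, hqx]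
        · rw [L.gam_mul hB h4 hL hq L.a_mem, L.gam_a hB h4 hL, L.xv_a hB,
            L.herm_zero_right hB h4 hL (L.xv_mem hB h4 hL hq), add_zero, h4.sq_add, one_pow]
          linear_combination h + (1 - α / β) * h4.two
    refine ⟨q' * b * q'⁻¹, hB.toTClass.conj _ b hB.hb.1, _, β,
      Or.inr (Or.inr ⟨q', hq', rfl, L.xv_mem hB h4 hL hq', rfl⟩), hβ, ?_⟩
    ext z
    · simp [hg]
      field_simp
    · simp [hx', hβ]
    · simp

end Lab

/-- The member of the class is a point of a hermitian space of dimension at least four. -/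
structure HermModel {G : Type u} [Group G] (D : Set G) (F : Type) [Field F] (n : ℕ) where
  pt : ↥D → (Fin n → F)
  ne_zero : ∀ d, pt d ≠ 0
  commute : ∀ d c : ↥D, Commute (d : G) c ↔ Cfsg.hermForm n F 2 (pt c) (pt d) = 0
  cover : ∀ v, v ≠ 0 → Cfsg.hermForm n F 2 v v = 0 → ∃ d, ∃ k : F, k ≠ 0 ∧ v = k • pt d

theorem Base.exists_model [Fintype F] (hB : Base D a b) (hF : Fintype.card F = 4) :
    ∃ n, 4 ≤ n ∧ Nonempty (HermModel D F n) := by
  classical
  have h4 : IsFour F := ⟨by rw [Nat.card_eq_fintype_card, hF]⟩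
  have hF' : Fintype.card F = 2 ^ 2 := hF
  obtain ⟨L, hL⟩ := hB.exists_linear h4
  let B : L.Sp →ₛₗ[Forms.qEnd hF'] L.Sp →ₗ[F] F :=
    LinearMap.mk₂'ₛₗ (Forms.qEnd hF') (RingHom.id F) L.bil
      (fun v v' w => by
        simp only [Lab.bil, Prod.fst_add, Prod.snd_add, Submodule.coe_add, h4.sq_add,
          L.herm_add_right hB h4 hL w.2.1.2 v.2.1.2 v'.2.1.2]
        ring)
      (fun c v w => by
        simp only [Lab.bil, Prod.smul_fst, Prod.smul_snd, Submodule.coe_smul, smul_eq_mul,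
          Forms.qEnd_apply, L.herm_smul_right hB h4 hL c w.2.1.2 v.2.1.2]
        ring)
      (fun v w w' => by
        simp only [Lab.bil, Prod.fst_add, Prod.snd_add, Submodule.coe_add, Lab.herm_add_left]
        ring)
      (fun c v w => by
        simp only [Lab.bil, Prod.smul_fst, Prod.smul_snd, Submodule.coe_smul, smul_eq_mul,
          RingHom.id_apply, Lab.herm_smul_left]
        ring)
  have hBa : ∀ v w, B v w = L.bil v w := fun v w => rfl
  have hS : ∀ x y, Forms.qEnd hF' (B x y) = B y x := fun x y => by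
    rw [Forms.qEnd_apply, hBa, hBa]
    exact L.bil_conj hB h4 hL x y
  have hN : ∀ x, (∀ y, B x y = 0) → x = 0 := by
    intro x hx
    have h1 := hx (0, 0, 1)
    have h2 := hx (1, 0, 0)
    simp only [hBa, Lab.bil, mul_one, mul_zero, Submodule.coe_zero, add_zero] at h1 h2
    have h0 : ∀ z : ↥(both D a b) → F, L.herm 0 z = 0 := fun z => by
      rw [← zero_smul F (0 : ↥(both D a b) → F), L.herm_smul_left, zero_mul]
    rw [h0, add_zero, pow_eq_zero_iff two_ne_zero] at h1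
    rw [h0, zero_add, add_zero, pow_eq_zero_iff two_ne_zero] at h2
    have h3 : (x.2.1 : ↥(both D a b) → F) = 0 := L.herm_nondeg hB h4 hL x.2.1.2 fun z hz => by
      have := hx (0, ⟨z, hz⟩, 0)
      simp only [hBa, Lab.bil, h1, h2, zero_pow two_ne_zero, zero_mul, zero_add] at this
      rw [L.herm_symm hB h4 hL hz x.2.1.2, this, zero_pow two_ne_zero]
    exact Prod.ext h1 (Prod.ext (Subtype.ext h3) h2)
  obtain ⟨e, he⟩ := Forms.exists_herm_coords hF' hS hN
  have hform : ∀ v w, Cfsg.hermForm _ F 2 (e w) (e v) = L.bil v w := fun v w =>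
    (he v w).symm.trans (hBa v w)
  choose Φ hΦ hΦ0 using fun d : ↥D => L.exists_rep hB h4 hL d.2
  have hX : 2 ≤ Module.finrank F ↥L.X := by
    obtain ⟨p, hp⟩ := hB.toThick.prj_nonempty hB.ha hB.hb
    let p' : ↥(both D a b) := ⟨p, hp.1.1, hp.1.2.2.symm, hp.2⟩
    obtain ⟨t, ht, htp⟩ := hB.exists_ne p'.2
    have hli : LinearIndependent F ![(⟨_, L.y_mem p'⟩ : ↥L.X), ⟨_, L.y_mem ⟨t, ht⟩⟩] := by
      rw [LinearIndependent.pair_iff]
      intro s k h
      have h' : s • L.y p' + k • L.y ⟨t, ht⟩ = 0 := congrArg Subtype.val h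
      have h'' : s • L.y p' = k • L.y ⟨t, ht⟩ := funext fun z =>
        h4.add_eq_zero.1 (congrFun h' z)
      by_cases hs : s = 0
      · rw [hs, zero_smul] at h''
        exact ⟨hs, L.smul_y_eq_zero hB h4 hL h''.symm⟩
      · refine absurd (L.eq_of_smul_y hB h4 hL h'' hs).1 fun k => htp ?_
        rw [show t = (p' : G) from (congrArg (fun w : ↥(both D a b) => (w : G)) k).symm]
    simpa using hli.fintype_card_le_finrank
  refine ⟨Module.finrank F L.Sp, ?_, ⟨⟨fun d => e (Φ d), fun d h => hΦ0 d ((map_eq_zero_iff e e.injective).1 h),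
    fun d c => ?_, fun v hv h0 => ?_⟩⟩⟩
  · rw [show Module.finrank F L.Sp = 1 + (Module.finrank F ↥L.X + 1) by
      rw [Module.finrank_prod, Module.finrank_prod, Module.finrank_self]]
    omega
  · rw [hform]
    exact L.rep_comm hB h4 hL (hΦ d) (hΦ c)
  · obtain ⟨d, hd, w, k, hw, hk, hvk⟩ := L.cover hB h4 hL (e.symm v)
      (fun h => hv (by rw [← e.apply_symm_apply v, h, map_zero]))
      (by rw [← hform, e.apply_symm_apply]; exact h0)
    refine ⟨⟨d, hd⟩, k, hk, ?_⟩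
    rw [← e.apply_symm_apply v, hvk, map_smul, L.rep_unique hB h4 hL hw (hΦ ⟨d, hd⟩)]

end Cfsg.Agent.Fischer.Polar
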