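import Mathlib

/-!
The field of four elements, and signs on a graph whose triangles are balanced.
-/

set_option autoImplicit false

namespace Cfsg.Agent.Fischer.Polar

/-- A field with four elements. -/
structure IsFour (F : Type) [Field F] : Prop where
  card : Nat.card F = 4

namespace IsFour

variable {F : Type} [Field F] (h4 : IsFour F)
include h4

theorem finite : Finite F := Nat.finite_of_card_ne_zero (by rw [h4.card]; norm_num)

theorem two : (2 : F) = 0 := by
  have : Finite F := h4.finite
  have : Fintype F := Fintype.ofFinite F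
  have h : ((4 : ℕ) : F) = 0 := by
    rw [← h4.card, Nat.card_eq_fintype_card]; exact Nat.cast_card_eq_zero F
  have : (2 : F) * 2 = 0 := by rw [← h]; norm_num
  exact mul_self_eq_zero.1 this

theorem add_self (x : F) : x + x = 0 := by linear_combination x * h4.two

theorem add_eq_zero {x y : F} : x + y = 0 ↔ x = y :=
  ⟨fun h => by linear_combination h - y * h4.two, fun h => by rw [h]; exact h4.add_self y⟩

theorem add_cancel (x y : F) : x + y + y = x := by linear_combination y * h4.two

theorem pow_four (x : F) : (x ^ 2) ^ 2 = x := by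
  have : Finite F := h4.finite
  have : Fintype F := Fintype.ofFinite F
  have := FiniteField.pow_card x
  rw [← Nat.card_eq_fintype_card, h4.card] at this
  rw [← pow_mul]; exact this

theorem cube {x : F} (hx : x ≠ 0) : x * x ^ 2 = 1 := by
  refine mul_left_cancel₀ hx ?_
  linear_combination h4.pow_four x

theorem sq_add (x y : F) : (x + y) ^ 2 = x ^ 2 + y ^ 2 := by linear_combination x * y * h4.two

theorem sq_inj {x y : F} (h : x ^ 2 = y ^ 2) : x = y := by rw [← h4.pow_four x, h, h4.pow_four]

theorem cases (x : F) : x = 0 ∨ x = 1 ∨ x ^ 2 = x + 1 := by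
  by_cases h0 : x = 0
  · exact Or.inl h0
  by_cases h1 : x = 1
  · exact Or.inr (Or.inl h1)
  refine Or.inr (Or.inr ?_)
  have h : (x - 1) * (x ^ 2 + x + 1) = 0 := by linear_combination h4.cube h0
  have h' := (mul_eq_zero.1 h).resolve_left (sub_ne_zero.2 h1)
  linear_combination h' - (x + 1) * h4.two

theorem trace (x : F) : x + x ^ 2 = 0 ∨ x + x ^ 2 = 1 := by
  rcases h4.cases x with h | h | h
  · left; rw [h]; ring
  · left; rw [h]; linear_combination h4.two
  · right; rw [h]; linear_combination x * h4.two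

theorem trace_eq_zero {x : F} : x + x ^ 2 = 0 ↔ x = 0 ∨ x = 1 := by
  refine ⟨fun h => ?_, ?_⟩
  · rcases h4.cases x with h' | h' | h'
    · exact Or.inl h'
    · exact Or.inr h'
    · exact absurd (show (1 : F) = 0 by linear_combination h - h' - x * h4.two) one_ne_zero
  · rintro (rfl | rfl)
    · ring
    · linear_combination h4.two

theorem pair_cases {u v : F} (hu : ¬(u = 0 ∨ u = 1)) (hv : ¬(v = 0 ∨ v = 1)) :
    v = u ∨ v = u ^ 2 := by
  rw [not_or] at hu hv
  have h1 := ((h4.cases u).resolve_left hu.1).resolve_left hu.2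
  have h2 := ((h4.cases v).resolve_left hv.1).resolve_left hv.2
  have h : (v + u) * (v + u + 1) = 0 := by linear_combination h1 + h2 + (u * v + u + v + 1) * h4.two
  rcases mul_eq_zero.1 h with h | h
  · exact Or.inl (h4.add_eq_zero.1 h)
  · exact Or.inr (by linear_combination h - h1 - (u + 1) * h4.two)

theorem eq_four {c lam z : F} (hc : c ≠ 0) (h0 : lam ≠ 0) (hl : lam ≠ c) :
    z = 0 ∨ z = c ∨ z = lam ∨ z = lam + c := by
  classical
  have : Finite F := h4.finite
  have : Fintype F := Fintype.ofFinite F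
  have n1 : lam + c ≠ 0 := fun h => hl (h4.add_eq_zero.1 h)
  have n2 : lam + c ≠ c := fun h => h0 (by linear_combination h)
  have n3 : lam + c ≠ lam := fun h => hc (by linear_combination h)
  have h := Finset.eq_univ_of_card ({0, c, lam, lam + c} : Finset F) (by
    rw [Finset.card_insert_of_notMem (by simp [hc.symm, h0.symm, n1.symm]),
      Finset.card_insert_of_notMem (by simp [hl.symm, n2.symm]),
      Finset.card_pair n3.symm, ← Nat.card_eq_fintype_card, h4.card])
  have := Finset.mem_univ z
  rw [← h] at this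
  simpa using this

/-- An involution without fixed point is a translation. -/
theorem translation (f : F → F) (hinv : ∀ x, f (f x) = x) (hfree : ∀ x, f x ≠ x) (x : F) :
    f x = x + f 0 := by
  have hc : f 0 ≠ 0 := hfree 0
  by_cases h0 : x = 0
  · rw [h0, zero_add]
  by_cases hx : x = f 0
  · rw [hx, hinv, h4.add_self]
  rcases h4.eq_four (z := f x) hc h0 hx with h | h | h | h
  · exact absurd (by rw [← h, hinv]) hx
  · exact absurd (by rw [← hinv x, h, hinv]) h0
  · exact absurd h (hfree x)
  · exact h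

/-- An additive injection is linear or semilinear. -/
theorem linear_or_semi (f : F → F) (hadd : ∀ x y, f (x + y) = f x + f y)
    (hker : ∀ x, f x = 0 → x = 0) :
    (∀ x, f x = x * f 1) ∨ (∀ x, f x = x ^ 2 * f 1) := by
  have : Finite F := h4.finite
  have : Fintype F := Fintype.ofFinite F
  classical
  obtain ⟨w, -, hw⟩ := Finset.exists_mem_notMem_of_card_lt_card
    (s := ({0, 1} : Finset F)) (t := Finset.univ)
    (Finset.card_le_two.trans_lt (by
      rw [Finset.card_univ, ← Nat.card_eq_fintype_card, h4.card]; norm_num))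
  simp only [Finset.mem_insert, Finset.mem_singleton, not_or] at hw
  have hw2 := ((h4.cases w).resolve_left hw.1).resolve_left hw.2
  have f0 : f 0 = 0 := by
    have := hadd 0 0
    rw [add_zero] at this
    linear_combination -this
  have f1 : f 1 ≠ 0 := fun h => one_ne_zero (hker 1 h)
  have hall : ∀ x, x = 0 ∨ x = 1 ∨ x = w ∨ x = w + 1 := fun x =>
    h4.eq_four one_ne_zero hw.1 hw.2
  have key : f w = w * f 1 ∨ f w = w ^ 2 * f 1 := by
    have e : f w = f w / f 1 * f 1 := (div_mul_cancel₀ _ f1).symm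
    rcases hall (f w / f 1) with h | h | h | h <;> rw [h] at e
    · exact absurd (hker w (by rw [e, zero_mul])) hw.1
    · rw [one_mul] at e
      exact absurd (h4.add_eq_zero.1 (hker _ (by rw [hadd, e, h4.add_self]))) hw.2
    · exact Or.inl e
    · rw [← hw2] at e; exact Or.inr e
  rcases key with h | h
  · left
    intro x
    rcases hall x with rfl | rfl | rfl | rfl
    · rw [f0, zero_mul]
    · rw [one_mul]
    · exact h
    · rw [hadd, h]; ring
  · right
    intro x
    rcases hall x with rfl | rfl | rfl | rfl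
    · rw [f0]; ring
    · rw [one_pow, one_mul]
    · exact h
    · rw [hadd, h, h4.sq_add]; ring

end IsFour

/-- Signs on the edges, balanced on triangles, come from signs on the vertices. -/
theorem exists_potential {ι : Type*} (R P : ι → ι → Prop) (hR : ∀ p q, R p q → R q p)
    (hP : ∀ p q, R p q → (P p q ↔ P q p))
    (htri : ∀ p q r, R p q → R p r → R r q → (P p q ↔ (P p r ↔ P r q)))
    (hmid : ∀ p r, ¬R p r → ∃ m, R p m ∧ R m r)
    (hthird : ∀ p q, R p q → ∃ s, R p s ∧ R q s ∧ ∀ t,
      (¬R t p ∧ R t q) ∨ (¬R t q ∧ R t p) → R t s) (p₀ : ι) :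
    ∃ ε : ι → Prop, ∀ p r, R p r → (P p r ↔ (ε p ↔ ε r)) := by
  classical
  have hsq : ∀ p q r q', R p q → R q r → R p q' → R q' r → ¬R p r →
      ((P p q ↔ P q r) ↔ (P p q' ↔ P q' r)) := by
    intro p q r q' hpq hqr hpq' hq'r hn
    by_cases hqq : R q q'
    · have t1 := htri p q q' hpq hpq' (hR _ _ hqq)
      have t2 := htri q r q' hqr hqq hq'r
      have e1 := hP _ _ hqq
      grind
    · obtain ⟨s, hps, hqs, hs⟩ := hthird p q hpq
      have hrs : R r s := hs r (Or.inl ⟨fun k => hn (hR _ _ k), hR _ _ hqr⟩)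
      have hq's : R q' s := hs q' (Or.inr ⟨fun k => hqq (hR _ _ k), hR _ _ hpq'⟩)
      have t1 := htri p q s hpq hps (hR _ _ hqs)
      have t2 := htri q r s hqr hqs (hR _ _ hrs)
      have t3 := htri p q' s hpq' hps (hR _ _ hq's)
      have t4 := htri q' r s hq'r hq's (hR _ _ hrs)
      have e1 := hP _ _ hqs
      have e2 := hP _ _ hq's
      grind
  let m : ι → ι := fun r => if h : R p₀ r then r else (hmid p₀ r h).choose
  refine ⟨fun r => if R p₀ r then P p₀ r else (P p₀ (m r) ↔ P (m r) r), ?_⟩
  have hm : ∀ r, ¬R p₀ r → R p₀ (m r) ∧ R (m r) r := by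
    intro r h
    simp only [m, dif_neg h]
    exact (hmid p₀ r h).choose_spec
  intro p r hpr
  show P p r ↔ ((if R p₀ p then P p₀ p else (P p₀ (m p) ↔ P (m p) p)) ↔
    (if R p₀ r then P p₀ r else (P p₀ (m r) ↔ P (m r) r)))
  by_cases hp : R p₀ p <;> by_cases hr : R p₀ r
  · rw [if_pos hp, if_pos hr]
    have t := htri p₀ r p hr hp hpr
    grind
  · rw [if_pos hp, if_neg hr]
    obtain ⟨h1, h2⟩ := hm r hr
    have t := hsq p₀ p r (m r) hp hpr h1 h2 hr
    grind
  · rw [if_neg hp, if_pos hr]
    obtain ⟨h1, h2⟩ := hm p hp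
    have t := hsq p₀ r p (m p) hr (hR _ _ hpr) h1 h2 hp
    have e := hP _ _ hpr
    grind
  · rw [if_neg hp, if_neg hr]
    obtain ⟨h1, h2⟩ := hm p hp
    obtain ⟨h3, h4⟩ := hm r hr
    obtain ⟨n, hn0, hnp, hnr⟩ : ∃ n, R p₀ n ∧ R n p ∧ R n r := by
      by_cases hk : R (m p) r
      · exact ⟨m p, h1, h2, hk⟩
      obtain ⟨s, -, hsp, hs⟩ := hthird (m p) p h2
      exact ⟨s, hs p₀ (Or.inr ⟨hp, h1⟩), hR _ _ hsp,
        hR _ _ (hs r (Or.inl ⟨fun k => hk (hR _ _ k), hR _ _ hpr⟩))⟩
    have t1 := hsq p₀ n p (m p) hn0 hnp h1 h2 hp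
    have t2 := hsq p₀ n r (m r) hn0 hnr h3 h4 hr
    have t3 := htri p r n hpr (hR _ _ hnp) hnr
    have e := hP _ _ hnp
    grind

end Cfsg.Agent.Fischer.Polar
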