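import Cfsg.Agent.Lib.Fischer.Polar.Five
import Cfsg.Agent.Lib.Fischer.Polar.Four

/-!
The lines through a point and their translations.
-/

set_option autoImplicit false

namespace Cfsg.Agent.Fischer.Polar

open Cfsg Cfsg.Agent.Fischer.Solv

universe u

/-- A pair of members that do not commute, with five points on every line. -/
structure Base {G : Type u} [Group G] (D : Set G) (a b : G) : Prop extends Five D where
  ha : a ∈ D
  hb : b ∈ nbr D a

/-- The points other than `a` of the line through `a` and `p`. -/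
def fib {G : Type u} [Group G] (D : Set G) (a p : G) : Set G := line D a p \ {a}

variable {G : Type u} [Group G] [Finite G] {D : Set G} {a b : G}

namespace Base

variable (hB : Base D a b)
include hB

theorem mem_perp {p : G} (hp : p ∈ both D a b) : p ∈ perp D a :=
  ⟨hp.1, fun h => hB.hb.2 (h ▸ hp.2.2), hp.2.1.symm⟩

theorem mem_perp_right {p : G} (hp : p ∈ both D a b) : p ∈ perp D b :=
  ⟨hp.1, fun h => hB.hb.2 (h ▸ hp.2.1).symm, hp.2.2.symm⟩

theorem fib_perp {p v : G} (hp : p ∈ both D a b) (hv : v ∈ fib D a p) : v ∈ perp D a :=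
  mem_perp_of_mem_line hB.ha (hB.mem_perp hp) hv.1 hv.2

theorem self_mem_fib {p : G} (hp : p ∈ both D a b) : p ∈ fib D a p :=
  ⟨right_mem_line hB.ha (hB.mem_perp hp), (hB.mem_perp hp).2.1⟩

theorem proj {v : G} (hv : v ∈ perp D a) : ∃ p ∈ both D a b, v ∈ fib D a p := by
  obtain ⟨y, hy, hby⟩ := hB.one a hB.ha v hv b hB.hb.1
  have hya : y ≠ a := fun h => hB.hb.2 (h ▸ hby).symm
  refine ⟨y, ⟨hy.1, line_commute_left hB.ha hv hy, hby.symm⟩, ?_, hv.2.1⟩
  rw [hB.toThick.line_eq_left hB.ha hv hy hya]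
  exact right_mem_line hB.ha hv

theorem unique {p r : G} (hp : p ∈ both D a b) (hr : r ∈ both D a b) (h : r ∈ line D a p) :
    r = p := by
  by_contra hne
  exact hB.hb.2 (hB.toThick.commute_line hB.ha (hB.mem_perp hp)
    (right_mem_line hB.ha (hB.mem_perp hp)) h (Ne.symm hne)
    (left_mem_line hB.ha (hB.mem_perp hp)) hB.hb.1 hp.2.2.symm hr.2.2.symm)

theorem fib_unique {p r v : G} (hp : p ∈ both D a b) (hr : r ∈ both D a b)
    (hvp : v ∈ fib D a p) (hvr : v ∈ fib D a r) : r = p := by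
  refine hB.unique hp hr ?_
  rw [← hB.toThick.line_eq_left hB.ha (hB.mem_perp hp) hvp.1 hvp.2,
    hB.toThick.line_eq_left hB.ha (hB.mem_perp hr) hvr.1 hvr.2]
  exact right_mem_line hB.ha (hB.mem_perp hr)

theorem commute_fib_left {p v c : G} (hp : p ∈ both D a b) (hv : v ∈ fib D a p)
    (hc : c ∈ D) (hca : Commute c a) : Commute c v ↔ Commute c p :=
  (hB.toThick.commute_iff_of_line hB.ha (hB.mem_perp hp) hv.1 hv.2 hc hca).symm

theorem commute_fib {p r v u : G} (hp : p ∈ both D a b) (hr : r ∈ both D a b)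
    (hv : v ∈ fib D a p) (hu : u ∈ fib D a r) : Commute v u ↔ Commute p r := by
  rw [hB.commute_fib_left hr hu hv.1.1 (hB.fib_perp hp hv).2.2.symm]
  exact ⟨fun h => ((hB.commute_fib_left hp hv hr.1 hr.2.1).1 h.symm).symm,
    fun h => ((hB.commute_fib_left hp hv hr.1 hr.2.1).2 h.symm).symm⟩

theorem sep {p r : G} (hp : p ∈ both D a b) (hr : r ∈ both D a b) (hne : p ≠ r) :
    ∃ t ∈ both D a b, Commute t p ∧ ¬Commute t r := by
  have hnl : r ∉ line D a p := fun h => hne (hB.unique hp hr h).symm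
  obtain ⟨d, hd, hnd⟩ : ∃ d ∈ both D a p, ¬Commute r d := by
    by_contra h
    push Not at h
    exact hnl ⟨hr.1, h⟩
  have hda : d ∈ perp D a := ⟨hd.1, fun k => hnd (k ▸ hr.2.1), hd.2.1.symm⟩
  obtain ⟨t, ht, hdt⟩ := hB.proj hda
  refine ⟨t, ht, ((hB.commute_fib_left ht hdt hp.1 hp.2.1).1 hd.2.2.symm).symm, fun k => hnd ?_⟩
  exact (hB.commute_fib_left ht hdt hr.1 hr.2.1).2 k.symm

theorem exists_ne {p : G} (hp : p ∈ both D a b) : ∃ t ∈ both D a b, ¬Commute t p := by
  obtain ⟨t, ht, hn⟩ := hB.toPolar.exists_not_commute_both hB.ha hB.hb hp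
  exact ⟨t, ht, fun k => hn k.symm⟩

theorem third_mem {p r : G} (hp : p ∈ both D a b) (hr : r ∈ both D a b) :
    p * r * p ∈ both D a b := by
  refine ⟨hB.ts.conj_mem hp.1 hr.1, ?_, ?_⟩
  · exact (commute_invol_conj_left (hB.sq p hp.1)).2
      (by rw [invol_conj_eq_of_commute (hB.sq p hp.1) hp.2.1]; exact hr.2.1)
  · exact (commute_invol_conj_left (hB.sq p hp.1)).2
      (by rw [invol_conj_eq_of_commute (hB.sq p hp.1) hp.2.2]; exact hr.2.2)

omit [Finite G] in
theorem third_spec {p r t : G} (hp : p ∈ D) (hr : r ∈ D) (hpr : ¬Commute p r)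
    (h : (¬Commute t p ∧ Commute t r) ∨ (¬Commute t r ∧ Commute t p)) :
    ¬Commute t (p * r * p) := by
  intro k
  rcases h with ⟨h1, h2⟩ | ⟨h1, h2⟩
  · rw [hB.ts.braid hp hr hpr] at k
    exact h1 ((hB.ts.commute_third_iff hr h2.symm).1 k.symm).symm
  · exact h1 ((hB.ts.commute_third_iff hp h2.symm).1 k.symm).symm

theorem middle {p r : G} (hp : p ∈ both D a b) (hr : r ∈ both D a b) :
    ∃ m ∈ both D a b, ¬Commute m p ∧ ¬Commute m r := by
  obtain ⟨m, hm, hmp⟩ := hB.exists_ne hp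
  by_cases hmr : Commute m r
  swap
  · exact ⟨m, hm, hmp, hmr⟩
  obtain ⟨n, hn, hnr⟩ := hB.exists_ne hr
  by_cases hnp : Commute n p
  swap
  · exact ⟨n, hn, hnp, hnr⟩
  by_cases hmn : Commute m n
  · have hne : m ≠ n := fun h => hnr (h ▸ hmr)
    have hpn : n ∈ perp D m := ⟨hn.1, Ne.symm hne, hmn⟩
    obtain ⟨x, hx, hxm, hxn⟩ := hB.twins m hm.1 n hpn
    have hl := left_mem_line hm.1 hpn
    have hrl := right_mem_line hm.1 hpn
    refine ⟨x, ⟨hx.1, hx.2 a ⟨hB.ha, hm.2.1.symm, hn.2.1.symm⟩,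
      hx.2 b ⟨hB.hb.1, hm.2.2.symm, hn.2.2.symm⟩⟩, fun k => hmp ?_, fun k => hnr ?_⟩
    · exact hB.toThick.commute_line hm.1 hpn hx hrl hxn hl hp.1 k.symm hnp.symm
    · exact hB.toThick.commute_line hm.1 hpn hx hl hxm hrl hr.1 k.symm hmr.symm
  · refine ⟨m * n * m, hB.third_mem hm hn, fun k => ?_, fun k => ?_⟩
    · exact hB.third_spec hm.1 hn.1 hmn (Or.inl ⟨fun e => hmp e.symm, hnp.symm⟩) k.symm
    · exact hB.third_spec hm.1 hn.1 hmn (Or.inr ⟨fun e => hnr e.symm, hmr.symm⟩) k.symm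

theorem fib_card {p : G} (hp : p ∈ both D a b) : (fib D a p).ncard = 4 := by
  rw [fib, Set.ncard_sdiff_singleton_of_mem (left_mem_line hB.ha (hB.mem_perp hp)),
    hB.five a hB.ha p (hB.mem_perp hp)]

theorem move_mem {p v r t : G} (hp : p ∈ both D a b) (hv : v ∈ fib D a p) (hr : r ∈ both D a b)
    (ht : t ∈ fib D a r) : p * (v * t * v) * p ∈ fib D a r := by
  have htp := hB.fib_perp hr ht
  refine ⟨?_, fun h => ht.2 ?_⟩
  · have := hB.toFive.conj_line_pair hB.ha (hB.mem_perp hp) hv.1 hv.2 htp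
    rwa [hB.toThick.line_eq_left hB.ha (hB.mem_perp hr) ht.1 ht.2] at this
  · refine invol_conj_inj (hB.sq v hv.1.1) (invol_conj_inj (hB.sq p hp.1) (Eq.trans h ?_))
    rw [invol_conj_eq_of_commute (hB.sq v hv.1.1) (hB.fib_perp hp hv).2.2.symm,
      invol_conj_eq_of_commute (hB.sq p hp.1) hp.2.1]

theorem move_ne {p v r t : G} (hp : p ∈ both D a b) (hv : v ∈ fib D a p) (hr : r ∈ both D a b)
    (ht : t ∈ fib D a r) (hvp : v ≠ p) (hpr : ¬Commute p r) : p * (v * t * v) * p ≠ t := by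
  intro h
  have hvt : ¬Commute v t := fun k => hpr ((hB.commute_fib hp hr hv ht).1 k)
  have hpt : ¬Commute p t := fun k => hpr ((hB.commute_fib hp hr (hB.self_mem_fib hp) ht).1 k)
  have h1 : v * t * v = p * t * p := by
    conv_rhs => rw [← h]
    exact (invol_conj_invol (hB.sq p hp.1) _).symm
  rw [hB.ts.braid hv.1.1 ht.1.1 hvt, hB.ts.braid hp.1 ht.1.1 hpt] at h1
  exact hvp (invol_conj_inj (hB.sq t ht.1.1) h1)

end Base

/-- A labelling of the fibres by the field of four elements. -/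
structure Lab (D : Set G) (a b : G) (F : Type) [Field F] where
  e : ↥(both D a b) → F → G
  mem : ∀ (r : ↥(both D a b)) l, e r l ∈ fib D a (r : G)
  inj : ∀ r, Function.Injective (e r)
  zero : ∀ r : ↥(both D a b), e r 0 = (r : G)

variable {F : Type} [Field F]

theorem Base.exists_lab (hB : Base D a b) (h4 : IsFour F) : Nonempty (Lab D a b F) := by
  classical
  have : Finite F := h4.finite
  have hcard : ∀ r : ↥(both D a b), Nonempty (F ≃ ↥(fib D a r)) := fun r =>
    ⟨(Finite.equivFinOfCardEq h4.card).trans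
      (Finite.equivFinOfCardEq ((Nat.card_coe_set_eq _).trans (hB.fib_card r.2))).symm⟩
  let f : ∀ r : ↥(both D a b), F ≃ ↥(fib D a r) := fun r =>
    Equiv.setValue (hcard r).some 0 ⟨r, hB.self_mem_fib r.2⟩
  exact ⟨⟨fun r l => f r l, fun r l => (f r l).2,
    fun r x y h => (f r).injective (Subtype.ext h),
    fun r => congrArg Subtype.val (Equiv.setValue_eq _ _ _)⟩⟩

namespace Lab

variable (L : Lab D a b F)

/-- The basic translation. -/
def g (p : ↥(both D a b)) (l : F) : G := (p : G) * L.e p l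

open scoped Classical in
/-- The section over a vector of a fibre. -/
noncomputable def S (p : ↥(both D a b)) (l : F) : G := if l = 0 then 1 else a * L.g p l

/-- The coordinates of a translation. -/
noncomputable def xv (q : G) : ↥(both D a b) → F :=
  fun r => Function.invFun (L.e r) (q * r * q⁻¹)

/-- Translations preserve every fibre and add a constant there. -/
def IsTrans (q : G) (x : ↥(both D a b) → F) : Prop :=
  q * a * q⁻¹ = a ∧ ∀ r l, q * L.e r l * q⁻¹ = L.e r (l + x r)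

/-- The translation group. -/
def Q : Subgroup G :=
  Subgroup.closure (insert a (Set.range fun z : ↥(both D a b) × F => L.g z.1 z.2))

theorem g_mem (p : ↥(both D a b)) (l : F) : L.g p l ∈ L.Q :=
  Subgroup.subset_closure (Or.inr ⟨(p, l), rfl⟩)

theorem a_mem : a ∈ L.Q := Subgroup.subset_closure (Or.inl rfl)

theorem S_mem (p : ↥(both D a b)) (l : F) : L.S p l ∈ L.Q := by
  unfold S
  split
  · exact one_mem _
  · exact mul_mem L.a_mem (L.g_mem p l)

theorem S_zero (p : ↥(both D a b)) : L.S p 0 = 1 := if_pos rfl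

theorem S_of_ne (p : ↥(both D a b)) {l : F} (h : l ≠ 0) : L.S p l = a * L.g p l := if_neg h

theorem xv_eq {q : G} {x : ↥(both D a b) → F} (h : L.IsTrans q x) : L.xv q = x := by
  funext r
  have := h.2 r 0
  rw [L.zero, zero_add] at this
  rw [xv, this]
  exact Function.leftInverse_invFun (L.inj r) _

variable (hB : Base D a b) (h4 : IsFour F)

include hB h4

theorem surj (r : ↥(both D a b)) {v : G} (hv : v ∈ fib D a r) : ∃ l, L.e r l = v := by
  have : Finite F := h4.finite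
  have h : Set.range (L.e r) = fib D a r := by
    refine Set.eq_of_subset_of_ncard_le (by rintro _ ⟨l, rfl⟩; exact L.mem r l) ?_ (Set.toFinite _)
    rw [hB.fib_card r.2, Set.ncard_range_of_injective (L.inj r), h4.card]
  rwa [← h] at hv

omit h4 in
theorem comm_a (r : ↥(both D a b)) (l : F) : Commute a (L.e r l) :=
  (hB.fib_perp r.2 (L.mem r l)).2.2

omit h4 in
theorem comm_fib (r : ↥(both D a b)) (l l' : F) : Commute (L.e r l) (L.e r l') :=
  (hB.commute_fib r.2 r.2 (L.mem r l) (L.mem r l')).2 (Commute.refl _)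

omit h4 in
theorem sq_e (r : ↥(both D a b)) (l : F) : L.e r l * L.e r l = 1 := hB.sq _ (L.mem r l).1.1

omit h4 in
theorem comm_self (r : ↥(both D a b)) (l : F) : Commute (r : G) (L.e r l) := by
  have := L.comm_fib hB r 0 l
  rwa [L.zero] at this

omit h4 in
theorem g_inv (p : ↥(both D a b)) (l : F) : (L.g p l)⁻¹ = L.g p l := by
  rw [g, mul_inv_rev, hB.ts.inv_eq (L.mem p l).1.1, hB.ts.inv_eq p.2.1, (L.comm_self hB p l).eq]

omit h4 in
theorem g_conj (p : ↥(both D a b)) (l : F) (t : G) :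
    L.g p l * t * (L.g p l)⁻¹ = (p : G) * (L.e p l * t * L.e p l) * p := by
  rw [g, mul_inv_rev, hB.ts.inv_eq (L.mem p l).1.1, hB.ts.inv_eq p.2.1]
  simp only [mul_assoc]

omit h4 in
theorem g_comm_a (p : ↥(both D a b)) (l : F) : Commute a (L.g p l) :=
  p.2.2.1.symm.mul_right (L.comm_a hB p l)

theorem g_trans (p : ↥(both D a b)) (l : F) : ∃ x, L.IsTrans (L.g p l) x := by
  suffices h : ∀ r, ∃ c, ∀ m, L.g p l * L.e r m * (L.g p l)⁻¹ = L.e r (m + c) by
    choose x hx using h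
    exact ⟨x, mul_inv_eq_iff_eq_mul.2 (L.g_comm_a hB p l).eq.symm, hx⟩
  intro r
  by_cases hl : l = 0
  · subst hl
    refine ⟨0, fun m => ?_⟩
    rw [g, L.zero, hB.sq p p.2.1, one_mul, inv_one, mul_one, add_zero]
  by_cases hpr : Commute (p : G) r
  · refine ⟨0, fun m => ?_⟩
    rw [add_zero]
    refine mul_inv_eq_iff_eq_mul.2 (Commute.mul_left ?_ ?_).eq
    · exact (hB.commute_fib p.2 r.2 (hB.self_mem_fib p.2) (L.mem r m)).2 hpr
    · exact (hB.commute_fib p.2 r.2 (L.mem p l) (L.mem r m)).2 hpr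
  have hmem : ∀ m, L.g p l * L.e r m * (L.g p l)⁻¹ ∈ fib D a r := fun m => by
    rw [L.g_conj hB]
    exact hB.move_mem p.2 (L.mem p l) r.2 (L.mem r m)
  choose f hf using fun m => L.surj hB h4 r (hmem m)
  refine ⟨f 0, fun m => ?_⟩
  rw [← hf m]
  congr 1
  refine h4.translation f (fun x => L.inj r ?_) (fun x hx => ?_) m
  · rw [hf, hf]
    have h2 : L.g p l * L.g p l = 1 := by
      nth_rw 2 [← L.g_inv hB]
      exact mul_inv_cancel _
    rw [L.g_inv hB]
    calc L.g p l * (L.g p l * L.e r x * L.g p l) * L.g p l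
        = (L.g p l * L.g p l) * L.e r x * (L.g p l * L.g p l) := by simp only [mul_assoc]
      _ = L.e r x := by rw [h2, one_mul, mul_one]
  · have := hf x
    rw [hx, L.g_conj hB] at this
    refine hB.move_ne p.2 (L.mem p l) r.2 (L.mem r x) (fun k => hl (L.inj p ?_)) hpr this.symm
    rw [k, L.zero]

omit h4 in
theorem a_trans : L.IsTrans a 0 := ⟨mul_inv_cancel_right a a, fun r l => by
  rw [Pi.zero_apply, add_zero]
  exact mul_inv_eq_iff_eq_mul.2 (L.comm_a hB r l).eq⟩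

theorem isTrans {q : G} (hq : q ∈ L.Q) : L.IsTrans q (L.xv q) := by
  suffices h : ∃ x, L.IsTrans q x by
    obtain ⟨x, hx⟩ := h
    rw [L.xv_eq hx]
    exact hx
  unfold Q at hq
  induction hq using Subgroup.closure_induction with
  | mem z hz =>
    rcases hz with rfl | ⟨⟨p, l⟩, rfl⟩
    · exact ⟨0, L.a_trans hB⟩
    · exact L.g_trans hB h4 p l
  | one => exact ⟨0, by simp, fun r l => by simp⟩
  | mul y z _ _ h1 h2 =>
    obtain ⟨x, hx⟩ := h1
    obtain ⟨x', hx'⟩ := h2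
    refine ⟨x + x', ?_, fun r l => ?_⟩
    · rw [show y * z * a * (y * z)⁻¹ = y * (z * a * z⁻¹) * y⁻¹ by simp [mul_assoc], hx'.1, hx.1]
    · rw [Pi.add_apply, add_comm (x r), ← add_assoc, ← hx.2, ← hx'.2]
      simp [mul_assoc]
  | inv y _ h1 =>
    obtain ⟨x, hx⟩ := h1
    refine ⟨x, ?_, fun r l => ?_⟩
    · nth_rw 1 [← hx.1]
      simp [mul_assoc]
    · nth_rw 1 [← h4.add_cancel l (x r)]
      rw [← hx.2]
      simp [mul_assoc]

theorem xv_mul {q q' : G} (hq : q ∈ L.Q) (hq' : q' ∈ L.Q) :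
    L.xv (q * q') = L.xv q + L.xv q' := by
  have h := L.isTrans hB h4 hq
  have h' := L.isTrans hB h4 hq'
  refine L.xv_eq ⟨?_, fun r l => ?_⟩
  · nth_rw 2 [← h.1]
    nth_rw 2 [← h'.1]
    simp [mul_assoc]
  · rw [Pi.add_apply, add_comm (L.xv q r), ← add_assoc, ← h.2, ← h'.2]
    simp [mul_assoc]

theorem Q_comm_a {q : G} (hq : q ∈ L.Q) : Commute q a :=
  mul_inv_eq_iff_eq_mul.1 (L.isTrans hB h4 hq).1

omit h4 in
theorem xv_a : L.xv a = 0 := L.xv_eq (L.a_trans hB)

/-- The effect of a translation of one fibre on another. -/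
theorem xv_g_commute {p r : ↥(both D a b)} (h : Commute (p : G) r) (l : F) :
    L.xv (L.g p l) r = 0 := by
  have := (L.isTrans hB h4 (L.g_mem p l)).2 r 0
  rw [zero_add, L.zero] at this
  refine L.inj r ?_
  rw [← this, L.zero]
  refine mul_inv_eq_iff_eq_mul.2 (Commute.mul_left h ?_).eq
  exact (hB.commute_fib p.2 r.2 (L.mem p l) (hB.self_mem_fib r.2)).2 h

theorem xv_g_eq_zero {p r : ↥(both D a b)} (h : ¬Commute (p : G) r) {l : F}
    (hl : L.xv (L.g p l) r = 0) : l = 0 := by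
  by_contra hne
  have := (L.isTrans hB h4 (L.g_mem p l)).2 r 0
  rw [zero_add, hl, L.zero, L.g_conj hB] at this
  refine hB.move_ne p.2 (L.mem p l) r.2 (hB.self_mem_fib r.2) (fun k => hne (L.inj p ?_)) h this
  rw [k, L.zero]

/-- The other two points of a fibre. -/
theorem pair_prod (r : ↥(both D a b)) {m c : F} (hm : m ≠ 0) (h0 : c ≠ 0) (hc : c ≠ m) :
    L.e r c * L.e r (c + m) = a * L.g r m := by
  have hl := hB.mem_perp r.2
  have n1 : c + m ≠ 0 := fun k => hc (h4.add_eq_zero.1 k)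
  have n2 : c + m ≠ m := fun k => h0 (by linear_combination k)
  have n3 : c + m ≠ c := fun k => hm (by linear_combination k)
  have key := hB.toFive.five_prod hB.ha hl (left_mem_line hB.ha hl) (L.mem r 0).1 (L.mem r m).1
    (L.mem r c).1 (L.mem r (c + m)).1 (L.mem r 0).2 (L.mem r m).2 (L.mem r c).2 (L.mem r _).2
    ((L.inj r).ne hm.symm) ((L.inj r).ne h0.symm) ((L.inj r).ne n1.symm) ((L.inj r).ne hc.symm)
    ((L.inj r).ne n2.symm) ((L.inj r).ne n3.symm)
  rw [L.zero, mul_assoc _ (L.e r c), mul_assoc a (r : G)] at key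
  have h2 : (a * L.g r m) * (a * L.g r m) = 1 := by
    have hg : L.g r m * L.g r m = 1 := by
      nth_rw 2 [← L.g_inv hB]
      exact mul_inv_cancel _
    rw [mul_assoc, ← mul_assoc (L.g r m) a, ← (L.g_comm_a hB r m).eq, mul_assoc a, hg, mul_one,
      hB.sq a hB.ha]
  exact mul_left_cancel (key.trans h2.symm)

theorem S_mul (r : ↥(both D a b)) (l m : F) : L.S r l * L.S r m = L.S r (l + m) := by
  by_cases hl : l = 0
  · rw [hl, L.S_zero, one_mul, zero_add]
  by_cases hm : m = 0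
  · rw [hm, L.S_zero, mul_one, add_zero]
  rw [L.S_of_ne r hl, L.S_of_ne r hm]
  have e : a * L.g r l * (a * L.g r m) = L.e r l * L.e r m := by
    rw [mul_assoc a, ← mul_assoc (L.g r l) a, ← (L.g_comm_a hB r l).eq, mul_assoc a (L.g r l),
      invol_cancel (hB.sq a hB.ha), g, g, mul_assoc, ← mul_assoc (L.e r l) (r : G),
      ← (L.comm_self hB r l).eq, mul_assoc (r : G) (L.e r l), invol_cancel (hB.sq r r.2.1)]
  rw [e]
  by_cases hlm : l = m
  · rw [hlm, L.sq_e hB, h4.add_self, L.S_zero]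
  have hs : l + m ≠ 0 := fun k => hlm (h4.add_eq_zero.1 k)
  rw [L.S_of_ne r hs]
  have := L.pair_prod hB h4 r (m := l + m) (c := l) hs hl (fun k => hm (by linear_combination -k))
  rwa [show l + (l + m) = m by linear_combination h4.add_self l] at this

theorem xv_S (p : ↥(both D a b)) (l : F) : L.xv (L.S p l) = L.xv (L.g p l) := by
  by_cases hl : l = 0
  · rw [hl, L.S_zero]
    rw [show L.g p 0 = 1 by rw [g, L.zero, hB.sq p p.2.1]]
  · rw [L.S_of_ne p hl, L.xv_mul hB h4 L.a_mem (L.g_mem p l), L.xv_a hB, zero_add]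

theorem xv_g_add (p : ↥(both D a b)) (l m : F) :
    L.xv (L.g p (l + m)) = L.xv (L.g p l) + L.xv (L.g p m) := by
  rw [← L.xv_S hB h4, ← L.xv_S hB h4, ← L.xv_S hB h4, ← L.S_mul hB h4,
    L.xv_mul hB h4 (L.S_mem p l) (L.S_mem p m)]

theorem g_fix {p r : ↥(both D a b)} (l : F) :
    L.e r (L.xv (L.g p l) r) = L.g p l * r * (L.g p l)⁻¹ := by
  have := (L.isTrans hB h4 (L.g_mem p l)).2 r 0
  rw [zero_add, L.zero] at this
  exact this.symm

theorem xv_symm {p r : ↥(both D a b)} (h : ¬Commute (p : G) r) (l : F) :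
    L.xv (L.g r (L.xv (L.g p l) r)) p = l := by
  refine L.inj p ?_
  rw [L.g_fix hB h4, L.g_conj hB, L.g_fix hB h4, L.g_conj hB]
  set v := L.e p l with hv
  set u := (p : G) * (v * r * v) * p with hu
  have huf : u ∈ fib D a r := hB.move_mem p.2 (L.mem p l) r.2 (hB.self_mem_fib r.2)
  have hup : ¬Commute u p := fun k =>
    h ((hB.commute_fib p.2 r.2 (hB.self_mem_fib p.2) huf).1 k.symm)
  have hvr : ¬Commute v r := fun k =>
    h ((hB.commute_fib p.2 r.2 (L.mem p l) (hB.self_mem_fib r.2)).1 k)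
  rw [hB.ts.braid huf.1.1 p.2.1 hup, hu, invol_conj_invol (hB.sq p p.2.1),
    hB.ts.braid (L.mem p l).1.1 r.2.1 hvr, invol_conj_invol (hB.sq r r.2.1)]

theorem conj_split {p r : ↥(both D a b)} (l : F) :
    (r : G) * L.g p l * r = L.g r (L.xv (L.g p l) r) * L.g p l := by
  have h : L.g r (L.xv (L.g p l) r) = (r : G) * (L.g p l * r * (L.g p l)⁻¹) :=
    congrArg ((r : G) * ·) (L.g_fix hB h4 l)
  rw [h]
  simp [mul_assoc]

theorem conj_gen {p r : ↥(both D a b)} (l : F) :
    ∃ (p' : ↥(both D a b)) (n : F), (p' : G) = (r : G) * p * r ∧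
      (r : G) * L.g p l * r = L.g p' n ∧ (n = 0 ↔ l = 0) := by
  have hp' := hB.third_mem r.2 p.2
  have hv : (r : G) * L.e p l * r ∈ fib D a ((r : G) * p * r) := by
    refine ⟨?_, fun k => (L.mem p l).2 (invol_conj_inj (hB.sq r r.2.1) (k.trans ?_))⟩
    · have := hB.toThick.invol_line r.2.1 (L.mem p l).1
      rwa [invol_conj_eq_of_commute (hB.sq r r.2.1) r.2.2.1] at this
    · exact (invol_conj_eq_of_commute (hB.sq r r.2.1) r.2.2.1).symm
  obtain ⟨n, hn⟩ := L.surj hB h4 ⟨_, hp'⟩ hv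
  refine ⟨⟨_, hp'⟩, n, rfl, ?_, ⟨fun k => L.inj p ?_, fun k => L.inj ⟨_, hp'⟩ ?_⟩⟩
  · rw [g, g, hn]
    show (r : G) * (p * L.e p l) * r = (r : G) * p * r * (r * L.e p l * r)
    simp only [mul_assoc, invol_cancel (hB.sq r r.2.1)]
  · rw [k, L.zero] at hn
    rw [L.zero]
    exact (invol_conj_inj (hB.sq r r.2.1) hn).symm
  · rw [k, L.zero] at hn
    rw [hn, L.zero]

theorem triangle (p q r : ↥(both D a b)) :
    (∀ l, L.xv (L.g r (L.xv (L.g p l) r)) q + L.xv (L.g p l) q = 0) ∨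
      ∀ l, l ≠ 0 → L.xv (L.g r (L.xv (L.g p l) r)) q + L.xv (L.g p l) q ≠ 0 := by
  have key : ∀ l, ∃ (p' : ↥(both D a b)) (n : F), (p' : G) = (r : G) * p * r ∧ (n = 0 ↔ l = 0) ∧
      L.xv (L.g r (L.xv (L.g p l) r)) q + L.xv (L.g p l) q = L.xv (L.g p' n) q := by
    intro l
    obtain ⟨p', n, h1, h2, h3⟩ := L.conj_gen hB h4 (p := p) (r := r) l
    refine ⟨p', n, h1, h3, ?_⟩
    rw [← Pi.add_apply, ← L.xv_mul hB h4 (L.g_mem _ _) (L.g_mem _ _), ← L.conj_split hB h4, h2]
  by_cases hc : Commute ((r : G) * p * r) q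
  · left
    intro l
    obtain ⟨p', n, h1, -, h3⟩ := key l
    rw [h3, L.xv_g_commute hB h4 (h1 ▸ hc)]
  · right
    intro l hl
    obtain ⟨p', n, h1, h2, h3⟩ := key l
    rw [h3]
    exact fun k => hl (h2.1 (L.xv_g_eq_zero hB h4 (h1 ▸ hc) k))

end Lab

end Cfsg.Agent.Fischer.Polar
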