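import Cfsg.Agent.Lib.Fischer.Polar.Span

/-!
Five points on every line: the five members of a line multiply to one.
-/

set_option autoImplicit false

namespace Cfsg.Agent.Fischer.Polar

open Cfsg Cfsg.Agent.Fischer.Solv

universe u

/-- Every line has five points. -/
structure Five {G : Type u} [Group G] (D : Set G) : Prop extends Polar D where
  five : ∀ x ∈ D, ∀ b ∈ perp D x, (line D x b).ncard = 5

variable {G : Type u} [Group G] [Finite G] {D : Set G}

namespace Five

variable (hF : Five D)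
include hF

/-- Two points of a line carry every member commuting with it into the same line. -/
theorem conj_line_pair {x a t r : G} (hx : x ∈ D) (ha : a ∈ perp D x) (ht : t ∈ line D x a)
    (htx : t ≠ x) (hr : r ∈ perp D x) : a * (t * r * t) * a ∈ line D x r := by
  have htp := mem_perp_of_mem_line hx ha ht htx
  by_cases hc : Commute r a
  · have hc' := (hF.commute_iff_of_line hx ha ht htx hr.1 hr.2.2.symm).1 hc
    rw [invol_conj_eq_of_commute (hF.sq t ht.1) hc'.symm,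
      invol_conj_eq_of_commute (hF.sq a ha.1) hc.symm]
    exact right_mem_line hx hr
  have hc' : ¬Commute r t := fun h => hc
    ((hF.commute_iff_of_line hx ha ht htx hr.1 hr.2.2.symm).2 h)
  have h1 := hF.toThick.star_line ht hr
  rw [hF.ts.braid hr.1 ha.1 hc, hF.ts.braid hr.1 ht.1 hc'] at h1
  have h2 := hF.toThick.invol_line ha.1 h1
  rwa [invol_conj_invol (hF.sq a ha.1),
    invol_conj_eq_of_commute (hF.sq a ha.1) ha.2.2.symm] at h2

theorem four_commute {u v t0 t1 t2 t3 t4 c : G} (hu : u ∈ D) (hv : v ∈ perp D u)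
    (h0 : t0 ∈ line D u v) (h1 : t1 ∈ line D u v) (h2 : t2 ∈ line D u v) (h3 : t3 ∈ line D u v)
    (h4 : t4 ∈ line D u v) (n1 : t1 ≠ t0) (n2 : t2 ≠ t0) (n3 : t3 ≠ t0) (n4 : t4 ≠ t0)
    (n12 : t1 ≠ t2) (n13 : t1 ≠ t3) (n14 : t1 ≠ t4) (n23 : t2 ≠ t3) (n24 : t2 ≠ t4)
    (n34 : t3 ≠ t4) (hc : c ∈ D) (hct : Commute c t0) (hn1 : ¬Commute c t1) (hn2 : ¬Commute c t2)
    (hn3 : ¬Commute c t3) (hn4 : ¬Commute c t4) :
    t1 * (t2 * c * t2) * t1 = t3 * (t4 * c * t4) * t3 := by
  classical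
  have hl1 := hF.toThick.line_eq hu hv h0 h1 n1.symm
  have hp1 : t1 ∈ perp D t0 := ⟨h1.1, n1, line_commute hu hv h0 h1⟩
  have hcp : c ∈ perp D t0 := ⟨hc, fun h => hn1 (h ▸ hp1.2.2), hct.symm⟩
  have ic : ∀ {x y : G}, c * x * c = c * y * c → x = y :=
    fun h => invol_conj_inj (hF.sq c hc) h
  have hsw : ∀ t ∈ line D u v, ¬Commute c t → t * c * t = c * t * c := fun t ht hn =>
    hF.ts.braid ht.1 hc fun k => hn k.symm
  have key : ∀ p ∈ line D u v, p ≠ t0 → ∀ t ∈ line D u v, t ≠ t0 →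
      p * (t * c * t) * p ∈ line D t0 c := by
    intro p hp hp0 t ht ht0
    refine hF.conj_line_pair h0.1 ⟨hp.1, hp0, line_commute hu hv h0 hp⟩ ?_ ht0 hcp
    rwa [hF.toThick.line_eq hu hv h0 hp hp0.symm]
  have hne0 : ∀ p ∈ line D u v, p ≠ t0 → ∀ t ∈ line D u v, t ≠ t0 →
      p * (t * c * t) * p ≠ t0 := by
    intro p hp hp0 t ht ht0 h
    refine hcp.2.1 (invol_conj_inj (hF.sq t ht.1) (invol_conj_inj (hF.sq p hp.1) (h.trans ?_)))
    rw [invol_conj_eq_of_commute (hF.sq t ht.1) (line_commute hu hv ht h0),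
      invol_conj_eq_of_commute (hF.sq p hp.1) (line_commute hu hv hp h0)]
  have hcc : ∀ t ∈ line D u v, t * (t * c * t) * t = c := fun t ht =>
    invol_conj_invol (hF.sq t ht.1) c
  have hdist : ∀ p ∈ line D u v, ∀ t ∈ line D u v, ∀ t' ∈ line D u v, ¬Commute c t →
      ¬Commute c t' → p * (t * c * t) * p = p * (t' * c * t') * p → t = t' := by
    intro p hp t ht t' ht' hn hn' h
    have := invol_conj_inj (hF.sq p hp.1) h
    rw [hsw t ht hn, hsw t' ht' hn'] at this
    exact ic this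
  have hswap : ∀ p ∈ line D u v, ∀ q ∈ line D u v, p * (q * c * q) * p = q * (p * c * p) * q := by
    intro p hp q hq
    have e := (line_commute hu hv hp hq).eq
    calc p * (q * c * q) * p = (p * q) * c * (q * p) := by simp only [mul_assoc]
      _ = (q * p) * c * (p * q) := by rw [e]
      _ = q * (p * c * p) * q := by simp only [mul_assoc]
  set f : G → G := fun t => t1 * (t * c * t) * t1 with hf
  have hfd : ∀ {t t'}, t ∈ line D u v → t' ∈ line D u v → ¬Commute c t → ¬Commute c t' →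
      t ≠ t' → f t ≠ f t' := fun ht ht' hn hn' hne h => hne (hdist t1 h1 _ ht _ ht' hn hn' h)
  have hset : line D t0 c \ {t0} = {f t1, f t2, f t3, f t4} := by
    refine (Set.eq_of_subset_of_ncard_le ?_ ?_ (Set.toFinite _)).symm
    · simp only [Set.insert_subset_iff, Set.singleton_subset_iff, Set.mem_sdiff,
        Set.mem_singleton_iff]
      exact ⟨⟨key t1 h1 n1 t1 h1 n1, hne0 t1 h1 n1 t1 h1 n1⟩,
        ⟨key t1 h1 n1 t2 h2 n2, hne0 t1 h1 n1 t2 h2 n2⟩,
        ⟨key t1 h1 n1 t3 h3 n3, hne0 t1 h1 n1 t3 h3 n3⟩,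
        ⟨key t1 h1 n1 t4 h4 n4, hne0 t1 h1 n1 t4 h4 n4⟩⟩
    · rw [Set.ncard_sdiff_singleton_of_mem (left_mem_line h0.1 hcp), hF.five t0 h0.1 c hcp,
        Set.ncard_insert_of_notMem (by
          simp only [Set.mem_insert_iff, Set.mem_singleton_iff, not_or]
          exact ⟨hfd h1 h2 hn1 hn2 n12, hfd h1 h3 hn1 hn3 n13, hfd h1 h4 hn1 hn4 n14⟩)
          (Set.toFinite _),
        Set.ncard_insert_of_notMem (by
          simp only [Set.mem_insert_iff, Set.mem_singleton_iff, not_or]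
          exact ⟨hfd h2 h3 hn2 hn3 n23, hfd h2 h4 hn2 hn4 n24⟩) (Set.toFinite _),
        Set.ncard_pair (hfd h3 h4 hn3 hn4 n34)]
  have hg : t3 * (t4 * c * t4) * t3 ∈ line D t0 c \ {t0} :=
    ⟨key t3 h3 n3 t4 h4 n4, hne0 t3 h3 n3 t4 h4 n4⟩
  rw [hset] at hg
  simp only [Set.mem_insert_iff, Set.mem_singleton_iff] at hg
  rcases hg with h | h | h | h
  · exfalso
    have e : f t1 = t3 * (t3 * c * t3) * t3 := (hcc t1 h1).trans (hcc t3 h3).symm
    exact n34 (hdist t3 h3 t4 h4 t3 h3 hn4 hn3 (h.trans e)).symm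
  · exact h.symm
  · exfalso
    have e : f t3 = t3 * (t1 * c * t1) * t3 := hswap t1 h1 t3 h3
    exact n14 (hdist t3 h3 t4 h4 t1 h1 hn4 hn1 (h.trans e)).symm
  · exfalso
    have e1 : t4 * (t3 * c * t3) * t4 = t4 * (t1 * c * t1) * t4 :=
      (hswap t4 h4 t3 h3).trans (h.trans (hswap t1 h1 t4 h4))
    exact n13 (hdist t4 h4 t3 h3 t1 h1 hn3 hn1 e1).symm

/-- The five members of a line multiply to one. -/
theorem five_prod {u v t0 t1 t2 t3 t4 : G} (hu : u ∈ D) (hv : v ∈ perp D u)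
    (h0 : t0 ∈ line D u v) (h1 : t1 ∈ line D u v) (h2 : t2 ∈ line D u v) (h3 : t3 ∈ line D u v)
    (h4 : t4 ∈ line D u v) (n1 : t1 ≠ t0) (n2 : t2 ≠ t0) (n3 : t3 ≠ t0) (n4 : t4 ≠ t0)
    (n12 : t1 ≠ t2) (n13 : t1 ≠ t3) (n14 : t1 ≠ t4) (n23 : t2 ≠ t3) (n24 : t2 ≠ t4)
    (n34 : t3 ≠ t4) : t0 * t1 * t2 * t3 * t4 = 1 := by
  classical
  have hcm : ∀ {p q}, p ∈ line D u v → q ∈ line D u v → Commute p q :=
    fun hp hq => line_commute hu hv hp hq
  rw [← Subgroup.mem_bot, ← hF.center]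
  refine eq_top_of_mem_center hF.toTClass fun c hc => ?_
  have four : ∀ {s0 s1 s2 s3 s4}, s0 ∈ line D u v → s1 ∈ line D u v → s2 ∈ line D u v →
      s3 ∈ line D u v → s4 ∈ line D u v → s1 ≠ s0 → s2 ≠ s0 → s3 ≠ s0 → s4 ≠ s0 → s1 ≠ s2 →
      s1 ≠ s3 → s1 ≠ s4 → s2 ≠ s3 → s2 ≠ s4 → s3 ≠ s4 → Commute c s0 →
      Commute c (s0 * (s1 * s2 * s3 * s4)) := by
    intro s0 s1 s2 s3 s4 m0 m1 m2 m3 m4 e1 e2 e3 e4 e12 e13 e14 e23 e24 e34 hcs
    refine hcs.mul_right ?_
    by_cases hall : Commute c s1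
    · have hc' : ∀ t ∈ line D u v, Commute c t := fun t ht =>
        (hF.toThick.commute_line hu hv m0 m1 e1.symm ht hc hcs hall).symm
      exact (((hall).mul_right (hc' _ m2)).mul_right (hc' _ m3)).mul_right (hc' _ m4)
    have hn : ∀ t ∈ line D u v, t ≠ s0 → ¬Commute c t := fun t ht hne h =>
      hall (hF.toThick.commute_line hu hv m0 ht hne.symm m1 hc hcs h).symm
    have key := hF.four_commute hu hv m0 m1 m2 m3 m4 e1 e2 e3 e4 e12 e13 e14 e23 e24 e34 hc hcs
      hall (hn s2 m2 e2) (hn s3 m3 e3) (hn s4 m4 e4)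
    have q1 := hF.sq s1 m1.1
    have q2 := hF.sq s2 m2.1
    have q3 := hF.sq s3 m3.1
    have q4 := hF.sq s4 m4.1
    have e : (s3 * s4) * (s1 * s2) = s1 * s2 * s3 * s4 := by
      rw [mul_assoc (s1 * s2) s3 s4]
      exact (((hcm m3 m1).mul_right (hcm m3 m2)).mul_left ((hcm m4 m1).mul_right (hcm m4 m2))).eq
    have key2 : s3 * s4 * (s1 * s2 * c * (s2 * s1)) * (s4 * s3) = c := by
      rw [show s1 * s2 * c * (s2 * s1) = s1 * (s2 * c * s2) * s1 by simp only [mul_assoc], key]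
      calc s3 * s4 * (s3 * (s4 * c * s4) * s3) * (s4 * s3)
          = (s3 * s4) * (s3 * s4) * c * ((s4 * s3) * (s4 * s3)) := by simp only [mul_assoc]
        _ = c := by
          rw [show (s3 * s4) * (s3 * s4) = 1 by
              rw [show s3 * s4 * (s3 * s4) = s3 * (s4 * s3) * s4 by simp only [mul_assoc],
                (hcm m4 m3).eq]
              simp only [mul_assoc, invol_cancel q3, q4],
            show (s4 * s3) * (s4 * s3) = 1 by
              rw [show s4 * s3 * (s4 * s3) = s4 * (s3 * s4) * s3 by simp only [mul_assoc],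
                (hcm m3 m4).eq]
              simp only [mul_assoc, invol_cancel q4, q3], one_mul, mul_one]
    rw [← e]
    show c * (s3 * s4 * (s1 * s2)) = s3 * s4 * (s1 * s2) * c
    conv_lhs => rw [← key2]
    simp only [mul_assoc, invol_cancel q1, invol_cancel q2, invol_cancel q3, invol_cancel q4, q1,
      q2, q3, q4, mul_one]
  obtain ⟨y, hy, hcy⟩ := hF.one u hu v hv c hc
  have hset : line D u v = {t0, t1, t2, t3, t4} := by
    refine (Set.eq_of_subset_of_ncard_le ?_ ?_ (Set.toFinite _)).symm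
    · simp only [Set.insert_subset_iff, Set.singleton_subset_iff]
      exact ⟨h0, h1, h2, h3, h4⟩
    · rw [hF.five u hu v hv, Set.ncard_insert_of_notMem (by
          simp only [Set.mem_insert_iff, Set.mem_singleton_iff, not_or]
          exact ⟨n1.symm, n2.symm, n3.symm, n4.symm⟩) (Set.toFinite _),
        Set.ncard_insert_of_notMem (by
          simp only [Set.mem_insert_iff, Set.mem_singleton_iff, not_or]
          exact ⟨n12, n13, n14⟩) (Set.toFinite _),
        Set.ncard_insert_of_notMem (by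
          simp only [Set.mem_insert_iff, Set.mem_singleton_iff, not_or]
          exact ⟨n23, n24⟩) (Set.toFinite _), Set.ncard_pair n34]
  rw [hset] at hy
  simp only [Set.mem_insert_iff, Set.mem_singleton_iff] at hy
  rcases hy with h | h | h | h | h <;> subst h
  · have := four h0 h1 h2 h3 h4 n1 n2 n3 n4 n12 n13 n14 n23 n24 n34 hcy
    simpa only [mul_assoc] using this
  · have := four h1 h0 h2 h3 h4 n1.symm n12.symm n13.symm n14.symm n2.symm n3.symm n4.symm n23 n24
      n34 hcy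
    rwa [show y * (t0 * t2 * t3 * t4) = t0 * y * t2 * t3 * t4 by
      simp only [← mul_assoc]; rw [(hcm h1 h0).eq]] at this
  · have := four h2 h0 h1 h3 h4 n2.symm n12 n23.symm n24.symm n1.symm n3.symm n4.symm n13 n14 n34
      hcy
    rwa [show y * (t0 * t1 * t3 * t4) = t0 * t1 * y * t3 * t4 by
      simp only [← mul_assoc]
      rw [(hcm h2 h0).eq, mul_assoc t0 y t1, (hcm h2 h1).eq, ← mul_assoc]] at this
  · have := four h3 h0 h1 h2 h4 n3.symm n13 n23 n34.symm n1.symm n2.symm n4.symm n12 n14 n24 hcy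
    rwa [show y * (t0 * t1 * t2 * t4) = t0 * t1 * t2 * y * t4 by
      simp only [← mul_assoc]
      rw [(hcm h3 h0).eq, mul_assoc t0 y t1, (hcm h3 h1).eq, ← mul_assoc,
        mul_assoc (t0 * t1) y t2, (hcm h3 h2).eq, ← mul_assoc]] at this
  · have := four h4 h0 h1 h2 h3 n4.symm n14 n24 n34 n1.symm n2.symm n3.symm n12 n13 n23 hcy
    rwa [show y * (t0 * t1 * t2 * t3) = t0 * t1 * t2 * t3 * y from
      ((((hcm h4 h0).mul_right (hcm h4 h1)).mul_right (hcm h4 h2)).mul_right (hcm h4 h3)).eq]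
      at this

/-- Four different points of a line and the fifth. -/
theorem five_split {x b : G} (hx : x ∈ D) (hb : b ∈ perp D x) {t1 t2 t3 : G}
    (h1 : t1 ∈ line D x b) (h2 : t2 ∈ line D x b) (h3 : t3 ∈ line D x b) (n1 : t1 ≠ x)
    (n2 : t2 ≠ x) (n3 : t3 ≠ x) (n12 : t1 ≠ t2) (n13 : t1 ≠ t3) (n23 : t2 ≠ t3) :
    ∃ t4 ∈ line D x b, t4 ≠ x ∧ t4 ≠ t1 ∧ t4 ≠ t2 ∧ t4 ≠ t3 ∧
      (∀ y ∈ line D x b, y = x ∨ y = t1 ∨ y = t2 ∨ y = t3 ∨ y = t4) ∧
      x * t1 * t2 * t3 * t4 = 1 := by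
  obtain ⟨t4, h4, hn⟩ : ∃ t4 ∈ line D x b, t4 ∉ ({x, t1, t2, t3} : Set G) := by
    by_contra hcon
    push Not at hcon
    have h := Set.ncard_le_ncard (fun y hy => hcon y hy) (Set.toFinite _)
    rw [hF.five x hx b hb] at h
    have h4 : ({x, t1, t2, t3} : Set G).ncard ≤ 4 := by
      refine (Set.ncard_insert_le _ _).trans ?_
      have := (Set.ncard_insert_le t1 ({t2, t3} : Set G))
      rw [Set.ncard_pair n23] at this
      omega
    omega
  simp only [Set.mem_insert_iff, Set.mem_singleton_iff, not_or] at hn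
  obtain ⟨m0, m1, m2, m3⟩ := hn
  refine ⟨t4, h4, m0, m1, m2, m3, fun y hy => ?_, hF.five_prod hx hb (left_mem_line hx hb) h1 h2 h3
    h4 n1 n2 n3 m0 n12 n13 (Ne.symm m1) n23 (Ne.symm m2) (Ne.symm m3)⟩
  have hset : line D x b = {x, t1, t2, t3, t4} := by
    refine (Set.eq_of_subset_of_ncard_le ?_ ?_ (Set.toFinite _)).symm
    · simp only [Set.insert_subset_iff, Set.singleton_subset_iff]
      exact ⟨left_mem_line hx hb, h1, h2, h3, h4⟩
    · rw [hF.five x hx b hb, Set.ncard_insert_of_notMem (by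
          simp only [Set.mem_insert_iff, Set.mem_singleton_iff, not_or]
          exact ⟨n1.symm, n2.symm, n3.symm, fun k => m0 k.symm⟩) (Set.toFinite _),
        Set.ncard_insert_of_notMem (by
          simp only [Set.mem_insert_iff, Set.mem_singleton_iff, not_or]
          exact ⟨n12, n13, fun k => m1 k.symm⟩) (Set.toFinite _),
        Set.ncard_insert_of_notMem (by
          simp only [Set.mem_insert_iff, Set.mem_singleton_iff, not_or]
          exact ⟨n23, fun k => m2 k.symm⟩) (Set.toFinite _), Set.ncard_pair (fun k => m3 k.symm)]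
  rw [hset] at hy
  simpa only [Set.mem_insert_iff, Set.mem_singleton_iff] using hy

end Five

end Cfsg.Agent.Fischer.Polar
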