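import Cfsg.Agent.Lib.Fischer.Polar.Kernel

/-!
The vectors of translations, their hermitian form, and products of two sections.
-/

set_option autoImplicit false

namespace Cfsg.Agent.Fischer.Polar

open Cfsg Cfsg.Agent.Fischer.Solv

universe u

variable {G : Type u} [Group G] [Finite G] {D : Set G} {a b : G} {F : Type} [Field F]

namespace IsFour

theorem sum_sq {F : Type} [Field F] (h4 : IsFour F) {ι : Type*} (s : Finset ι) (f : ι → F) :
    (∑ i ∈ s, f i) ^ 2 = ∑ i ∈ s, f i ^ 2 := by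
  classical
  induction s using Finset.induction_on with
  | empty => simp
  | insert i s hi ih => rw [Finset.sum_insert hi, Finset.sum_insert hi, h4.sq_add, ih]

end IsFour

namespace Lab

variable (L : Lab D a b F)

/-- The vector of a point. -/
noncomputable def y (p : ↥(both D a b)) : ↥(both D a b) → F := L.xv (L.g p 1)

/-- The space of translation vectors. -/
noncomputable def X : Submodule F (↥(both D a b) → F) := Submodule.span F (Set.range L.y)

open scoped Classical in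
/-- Coordinates of a vector. -/
noncomputable def coef (x : ↥(both D a b) → F) : ↥(both D a b) → F :=
  letI := Fintype.ofFinite ↥(both D a b)
  if h : ∃ c : ↥(both D a b) → F, ∑ i, c i • L.y i = x then h.choose else 0

open scoped Classical in
/-- The hermitian form. -/
noncomputable def herm (x x' : ↥(both D a b) → F) : F :=
  letI := Fintype.ofFinite ↥(both D a b)
  ∑ r, L.coef x' r ^ 2 * x r

open scoped Classical in
/-- A power of `a`. -/
noncomputable def A (_L : Lab D a b F) (i : F) : G := if i = 0 then 1 else a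

theorem herm_add_left (x x' z : ↥(both D a b) → F) :
    L.herm (x + x') z = L.herm x z + L.herm x' z := by
  unfold herm
  simp [mul_add, Finset.sum_add_distrib]

theorem herm_smul_left (k : F) (x z : ↥(both D a b) → F) :
    L.herm (k • x) z = k * L.herm x z := by
  unfold herm
  simp [Finset.mul_sum, mul_left_comm]

theorem y_mem (p : ↥(both D a b)) : L.y p ∈ L.X := Submodule.subset_span ⟨p, rfl⟩

theorem smul_y_mem (l : F) (p : ↥(both D a b)) : l • L.y p ∈ L.X :=
  Submodule.smul_mem _ _ (L.y_mem p)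

variable (hB : Base D a b) (h4 : IsFour F) (hL : L.Linear)

theorem A_zero : L.A 0 = 1 := if_pos rfl

theorem A_one : L.A 1 = a := if_neg one_ne_zero

theorem A_mem (i : F) : L.A i ∈ L.Q := by
  unfold A
  split
  · exact one_mem _
  · exact L.a_mem

include hB h4

theorem A_add {i j : F} (hi : i = 0 ∨ i = 1) (hj : j = 0 ∨ j = 1) :
    L.A (i + j) = L.A i * L.A j := by
  rcases hi with rfl | rfl <;> rcases hj with rfl | rfl <;>
    simp [A_zero, A_one, h4.add_self, hB.sq a hB.ha]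

theorem A_comm (i : F) {q : G} (hq : q ∈ L.Q) : Commute (L.A i) q := by
  unfold A
  split
  · exact Commute.one_left q
  · exact (L.Q_comm_a hB h4 hq).symm

theorem xv_one : L.xv 1 = 0 := L.xv_eq ⟨by simp, fun r l => by simp⟩

theorem xv_A (i : F) : L.xv (L.A i) = 0 := by
  unfold A
  split
  · exact L.xv_one hB h4
  · exact L.xv_a hB

theorem y_commute {p r : ↥(both D a b)} (h : Commute (p : G) r) : L.y p r = 0 :=
  L.xv_g_commute hB h4 h 1

theorem y_ne {p r : ↥(both D a b)} (h : ¬Commute (p : G) r) : L.y p r ≠ 0 :=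
  fun k => one_ne_zero (L.xv_g_eq_zero hB h4 h k)

include hL

omit hB h4 in
theorem xv_g (p : ↥(both D a b)) (l : F) : L.xv (L.g p l) = l • L.y p :=
  funext fun r => hL p r l

theorem xv_S' (p : ↥(both D a b)) (l : F) : L.xv (L.S p l) = l • L.y p := by
  rw [L.xv_S hB h4, L.xv_g hL]

theorem y_symm (p r : ↥(both D a b)) : L.y r p = L.y p r ^ 2 := by
  by_cases h : Commute (p : G) r
  · rw [L.y_commute hB h4 h, L.y_commute hB h4 h.symm, zero_pow two_ne_zero]
  · have h1 := L.xv_symm hB h4 h 1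
    rw [L.xv_g hL r, Pi.smul_apply, smul_eq_mul] at h1
    exact mul_left_cancel₀ (L.y_ne hB h4 h) (h1.trans (h4.cube (L.y_ne hB h4 h)).symm)

theorem xv_mem {q : G} (hq : q ∈ L.Q) : L.xv q ∈ L.X := by
  unfold Q at hq
  have gen : ∀ z ∈ insert a (Set.range fun z : ↥(both D a b) × F => L.g z.1 z.2), L.xv z ∈ L.X := by
    rintro z (rfl | ⟨⟨p, l⟩, rfl⟩)
    · rw [L.xv_a hB]; exact zero_mem _
    · rw [L.xv_g hL]; exact L.smul_y_mem l p
  induction hq using Subgroup.closure_induction with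
  | mem z hz => exact gen z hz
  | one => rw [L.xv_one hB h4]; exact zero_mem _
  | mul z w hz hw h1 h2 => rw [L.xv_mul hB h4 hz hw]; exact add_mem h1 h2
  | inv z hz h1 =>
    have h := L.xv_mul hB h4 (inv_mem (show z ∈ L.Q from hz)) hz
    rw [inv_mul_cancel, L.xv_one hB h4] at h
    rwa [eq_neg_of_add_eq_zero_left h.symm, neg_mem_iff]

theorem exists_xv {x : ↥(both D a b) → F} (hx : x ∈ L.X) : ∃ q ∈ L.Q, L.xv q = x := by
  suffices ∀ k : F, ∃ q ∈ L.Q, L.xv q = k • x by simpa using this 1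
  unfold X at hx
  induction hx using Submodule.span_induction with
  | mem z hz =>
    obtain ⟨p, rfl⟩ := hz
    exact fun k => ⟨_, L.g_mem p k, L.xv_g hL p k⟩
  | zero => exact fun k => ⟨1, one_mem _, by rw [L.xv_one hB h4, smul_zero]⟩
  | add z w _ _ h1 h2 =>
    intro k
    obtain ⟨q1, m1, e1⟩ := h1 k
    obtain ⟨q2, m2, e2⟩ := h2 k
    exact ⟨_, mul_mem m1 m2, by rw [L.xv_mul hB h4 m1 m2, e1, e2, smul_add]⟩
  | smul c z _ h1 => intro k; rw [smul_smul]; exact h1 _

theorem eq_of_smul_y {p r : ↥(both D a b)} {l m : F} (h : l • L.y p = m • L.y r) (hl : l ≠ 0) :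
    p = r ∧ l = m := by
  obtain ⟨t, ht, htp⟩ := hB.exists_ne p.2
  have hpt : L.y p ⟨t, ht⟩ ≠ 0 := L.y_ne hB h4 fun k => htp k.symm
  have hpr : p = r := by
    by_contra hne
    obtain ⟨s, hs, hsp, hsr⟩ := hB.sep p.2 r.2 fun k => hne (Subtype.ext k)
    have e := congrFun h ⟨s, hs⟩
    rw [Pi.smul_apply, Pi.smul_apply, smul_eq_mul, smul_eq_mul,
      L.y_commute hB h4 (r := ⟨s, hs⟩) hsp.symm, mul_zero] at e
    rcases mul_eq_zero.1 e.symm with hm | hm
    · rw [hm, zero_smul] at h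
      exact mul_ne_zero hl hpt (congrFun h ⟨t, ht⟩)
    · exact L.y_ne hB h4 (r := ⟨s, hs⟩) (fun k => hsr k.symm) hm
  subst hpr
  exact ⟨rfl, mul_right_cancel₀ hpt (congrFun h ⟨t, ht⟩)⟩

theorem smul_y_eq_zero {p : ↥(both D a b)} {l : F} (h : l • L.y p = 0) : l = 0 := by
  by_contra hl
  exact hl (L.eq_of_smul_y hB h4 hL (r := p) (m := 0) (by rw [h, zero_smul]) hl).2

theorem S_congr {p r : ↥(both D a b)} {l m : F} (h : l • L.y p = m • L.y r) :
    L.S p l = L.S r m := by
  by_cases hl : l = 0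
  · subst hl
    rw [zero_smul] at h
    rw [L.smul_y_eq_zero hB h4 hL h.symm, L.S_zero, L.S_zero]
  · obtain ⟨rfl, rfl⟩ := L.eq_of_smul_y hB h4 hL h hl
    rfl

theorem sum_key [Fintype ↥(both D a b)] (e d : ↥(both D a b) → F) :
    ∑ r, d r ^ 2 * (∑ p, e p • L.y p) r = ∑ p, e p * (∑ r, d r • L.y r) p ^ 2 := by
  simp only [Finset.sum_apply, Pi.smul_apply, smul_eq_mul, h4.sum_sq, Finset.mul_sum]
  rw [Finset.sum_comm]
  refine Finset.sum_congr rfl fun p _ => Finset.sum_congr rfl fun r _ => ?_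
  rw [mul_pow, ← L.y_symm hB h4 hL]
  ring

theorem coef_spec [Fintype ↥(both D a b)] {x : ↥(both D a b) → F} (hx : x ∈ L.X) :
    ∑ p, L.coef x p • L.y p = x := by
  classical
  have h : ∃ c : ↥(both D a b) → F, ∑ i, c i • L.y i = x :=
    (Submodule.mem_span_range_iff_exists_fun F).1 hx
  unfold coef
  cases Subsingleton.elim (Fintype.ofFinite ↥(both D a b)) ‹Fintype ↥(both D a b)›
  rw [dif_pos h]
  exact h.choose_spec

/-- The form can be computed from any coordinates. -/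
theorem herm_eq [Fintype ↥(both D a b)] {x x' : ↥(both D a b) → F} (hx : x ∈ L.X)
    (hx' : x' ∈ L.X) : L.herm x x' = ∑ p, L.coef x p * x' p ^ 2 := by
  classical
  have h1 := L.sum_key hB h4 hL (L.coef x) (L.coef x')
  rw [L.coef_spec hB h4 hL hx, L.coef_spec hB h4 hL hx'] at h1
  unfold herm
  cases Subsingleton.elim (Fintype.ofFinite ↥(both D a b)) ‹Fintype ↥(both D a b)›
  exact h1

theorem herm_y {x : ↥(both D a b) → F} (hx : x ∈ L.X) (l : F) (r : ↥(both D a b)) :
    L.herm x (l • L.y r) = l ^ 2 * x r := by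
  classical
  let := Fintype.ofFinite ↥(both D a b)
  rw [L.herm_eq hB h4 hL hx (L.smul_y_mem l r)]
  conv_rhs => rw [← L.coef_spec hB h4 hL hx]
  simp only [Finset.sum_apply, Pi.smul_apply, smul_eq_mul, mul_pow, Finset.mul_sum]
  refine Finset.sum_congr rfl fun p _ => ?_
  rw [← L.y_symm hB h4 hL]
  ring

theorem herm_symm {x x' : ↥(both D a b) → F} (hx : x ∈ L.X) (hx' : x' ∈ L.X) :
    L.herm x' x = L.herm x x' ^ 2 := by
  classical
  let := Fintype.ofFinite ↥(both D a b)
  rw [L.herm_eq hB h4 hL hx hx', h4.sum_sq]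
  unfold herm
  exact Finset.sum_congr rfl fun p _ => by rw [mul_pow, h4.pow_four]

theorem herm_add_right {x z z' : ↥(both D a b) → F} (hx : x ∈ L.X) (hz : z ∈ L.X) (hz' : z' ∈ L.X) :
    L.herm x (z + z') = L.herm x z + L.herm x z' := by
  rw [L.herm_symm hB h4 hL (add_mem hz hz') hx, herm_add_left, h4.sq_add,
    ← L.herm_symm hB h4 hL hz hx, ← L.herm_symm hB h4 hL hz' hx]

theorem herm_smul_right {x z : ↥(both D a b) → F} (k : F) (hx : x ∈ L.X) (hz : z ∈ L.X) :
    L.herm x (k • z) = k ^ 2 * L.herm x z := by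
  rw [L.herm_symm hB h4 hL (Submodule.smul_mem _ k hz) hx, herm_smul_left, mul_pow,
    ← L.herm_symm hB h4 hL hz hx]

theorem herm_nondeg {x : ↥(both D a b) → F} (hx : x ∈ L.X) (h : ∀ z ∈ L.X, L.herm x z = 0) :
    x = 0 := by
  funext r
  have := h _ (L.smul_y_mem 1 r)
  rwa [L.herm_y hB h4 hL hx, one_pow, one_mul] at this

theorem herm_yy (p r : ↥(both D a b)) (l m : F) :
    L.herm (l • L.y p) (m • L.y r) = l * m ^ 2 * L.y p r := by
  rw [L.herm_y hB h4 hL (L.smul_y_mem l p), Pi.smul_apply, smul_eq_mul]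
  ring

/-- Commutation of two sections. -/
theorem swap (p r : ↥(both D a b)) (l m : F) :
    L.S p l * L.S r m = L.A (L.herm (l • L.y p) (m • L.y r) + L.herm (l • L.y p) (m • L.y r) ^ 2) *
      (L.S r m * L.S p l) := by
  rw [L.herm_yy hB h4 hL]
  by_cases hl : l = 0
  · simp [hl, S_zero, A_zero]
  by_cases hm : m = 0
  · simp [hm, S_zero, A_zero]
  rw [L.S_of_ne p hl, L.S_of_ne r hm]
  have hg := L.isTrans hB h4 (L.g_mem p l)
  have hc : L.xv (L.g p l) r = l * L.y p r := congrFun (L.xv_g hL p l) r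
  set c := l * L.y p r with hcdef
  have hconj : L.g p l * L.g r m * (L.g p l)⁻¹ = L.e r c * L.e r (c + m) := by
    rw [show L.g p l * L.g r m * (L.g p l)⁻¹ =
        (L.g p l * r * (L.g p l)⁻¹) * (L.g p l * L.e r m * (L.g p l)⁻¹) by simp [g, mul_assoc],
      ← L.g_fix hB h4, hg.2, hc, add_comm m c]
  have e : L.g p l * L.g r m = L.A (l * m ^ 2 * L.y p r + (l * m ^ 2 * L.y p r) ^ 2) *
      (L.g r m * L.g p l) := by
    rw [mul_inv_eq_iff_eq_mul.1 hconj, ← mul_assoc]
    congr 1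
    by_cases h0 : c = 0
    · rw [h0, zero_add, L.zero, show l * m ^ 2 * L.y p r = 0 by
        linear_combination m ^ 2 * h0, zero_pow two_ne_zero, add_zero, A_zero, one_mul]
      rfl
    by_cases hcm : c = m
    · rw [hcm, h4.add_self, L.zero, show l * m ^ 2 * L.y p r = 1 by
        linear_combination m ^ 2 * hcm + h4.cube hm, one_pow, h4.add_self, A_zero, one_mul]
      exact (L.comm_self hB r m).symm.eq
    · rw [L.pair_prod hB h4 r hm h0 hcm]
      have ht : l * m ^ 2 * L.y p r + (l * m ^ 2 * L.y p r) ^ 2 = 1 := by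
        refine (h4.trace _).resolve_left fun h => ?_
        rcases h4.trace_eq_zero.1 h with h | h
        · refine h0 ((mul_eq_zero.1 (?_ : c * m ^ 2 = 0)).resolve_right (pow_ne_zero 2 hm))
          linear_combination h
        · refine hcm (mul_right_cancel₀ (pow_ne_zero 2 hm) ?_)
          linear_combination h - h4.cube hm
      rw [ht, A_one]
  rw [mul_assoc a, ← mul_assoc (L.g p l) a, ← (L.g_comm_a hB p l).eq, mul_assoc a (L.g p l),
    invol_cancel (hB.sq a hB.ha), mul_assoc a, ← mul_assoc (L.g r m) a,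
    ← (L.g_comm_a hB r m).eq, mul_assoc a (L.g r m), invol_cancel (hB.sq a hB.ha), e]

theorem merge_one {p r : ↥(both D a b)} {l m : F}
    (h : L.herm (l • L.y p) (m • L.y r) = 1) :
    ∃ (t : ↥(both D a b)) (n : F), L.S p l * L.S r m = L.A 1 * L.S t n ∧ n • L.y t = l • L.y p + m • L.y r := by
  have hsw := L.swap hB h4 hL p r l m
  rw [h, one_pow, h4.add_self, A_zero, one_mul] at hsw
  rw [L.herm_yy hB h4 hL] at h
  have hl : l ≠ 0 := fun k => by simp [k] at h
  have hm : m ≠ 0 := fun k => by simp [k] at h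
  have hcm : L.xv (L.g p l) r = m := by
    rw [L.xv_g hL, Pi.smul_apply, smul_eq_mul]
    linear_combination m * h - l * L.y p r * h4.cube hm
  obtain ⟨t, n, -, ht, hn⟩ := L.conj_gen hB h4 (p := p) (r := r) l
  have hsplit := L.conj_split hB h4 (p := p) (r := r) l
  rw [hcm, ht] at hsplit
  refine ⟨t, n, ?_, ?_⟩
  · rw [hsw, L.S_of_ne p hl, L.S_of_ne r hm, L.S_of_ne t fun k => hl (hn.1 k), A_one,
      invol_cancel (hB.sq a hB.ha), hsplit, mul_assoc a, ← mul_assoc (L.g r m) a,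
      ← (L.g_comm_a hB r m).eq, mul_assoc a (L.g r m), invol_cancel (hB.sq a hB.ha)]
  · rw [← L.xv_g hL, hsplit, L.xv_mul hB h4 (L.g_mem r m) (L.g_mem p l), L.xv_g hL, L.xv_g hL,
      add_comm]

/-- A point of the line of two commuting points. -/
theorem y_line {p r : ↥(both D a b)} (hne : p ≠ r) (hpr : Commute (p : G) r)
    {t : ↥(both D a b)} (ht : (t : G) ∈ line D (p : G) r) :
    ∃ α β : F, L.y t = α • L.y p + β • L.y r := by
  have hrp : (r : G) ∈ perp D (p : G) := ⟨r.2.1, fun k => hne (Subtype.ext k).symm, hpr⟩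
  have vanish : ∀ x ∈ L.X, x p = 0 → x r = 0 → x t = 0 := by
    intro x hx hp hr
    obtain ⟨q, hq, rfl⟩ := L.exists_xv hB h4 hL hx
    have h := L.isTrans hB h4 hq
    have fixp : ∀ s : ↥(both D a b), L.xv q s = 0 → q * (s : G) * q⁻¹ = s := fun s hs => by
      rw [← L.zero s, h.2, hs, add_zero]
    have hl := hB.toThick.conj_line q ht
    rw [fixp p hp, fixp r hr] at hl
    have hb' : q * (t : G) * q⁻¹ ∈ both D a b := ⟨hl.1,
      hl.2 a ⟨hB.ha, p.2.2.1.symm, r.2.2.1.symm⟩,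
      hl.2 b ⟨hB.hb.1, p.2.2.2.symm, r.2.2.2.symm⟩⟩
    have hm : q * (t : G) * q⁻¹ = L.e t (L.xv q t) := by
      rw [← L.zero t, h.2, zero_add]
    refine L.inj t ?_
    rw [← hm, L.zero]
    exact hB.fib_unique t.2 hb' (hm ▸ L.mem t _) (hB.self_mem_fib hb')
  have dual : ∀ {p r : ↥(both D a b)}, p ≠ r → ∃ x ∈ L.X, x p = 1 ∧ x r = 0 := by
    intro p r hne
    obtain ⟨s, hs, hsr, hsp⟩ := hB.sep r.2 p.2 fun k => hne (Subtype.ext k).symm
    have hk : L.y ⟨s, hs⟩ p ≠ 0 := L.y_ne hB h4 hsp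
    exact ⟨(L.y ⟨s, hs⟩ p)⁻¹ • L.y ⟨s, hs⟩, L.smul_y_mem _ _, inv_mul_cancel₀ hk,
      by rw [Pi.smul_apply, L.y_commute hB h4 (p := ⟨s, hs⟩) hsr, smul_zero]⟩
  obtain ⟨x1, m1, h11, h12⟩ := dual hne
  obtain ⟨x2, m2, h22, h21⟩ := dual (Ne.symm hne)
  refine ⟨(x1 t) ^ 2, (x2 t) ^ 2, funext fun s => ?_⟩
  have h := vanish (L.y s + (L.y s p • x1 + L.y s r • x2))
    (add_mem (L.y_mem s) (add_mem (Submodule.smul_mem _ _ m1) (Submodule.smul_mem _ _ m2)))
    (by simp [h11, h21, h4.add_self]) (by simp [h12, h22, h4.add_self])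
  simp only [Pi.add_apply, Pi.smul_apply, smul_eq_mul] at h ⊢
  rw [L.y_symm hB h4 hL s t, h4.add_eq_zero.1 h, h4.sq_add, mul_pow, mul_pow,
    ← L.y_symm hB h4 hL, ← L.y_symm hB h4 hL]
  ring

theorem exists_line_vector {p r : ↥(both D a b)} (hne : p ≠ r) (hpr : Commute (p : G) r)
    {l m : F} (hl : l ≠ 0) (hm : m ≠ 0) : ∃ (t : ↥(both D a b)) (n : F), n • L.y t = l • L.y p + m • L.y r := by
  classical
  have : Finite F := h4.finite
  have : Fintype F := Fintype.ofFinite F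
  have hrp : (r : G) ∈ perp D (p : G) := ⟨r.2.1, fun k => hne (Subtype.ext k).symm, hpr⟩
  obtain ⟨x, hx⟩ : ∃ x : ↥(both D a b), (x : G) ∈ line D (p : G) r ∧ x ≠ p ∧ x ≠ r ∧
      ∀ α β : F, L.y x = α • L.y p + β • L.y r → α * m = β * l := by
    by_contra hcon
    let Z := {z : G | z ∈ line D (p : G) r} \ {(p : G), (r : G)}
    have hZ : Z.ncard = 3 := by
      show ((line D (p : G) r) \ {(p : G), (r : G)}).ncard = 3
      rw [Set.ncard_sdiff (by
          rintro z (rfl | rfl)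
          · exact left_mem_line p.2.1 hrp
          · exact right_mem_line p.2.1 hrp) (Set.toFinite _),
        hB.five p p.2.1 r hrp, Set.ncard_pair fun k => hne (Subtype.ext k)]
    have hmem : ∀ z ∈ Z, z ∈ both D a b := fun z hz => ⟨hz.1.1,
      hz.1.2 a ⟨hB.ha, p.2.2.1.symm, r.2.2.1.symm⟩,
      hz.1.2 b ⟨hB.hb.1, p.2.2.2.symm, r.2.2.2.symm⟩⟩
    have hab : ∀ z : ↥Z, ∃ k : F, k ≠ 0 ∧ k ≠ m / l ∧ ∃ α : F, α ≠ 0 ∧
        L.y ⟨z.1, hmem z.1 z.2⟩ = α • (L.y p + k • L.y r) := by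
      rintro ⟨z, hz⟩
      obtain ⟨α, β, h⟩ := L.y_line hB h4 hL hne hpr (t := ⟨z, hmem z hz⟩) hz.1
      have hα : α ≠ 0 := by
        intro k
        rw [k, zero_smul, zero_add, ← one_smul F (L.y ⟨z, hmem z hz⟩)] at h
        exact hz.2 (Or.inr (congrArg Subtype.val (L.eq_of_smul_y hB h4 hL h one_ne_zero).1))
      have hβ : β ≠ 0 := by
        intro k
        rw [k, zero_smul, add_zero, ← one_smul F (L.y ⟨z, hmem z hz⟩)] at h
        exact hz.2 (Or.inl (congrArg Subtype.val (L.eq_of_smul_y hB h4 hL h one_ne_zero).1))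
      refine ⟨β / α, div_ne_zero hβ hα, fun k => hcon ⟨⟨z, hmem z hz⟩, hz.1, ?_, ?_, ?_⟩, α, hα, ?_⟩
      · exact fun e => hz.2 (Or.inl (congrArg Subtype.val e))
      · exact fun e => hz.2 (Or.inr (congrArg Subtype.val e))
      · intro α' β' h'
        rw [h] at h'
        have e1 : (α + α') • L.y p = (β + β') • L.y r := by
          funext s
          have := congrFun h' s
          simp only [Pi.add_apply, Pi.smul_apply, smul_eq_mul] at this ⊢
          linear_combination this + α' * L.y p s * h4.two - β * L.y r s * h4.two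
        have e2 : α = α' := h4.add_eq_zero.1 (by
          by_contra e
          exact hne (L.eq_of_smul_y hB h4 hL e1 e).1)
        subst e2
        rw [h4.add_self, zero_smul] at e1
        rw [← h4.add_eq_zero.1 (L.smul_y_eq_zero hB h4 hL e1.symm)]
        rw [div_eq_div_iff hα hl] at k
        rw [mul_comm α m, k]
      · rw [h, smul_add, smul_smul, mul_div_cancel₀ β hα]
    choose k hk0 hkm α hα hk using hab
    have hinj : Function.Injective k := by
      intro z z' e
      have h1 := hk z'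
      rw [← e] at h1
      have h2 : (α z)⁻¹ • L.y ⟨z.1, hmem z.1 z.2⟩ = (α z')⁻¹ • L.y ⟨z'.1, hmem z'.1 z'.2⟩ := by
        rw [hk z, h1, inv_smul_smul₀ (hα z), inv_smul_smul₀ (hα z')]
      exact Subtype.ext (congrArg (fun w : ↥(both D a b) => (w : G))
        (L.eq_of_smul_y hB h4 hL h2 (inv_ne_zero (hα z))).1)
    have h := Set.ncard_le_ncard (s := Set.range k) (t := ({0, m / l} : Set F)ᶜ)
      (by rintro _ ⟨z, rfl⟩; simp [hk0 z, hkm z]) (Set.toFinite _)
    rw [Set.ncard_range_of_injective hinj, Nat.card_coe_set_eq, hZ, Set.ncard_compl,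
      Set.ncard_pair (div_ne_zero hm hl).symm, h4.card] at h
    omega
  obtain ⟨hxl, hxp, hxr, hx⟩ := hx
  obtain ⟨α, β, h⟩ := L.y_line hB h4 hL hne hpr hxl
  have hαβ := hx α β h
  have hα : α ≠ 0 := by
    intro k
    rw [k, zero_smul, zero_add, ← one_smul F (L.y x)] at h
    exact hxr (L.eq_of_smul_y hB h4 hL h one_ne_zero).1
  refine ⟨x, l / α, ?_⟩
  rw [h, smul_add, smul_smul, smul_smul, div_mul_cancel₀ l hα,
    show l / α * β = m by field_simp; linear_combination -hαβ]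

theorem merge_zero {p r : ↥(both D a b)} {l m : F}
    (h : L.herm (l • L.y p) (m • L.y r) = 0) :
    ∃ (t : ↥(both D a b)) (n : F), L.S p l * L.S r m = L.S t n ∧ n • L.y t = l • L.y p + m • L.y r := by
  by_cases hl : l = 0
  · exact ⟨r, m, by rw [hl, S_zero, one_mul], by rw [hl, zero_smul, zero_add]⟩
  by_cases hm : m = 0
  · exact ⟨p, l, by rw [hm, S_zero, mul_one], by rw [hm, zero_smul, add_zero]⟩
  by_cases hne : p = r
  · subst hne
    exact ⟨p, l + m, L.S_mul hB h4 p l m, add_smul _ _ _⟩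
  rw [L.herm_yy hB h4 hL] at h
  have hpr : Commute (p : G) r := by
    by_contra k
    exact L.y_ne hB h4 k ((mul_eq_zero.1 h).resolve_left (mul_ne_zero hl (pow_ne_zero 2 hm)))
  obtain ⟨t, n, htn⟩ := L.exists_line_vector hB h4 hL hne hpr hl hm
  refine ⟨t, n, ?_, htn⟩
  have hq : L.S p l * L.S r m * L.S t n ∈ L.Q :=
    mul_mem (mul_mem (L.S_mem p l) (L.S_mem r m)) (L.S_mem t n)
  have hx : L.xv (L.S p l * L.S r m * L.S t n) = 0 := by
    rw [L.xv_mul hB h4 (mul_mem (L.S_mem p l) (L.S_mem r m)) (L.S_mem t n),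
      L.xv_mul hB h4 (L.S_mem p l) (L.S_mem r m), L.xv_S' hB h4 hL, L.xv_S' hB h4 hL,
      L.xv_S' hB h4 hL, ← htn]
    exact funext fun s => h4.add_self _
  rcases L.kernel hB h4 hq hx with hq1 | hq1
  · rw [eq_inv_of_mul_eq_one_left hq1, L.S_inv hB h4]
  exfalso
  have e : L.S p l * L.S r m = a * L.S t n := by
    rw [← L.S_inv hB h4 t n]
    exact eq_mul_inv_of_mul_eq hq1
  have hbp := hB.mem_perp_right p.2
  have hbr := hB.mem_perp_right r.2
  have hr1 : Commute (L.S p l * b * (L.S p l)⁻¹) r :=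
    hB.toThick.commute_line hB.hb.1 hbp (left_mem_line hB.hb.1 hbp) (right_mem_line hB.hb.1 hbp)
      hbp.2.1.symm (L.S_conj_mem_line hB p l) r.2.1 r.2.2.2 hpr.symm
  have h12 : Commute (L.S r m * b * (L.S r m)⁻¹) (L.S p l * b * (L.S p l)⁻¹) :=
    (L.S_conj_mem_line hB r m).2 _ ⟨hB.toTClass.conj _ b hB.hb.1, L.S_conj_commute hB p l, hr1⟩
  have hc := h12.conj (L.S p l)
  rw [show L.S p l * (L.S p l * b * (L.S p l)⁻¹) * (L.S p l)⁻¹ = b by
      rw [L.S_inv hB h4]
      have : L.S p l * L.S p l = 1 := by rw [L.S_mul hB h4, h4.add_self, S_zero]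
      simp only [mul_assoc, invol_cancel this, this, mul_one],
    show L.S p l * (L.S r m * b * (L.S r m)⁻¹) * (L.S p l)⁻¹ =
      a * (L.S t n * b * (L.S t n)⁻¹) * a by
      rw [show L.S p l * (L.S r m * b * (L.S r m)⁻¹) * (L.S p l)⁻¹ =
          (L.S p l * L.S r m) * b * (L.S p l * L.S r m)⁻¹ by simp [mul_assoc], e]
      simp [mul_assoc, hB.ts.inv_eq hB.ha]] at hc
  refine hB.third_spec hB.ha (hB.toTClass.conj _ b hB.hb.1) ?_
    (Or.inl ⟨fun k => hB.hb.2 k.symm, (L.S_conj_commute hB t n).symm⟩) hc.symm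
  exact (L.conj_b_nbr hB h4 (L.S_mem t n)).2

theorem merge {p r : ↥(both D a b)} {l m : F}
    (h : L.herm (l • L.y p) (m • L.y r) = 0 ∨ L.herm (l • L.y p) (m • L.y r) = 1) :
    ∃ (t : ↥(both D a b)) (n : F), L.S p l * L.S r m = L.A (L.herm (l • L.y p) (m • L.y r)) * L.S t n ∧
      n • L.y t = l • L.y p + m • L.y r := by
  rcases h with h | h
  · obtain ⟨t, n, e, e'⟩ := L.merge_zero hB h4 hL h
    exact ⟨t, n, by rw [h, A_zero, one_mul, e], e'⟩
  · obtain ⟨t, n, e, e'⟩ := L.merge_one hB h4 hL h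
    exact ⟨t, n, by rw [h, e], e'⟩

end Lab

end Cfsg.Agent.Fischer.Polar
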