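import Cfsg.Agent.Lib.Fischer.Polar.Orient

/-!
The translations act freely on the members that do not commute with `a`.
-/

set_option autoImplicit false

namespace Cfsg.Agent.Fischer.Polar

open Cfsg Cfsg.Agent.Fischer.Solv

universe u

variable {G : Type u} [Group G] [Finite G] {D : Set G} {a b : G} {F : Type} [Field F]

namespace Base

variable (hB : Base D a b)
include hB

theorem fix_all {z : G} (hza : z * a * z⁻¹ = a) (hzb : z * b * z⁻¹ = b)
    (hz : ∀ v ∈ perp D a, z * v * z⁻¹ = v) : z = 1 := by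
  have step : ∀ c ∈ nbr D a, ∀ d ∈ nbr D a, Commute d c → z * d * z⁻¹ = d → z * c * z⁻¹ = c := by
    intro c hc d hd hdc hzd
    have hn : z * c * z⁻¹ ∈ nbr D a := by
      have := conj_mem_nbr hB.toTClass z hc
      rwa [hza] at this
    have hW : ∀ e ∈ both D a c, Commute e (z * c * z⁻¹) := by
      intro e he
      have hzf : z * e * z⁻¹ = e := by
        by_cases hea : e = a
        · rw [hea]; exact hza
        · exact hz e ⟨he.1, hea, he.2.1.symm⟩
      have := he.2.2.conj z
      rwa [hzf] at this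
    rcases hB.toPolar.span a hB.ha c hc _ hn hW with h | h
    · exact h
    · exfalso
      refine hB.third_spec hB.ha hc.1 hc.2 (Or.inl ⟨fun k => hd.2 k.symm, hdc⟩) ?_
      have := hdc.conj z
      rwa [hzd, h] at this
  have hall : ∀ c ∈ D, z * c * z⁻¹ = c := by
    intro c hc
    by_cases hca : Commute a c
    · by_cases h : c = a
      · rw [h]; exact hza
      · exact hz c ⟨hc, h, hca⟩
    have hc' : c ∈ nbr D a := ⟨hc, hca⟩
    by_cases hcb : Commute b c
    · exact step c hc' b hB.hb hcb hzb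
    by_cases hex : ∃ d ∈ both D b c, ¬Commute a d
    · obtain ⟨d, hd, hda⟩ := hex
      exact step c hc' d ⟨hd.1, hda⟩ hd.2.2 (step d ⟨hd.1, hda⟩ b hB.hb hd.2.1.symm hzb)
    push Not at hex
    rcases hB.toPolar.span b hB.hb.1 c ⟨hc, hcb⟩ a ⟨hB.ha, fun k => hB.hb.2 k.symm⟩
        (fun d hd => (hex d hd).symm) with h | h
    · exact absurd (h ▸ Commute.refl a) hca
    · have e : c = a * b * a := by
        rw [hB.ts.braid hB.ha hB.hb.1 hB.hb.2, h, invol_conj_invol (hB.sq b hB.hb.1)]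
      rw [e]
      calc z * (a * b * a) * z⁻¹ = (z * a * z⁻¹) * (z * b * z⁻¹) * (z * a * z⁻¹) := by
            simp [mul_assoc]
        _ = a * b * a := by rw [hza, hzb]
  rw [← Subgroup.mem_bot, ← hB.center]
  exact eq_top_of_mem_center hB.toTClass fun c hc => (mul_inv_eq_iff_eq_mul.1 (hall c hc)).symm

end Base

namespace Lab

variable (L : Lab D a b F) (hB : Base D a b) (h4 : IsFour F)
include hB h4

theorem conj_b_nbr {q : G} (hq : q ∈ L.Q) : q * b * q⁻¹ ∈ nbr D a := by
  have := conj_mem_nbr hB.toTClass q hB.hb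
  rwa [(L.isTrans hB h4 hq).1] at this

theorem kernel {q : G} (hq : q ∈ L.Q) (hx : L.xv q = 0) : q = 1 ∨ q = a := by
  have ht := L.isTrans hB h4 hq
  have hfix : ∀ v ∈ perp D a, q * v * q⁻¹ = v := by
    intro v hv
    obtain ⟨p, hp, hvp⟩ := hB.proj hv
    obtain ⟨l, rfl⟩ := L.surj hB h4 ⟨p, hp⟩ hvp
    rw [ht.2, hx, Pi.zero_apply, add_zero]
  rcases hB.toPolar.span a hB.ha b hB.hb _ (L.conj_b_nbr hB h4 hq) (fun d hd => by
      have h := hd.2.2.conj q
      rwa [hfix d (hB.mem_perp hd)] at h) with h | h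
  · exact Or.inl (hB.fix_all ht.1 h hfix)
  · refine Or.inr ?_
    have hcj : ∀ v : G, a * q * v * (a * q)⁻¹ = a * (q * v * q⁻¹) * a := fun v => by
      simp [mul_assoc, hB.ts.inv_eq hB.ha]
    have h1 := hB.fix_all (z := a * q) (by rw [hcj, ht.1, hB.sq a hB.ha, one_mul])
      (by rw [hcj, h, invol_conj_invol (hB.sq a hB.ha)])
      (fun v hv => by
        rw [hcj, hfix v hv, invol_conj_eq_of_commute (hB.sq a hB.ha) hv.2.2])
    rw [← inv_eq_of_mul_eq_one_right h1, hB.ts.inv_eq hB.ha]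

/-- Free action. -/
theorem free {q : G} (hq : q ∈ L.Q) (h : q * b * q⁻¹ = b) : q = 1 := by
  have ht := L.isTrans hB h4 hq
  have hx : L.xv q = 0 := by
    funext r
    refine L.inj r ?_
    rw [← zero_add (L.xv q r), ← ht.2 r 0, Pi.zero_apply, L.zero]
    have hc : Commute (q * (r : G) * q⁻¹) b := by
      have := r.2.2.2.conj q
      rwa [h] at this
    have hm : q * (r : G) * q⁻¹ ∈ fib D a r := by
      have := ht.2 r 0
      rw [L.zero] at this
      rw [this]
      exact L.mem r _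
    have hb' : q * (r : G) * q⁻¹ ∈ both D a b :=
      ⟨hm.1.1, (hB.fib_perp r.2 hm).2.2.symm, hc⟩
    exact hB.fib_unique r.2 hb' hm (hB.self_mem_fib hb')
  rcases L.kernel hB h4 hq hx with h1 | h1
  · exact h1
  · exfalso
    subst h1
    rw [hB.ts.inv_eq hB.ha] at h
    exact (hB.ts.third_ne hB.ha hB.hb.1 hB.hb.2).2 h

omit h4 in
/-- The image of `b` under a section lies on a line through `b`. -/
theorem S_conj_eq (p : ↥(both D a b)) {l : F} (hl : l ≠ 0) :
    L.S p l * b * (L.S p l)⁻¹ = a * (b * L.e p l * b) * a := by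
  have hvb : ¬Commute (L.e p l) b := fun k => hl (L.inj p (by
    rw [L.zero]
    refine hB.fib_unique p.2 ⟨(L.mem p l).1.1, (L.comm_a hB p l).symm, k⟩ (L.mem p l) ?_
    exact hB.self_mem_fib ⟨(L.mem p l).1.1, (L.comm_a hB p l).symm, k⟩))
  rw [L.S_of_ne p hl, mul_inv_rev, L.g_inv hB, hB.ts.inv_eq hB.ha]
  have e1 : L.g p l * b * L.g p l = (p : G) * (L.e p l * b * L.e p l) * p := by
    conv_lhs => arg 2; rw [g, (L.comm_self hB p l).eq]
    rw [g]
    simp only [mul_assoc]
  calc a * L.g p l * b * (L.g p l * a) = a * (L.g p l * b * L.g p l) * a := by simp only [mul_assoc]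
    _ = a * (b * L.e p l * b) * a := by
      rw [e1, hB.ts.braid (L.mem p l).1.1 hB.hb.1 hvb,
        invol_conj_eq_of_commute (hB.sq p p.2.1) ((p.2.2.2.mul_right (L.comm_self hB p l)).mul_right
          p.2.2.2)]

omit h4 in
theorem S_conj_mem_line (p : ↥(both D a b)) (l : F) :
    L.S p l * b * (L.S p l)⁻¹ ∈ line D b p := by
  have hbp := hB.mem_perp_right p.2
  by_cases hl : l = 0
  · rw [hl, L.S_zero, one_mul, inv_one, mul_one]
    exact left_mem_line hB.hb.1 hbp
  rw [L.S_conj_eq hB p hl]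
  have h := hB.toThick.invol_line hB.ha (hB.toThick.invol_line hB.hb.1 (L.mem p l).1)
  rwa [hB.ts.braid hB.hb.1 hB.ha (fun k => hB.hb.2 k.symm), invol_conj_invol (hB.sq a hB.ha),
    invol_conj_eq_of_commute (hB.sq b hB.hb.1) p.2.2.2.symm,
    invol_conj_eq_of_commute (hB.sq a hB.ha) p.2.2.1.symm] at h

omit h4 in
theorem S_conj_commute (p : ↥(both D a b)) (l : F) :
    Commute (L.S p l * b * (L.S p l)⁻¹) b :=
  line_commute_left hB.hb.1 (hB.mem_perp_right p.2) (L.S_conj_mem_line hB p l)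

theorem S_inv (p : ↥(both D a b)) (l : F) : (L.S p l)⁻¹ = L.S p l :=
  inv_eq_of_mul_eq_one_right (by rw [L.S_mul hB h4, h4.add_self, L.S_zero])

end Lab

end Cfsg.Agent.Fischer.Polar
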