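import Cfsg.Agent.Lib.Fischer.Solvable.Setup
import Cfsg.Agent.Lib.Fischer.RankThree

/-!
Classes of 3-transpositions with thick lines: the line of two commuting members consists of the
members commuting with everything that commutes with both.
-/

set_option autoImplicit false

namespace Cfsg.Agent.Fischer.Polar

open Cfsg Cfsg.Agent.Fischer.Solv

variable {G : Type*} [Group G] {D : Set G}

/-- The line of two commuting members. -/
def line (D : Set G) (u v : G) : Set G := {e | e ∈ D ∧ ∀ d ∈ both D u v, Commute e d}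

/-- The geometry of thick lines. -/
structure Thick (D : Set G) : Prop extends TClass D where
  sol : ∀ N : Subgroup G, N.Normal → Group.IsSolvable ↥N → N ≤ commutator G → N = ⊥
  center : Subgroup.center G = ⊥
  conn : ∀ a ∈ D, ∀ v ∈ D, Relation.ReflTransGen (CAdj D) a v
  nonempty_perp : ∀ u ∈ D, (perp D u).Nonempty
  not_all_commute : ∀ u ∈ D, ∃ w ∈ D, ¬Commute u w
  twins : ∀ u ∈ D, ∀ v ∈ perp D u, ∃ e ∈ line D u v, e ≠ u ∧ e ≠ v

theorem both_comm (u v : G) : both D u v = both D v u := by
  ext e; exact ⟨fun h => ⟨h.1, h.2.2, h.2.1⟩, fun h => ⟨h.1, h.2.2, h.2.1⟩⟩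

theorem line_comm (u v : G) : line D u v = line D v u := by rw [line, line, both_comm]

theorem line_subset (u v : G) : line D u v ⊆ D := fun _ h => h.1

section

variable {u v : G} (hu : u ∈ D) (hv : v ∈ perp D u)
include hu hv

theorem left_mem_both : u ∈ both D u v := ⟨hu, Commute.refl u, hv.2.2⟩

theorem right_mem_both : v ∈ both D u v := ⟨hv.1, hv.2.2.symm, Commute.refl v⟩

theorem left_mem_line : u ∈ line D u v := ⟨hu, fun _ hd => hd.2.1.symm⟩

theorem right_mem_line : v ∈ line D u v := ⟨hv.1, fun _ hd => hd.2.2.symm⟩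

theorem line_commute_left {e : G} (he : e ∈ line D u v) : Commute e u :=
  he.2 u (left_mem_both hu hv)

theorem line_commute_right {e : G} (he : e ∈ line D u v) : Commute e v :=
  he.2 v (right_mem_both hu hv)

theorem line_commute {e f : G} (he : e ∈ line D u v) (hf : f ∈ line D u v) : Commute e f :=
  he.2 f ⟨hf.1, line_commute_left hu hv hf, line_commute_right hu hv hf⟩

theorem mem_perp_of_mem_line {e : G} (he : e ∈ line D u v) (hne : e ≠ u) : e ∈ perp D u :=
  ⟨he.1, hne, (line_commute_left hu hv he).symm⟩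

end

namespace Thick

variable [Finite G] (hT : Thick D)
include hT

omit [Finite G] in
theorem ts : TSet D := hT.toTClass.toTSet

omit [Finite G] in
theorem conj_line (g : G) {u v e : G} (he : e ∈ line D u v) :
    g * e * g⁻¹ ∈ line D (g * u * g⁻¹) (g * v * g⁻¹) := by
  refine ⟨hT.conj g e he.1, fun d hd => ?_⟩
  have := (he.2 (g⁻¹ * d * g) ⟨by simpa using hT.conj g⁻¹ d hd.1,
    by simpa [mul_assoc] using hd.2.1.conj g⁻¹, by simpa [mul_assoc] using hd.2.2.conj g⁻¹⟩).conj g
  simpa [mul_assoc] using this

omit [Finite G] in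
theorem invol_line {a u v e : G} (ha : a ∈ D) (he : e ∈ line D u v) :
    a * e * a ∈ line D (a * u * a) (a * v * a) := by
  have := hT.conj_line a he
  rwa [hT.ts.inv_eq ha] at this

theorem line_eq_left {u v e : G} (hu : u ∈ D) (hv : v ∈ perp D u) (he : e ∈ line D u v)
    (hne : e ≠ u) : line D u e = line D u v := by
  have hsub : both D u v ⊆ both D u e := fun d hd => ⟨hd.1, hd.2.1, (he.2 d hd).symm⟩
  rw [line, line, Set.eq_of_subset_of_ncard_le hsub
    (ncard_both_eq hT.toTClass hT.sol hu (mem_perp_of_mem_line hu hv he hne) hu hv).le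
    (Set.toFinite _)]

theorem line_eq {u v e f : G} (hu : u ∈ D) (hv : v ∈ perp D u) (he : e ∈ line D u v)
    (hf : f ∈ line D u v) (hef : e ≠ f) : line D e f = line D u v := by
  by_cases heu : e = u
  · subst heu; exact hT.line_eq_left hu hv hf hef.symm
  have hep := mem_perp_of_mem_line hu hv he heu
  have h1 := hT.line_eq_left hu hv he heu
  have hue : u ∈ perp D e := perp_symm hu hep
  rw [← h1, line_comm u e]
  refine hT.line_eq_left he.1 hue ?_ hef.symm
  rw [line_comm, h1]
  exact hf

/-- A member commuting with two points of a line commutes with all. -/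
theorem commute_line {u v e f g c : G} (hu : u ∈ D) (hv : v ∈ perp D u) (he : e ∈ line D u v)
    (hf : f ∈ line D u v) (hef : e ≠ f) (hg : g ∈ line D u v) (hc : c ∈ D) (hce : Commute c e)
    (hcf : Commute c f) : Commute g c := by
  rw [← hT.line_eq hu hv he hf hef] at hg
  exact hg.2 c ⟨hc, hce, hcf⟩

/-- Points of a line through `x` behave equally on `perp D x`. -/
theorem commute_iff_of_line {x a s c : G} (hx : x ∈ D) (ha : a ∈ perp D x) (hs : s ∈ line D x a)
    (hsx : s ≠ x) (hc : c ∈ D) (hcx : Commute c x) : Commute c a ↔ Commute c s :=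
  ⟨fun h => (hs.2 c ⟨hc, hcx, h⟩).symm, fun h => (hT.commute_line hx ha (left_mem_line hx ha) hs
    (Ne.symm hsx) (right_mem_line hx ha) hc hcx h).symm⟩

theorem star_line {x a s b : G} (hs : s ∈ line D x a) (hb : b ∈ perp D x) :
    b * s * b ∈ line D x (b * a * b) := by
  have := hT.invol_line hb.1 hs
  rwa [invol_conj_eq_of_commute (hT.sq b hb.1) hb.2.2.symm] at this

theorem exists_nonCommute {x b : G} (hx : x ∈ D) (hb : b ∈ perp D x) :
    ∃ a ∈ perp D x, ¬Commute a b := by
  obtain ⟨e, he, hne, heb⟩ := hT.twins x hx b hb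
  rcases Relation.ReflTransGen.cases_head
      (perp_connected hT.toTClass hT.sol hx hb (mem_perp_of_mem_line hx hb he hne)) with h | ⟨a, h, -⟩
  · exact absurd h.symm heb
  · exact ⟨a, h.2.1, fun hc => h.2.2 hc.symm⟩

/-- Some member commutes with both ends of a non-commuting pair. -/
theorem prj_nonempty {x w : G} (hx : x ∈ D) (hw : w ∈ nbr D x) :
    ∃ a ∈ perp D x, Commute a w := by
  by_contra hnone
  push Not at hnone
  have key : ∀ v, Relation.ReflTransGen (CAdj D) x v → Commute x v := by
    intro v hv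
    induction hv with
    | refl => exact Commute.refl x
    | tail hreach hstep ih =>
      rename_i p q
      by_contra hxq
      have hp : p ∈ perp D x := by
        refine ⟨?_, fun e => hxq (e ▸ hstep.2), ih⟩
        rcases Relation.ReflTransGen.cases_tail hreach with rfl | ⟨_, -, h⟩
        · exact hx
        · exact h.1
      obtain ⟨g, hgx, hgq⟩ := nbr_transitive hT.toTClass hT.sol hT.conn hx ⟨hstep.1, hxq⟩ hw
      refine hnone (g * p * g⁻¹) ?_ ?_
      · have := conj_mem_perp hT.toTClass g hp
        rwa [hgx] at this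
      · rw [← hgq]; exact hstep.2.conj g
  exact hw.2 (key w (hT.conn x hx w hw.1))

/-- Three members of a plane see a common member. -/
theorem exists_common {x w b : G} (hx : x ∈ D) (hw : w ∈ nbr D x) (hb : b ∈ perp D x) :
    ∃ e ∈ D, Commute e x ∧ Commute e w ∧ Commute e b := by
  obtain ⟨a, ha, haw⟩ := hT.prj_nonempty hx hw
  by_cases hba : Commute b a
  · exact ⟨a, ha.1, ha.2.2.symm, haw, hba.symm⟩
  by_cases hbw : Commute b w
  · exact ⟨b, hb.1, hb.2.2.symm, hbw, Commute.refl b⟩
  obtain ⟨s, hs, hsx, hsane⟩ := hT.twins x hx a ha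
  have hT' := hT.ts
  have has : Commute a s := (line_commute_right hx ha hs).symm
  have hsb : ¬Commute s b := fun h => hba
    ((hT.commute_iff_of_line hx ha hs hsx hb.1 hb.2.2.symm).2 h.symm)
  have hsx' : Commute s x := line_commute_left hx ha hs
  set q := a * (s * b * s) * a with hqdef
  have hqD : q ∈ D := hT'.conj_mem ha.1 (hT'.conj_mem hs.1 hb.1)
  have hqline : q ∈ line D x b := by
    have h1 := hT.invol_line ha.1 (hT.star_line hs hb)
    rw [hT'.braid hb.1 ha.1 hba, invol_conj_invol (hT.sq a ha.1),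
      invol_conj_eq_of_commute (hT.sq a ha.1) ha.2.2.symm, ← hT'.braid hs.1 hb.1 hsb] at h1
    exact h1
  have hqne : q ≠ x := by
    intro h
    have h1 : b = x := by
      have h2 : s * b * s = x := invol_conj_inj (hT.sq a ha.1)
        ((h : a * (s * b * s) * a = x).trans
          (invol_conj_eq_of_commute (hT.sq a ha.1) ha.2.2.symm).symm)
      exact invol_conj_inj (hT.sq s hs.1)
        (h2.trans (invol_conj_eq_of_commute (hT.sq s hs.1) hsx').symm)
    exact hb.2.1 h1
  have hq : q ∈ perp D x := mem_perp_of_mem_line hx hb hqline hqne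
  have hqb : Commute q b := line_commute_right hx hb hqline
  by_cases hqw : Commute q w
  · exact ⟨q, hq.1, hq.2.2.symm, hqw, hqb⟩
  have hqa : ¬Commute q a := fun h => hba
    ((hT.commute_iff_of_line hx hb hqline hqne ha.1 ha.2.2.symm).2 h.symm).symm
  have ib := invol_cancel (hT.sq b hb.1)
  have iq := invol_cancel (hT.sq q hq.1)
  have ia := invol_cancel (hT.sq a ha.1)
  set t := b * q with htdef
  have ht : t * t = 1 := by
    rw [htdef, show b * q * (b * q) = b * (q * b) * q by simp only [mul_assoc], hqb.eq]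
    simp only [mul_assoc, ib, hT.sq q hq.1]
  have htb : t = q * b := hqb.symm.eq
  have htx : Commute t x := (hb.2.2.mul_right hq.2.2).symm
  have hat : t * a * t = s := by
    have e1 : q * a * q = b * s * b := by
      rw [hT'.braid hq.1 ha.1 hqa, hqdef]
      simp only [mul_assoc, ia, hT.sq a ha.1, mul_one]
      simpa only [mul_assoc] using hT'.braid hs.1 hb.1 hsb
    conv_lhs => arg 2; rw [htb]
    rw [htdef, show b * q * a * (q * b) = b * (q * a * q) * b by simp only [mul_assoc], e1]
    exact invol_conj_invol (hT.sq b hb.1) s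
  set r := t * w * t with hrdef
  have hr : r ∈ D := by
    have h1 := hT'.conj_mem hb.1 (hT'.conj_mem hq.1 hw.1)
    rwa [show b * (q * w * q) * b = b * q * w * (q * b) by simp only [mul_assoc], ← htb] at h1
  have har : ¬Commute a r := fun h => by
    rw [hrdef, ← commute_invol_conj_left ht, hat] at h
    exact hw.2 (hT.commute_line hx ha (right_mem_line hx ha) hs hsane.symm (left_mem_line hx ha)
      hw.1 haw.symm h.symm)
  have hxr : ¬Commute x r := fun h => by
    rw [hrdef, ← commute_invol_conj_left ht, invol_conj_eq_of_commute ht htx] at h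
    exact hw.2 h
  have hwr : Commute w r := by
    rw [show r = b * (q * w * q) * b by
      rw [hrdef]; conv_lhs => arg 2; rw [htb]
      rw [htdef]; simp only [mul_assoc],
      ← commute_invol_conj_left (hT.sq b hb.1), hT'.braid hb.1 hw.1 hbw, hT'.braid hq.1 hw.1 hqw,
      commute_invol_conj (hT.sq w hw.1)]
    exact hqb.symm
  set u := a * t * a with hudef
  have hu : u * u = 1 := by
    rw [hudef]
    simp only [mul_assoc, ia, invol_cancel ht, hT.sq a ha.1]
  set z := w * (x * r * x) * w with hzdef
  set e := u * z * u with hedef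
  have hz : z ∈ D := hT'.conj_mem hw.1 (hT'.conj_mem hx hr)
  have heD : e ∈ D := by
    have := hT.toTClass.conj u z hz
    rwa [inv_eq_self hu] at this
  have hxa : x * r * x = r * x * r := hT'.braid hx hr hxr
  have hew : Commute e w := by
    rw [hedef, commute_invol_conj_left hu]
    have e1 : u * w * u = a * r * a := by
      rw [hudef, hrdef, show a * t * a * w * (a * t * a) = a * t * (a * w * a) * t * a by
        simp only [mul_assoc], invol_conj_eq_of_commute (hT.sq a ha.1) haw]
      simp only [mul_assoc]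
    rw [e1, hzdef, commute_invol_conj_left (hT.sq w hw.1),
      invol_conj_eq_of_commute (hT.sq w hw.1) ((haw.symm.mul_right hwr).mul_right haw.symm),
      hxa, hT'.braid ha.1 hr har, commute_invol_conj (hT.sq r hr)]
    exact ha.2.2
  have hex : Commute e x := by
    have hux : Commute u x :=
      (ha.2.2.symm.mul_left htx).mul_left ha.2.2.symm
    rw [hedef, commute_invol_conj_left hu, invol_conj_eq_of_commute hu hux, hzdef,
      commute_invol_conj_left (hT.sq w hw.1),
      hT'.braid hw.1 hx (fun h => hw.2 h.symm), commute_invol_conj (hT.sq x hx)]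
    exact hwr.symm
  have heb : Commute e b := by
    have e1 : t * (a * b * a) * t = a * q * a := by
      rw [hT'.braid ha.1 hb.1 (fun h => hba h.symm), ← hT'.braid hq.1 ha.1 hqa]
      conv_lhs => arg 1; arg 1; rw [htb]
      rw [htdef]
      simp only [mul_assoc, ib]
    have e2 : u * b * u = q := by
      rw [hudef, show a * t * a * b * (a * t * a) = a * (t * (a * b * a) * t) * a by
        simp only [mul_assoc], e1]
      exact invol_conj_invol (hT.sq a ha.1) q
    have e3 : q * r * q = b * w * b := by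
      rw [hrdef]; conv_lhs => arg 1; arg 2; arg 1; arg 1; rw [htb]
      rw [htdef]
      simp only [mul_assoc, iq, hT.sq q hq.1, mul_one]
    rw [hedef, commute_invol_conj_left hu, e2, hzdef, commute_invol_conj_left (hT.sq w hw.1),
      hT'.braid hw.1 hq.1 (fun h => hqw h.symm), commute_invol_conj_left (hT.sq x hx),
      show x * (q * w * q) * x = q * (x * w * x) * q by
        simp only [← mul_assoc, hq.2.2.eq]; simp only [mul_assoc, hq.2.2.eq],
      ← commute_invol_conj_left (hT.sq q hq.1), e3, hT'.braid hb.1 hw.1 hbw,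
      hT'.braid hx hw.1 hw.2, commute_invol_conj (hT.sq w hw.1)]
    exact hb.2.2.symm
  exact ⟨e, heD, hex, hew, heb⟩

/-- Members whose commuting partners agree are equal. -/
theorem eq_of_perp_eq {a v : G} (ha : a ∈ D) (hv : v ∈ D) (hnc : ¬Commute a v) :
    perp D a ≠ perp D v := by
  intro h
  obtain ⟨c, hc⟩ := hT.nonempty_perp a ha
  obtain ⟨c', hc', hne, hne'⟩ := hT.twins a ha c hc
  have h1 := hc
  have h2 := mem_perp_of_mem_line ha hc hc' hne
  rw [h] at h1 h2
  exact hnc (hT.commute_line ha hc (right_mem_line ha hc) hc' hne'.symm (left_mem_line ha hc)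
    hv h1.2.2 h2.2.2)

theorem eq_of_sameComm {a v : G} (ha : a ∈ D) (hv : v ∈ D) (h : sameComm D a = sameComm D v) :
    a = v :=
  (sameComm_isModule hT.toTClass).eq_of_label_eq hT.toTClass hT.sol (fun _ _ => Or.inr
    fun p hp q hq => (sameComm_eq_iff.1 (hp.2.trans hq.2.symm) q hq.1).2 (Commute.refl q))
    ha hv h

/-- All lines have the same number of points. -/
theorem ncard_line_eq {x a u v : G} (hx : x ∈ D) (ha : a ∈ perp D x) (hu : u ∈ D)
    (hv : v ∈ perp D u) : (line D x a).ncard = (line D u v).ncard := by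
  obtain ⟨g, rfl, rfl⟩ := exists_pair_conj hT.toTClass hT.sol hx ha hu hv
  rw [← Set.ncard_image_of_injective (line D x a) (f := fun e => g * e * g⁻¹)
    fun p q h => mul_left_cancel (mul_right_cancel h)]
  congr 1
  ext e
  refine ⟨?_, fun he => ⟨g⁻¹ * e * g, ?_, by simp [mul_assoc]⟩⟩
  · rintro ⟨d, hd, rfl⟩
    exact hT.conj_line g hd
  · have := hT.conj_line g⁻¹ he
    simpa [mul_assoc] using this

/-- The other points of a line come in pairs. -/
theorem odd_line {x b : G} (hx : x ∈ D) (hb : b ∈ perp D x) : Odd (line D x b).ncard := by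
  classical
  have : Fintype G := Fintype.ofFinite G
  have : Fact (Nat.Prime 2) := ⟨Nat.prime_two⟩
  obtain ⟨a, ha, hab⟩ := hT.exists_nonCommute hx hb
  obtain ⟨s, hs, hsx, hsa⟩ := hT.twins x hx a ha
  have has : Commute a s := (line_commute_right hx ha hs).symm
  have hsx' : Commute s x := line_commute_left hx ha hs
  set g := a * s with hg
  have hg2 : g * g = 1 := by
    rw [hg, show a * s * (a * s) = a * (s * a) * s by simp only [mul_assoc], ← has.eq]
    simp only [mul_assoc, invol_cancel (hT.sq a ha.1), hT.sq s hs.1]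
  set ℓ := line D x b \ {x}
  have hnc : ∀ y ∈ ℓ, ¬Commute y a ∧ ¬Commute y s := by
    intro y hy
    have h1 : ¬Commute y a := fun h => hab
      ((hT.commute_iff_of_line hx hb hy.1 hy.2 ha.1 ha.2.2.symm).2 h.symm)
    exact ⟨h1, fun h => h1 ((hT.commute_iff_of_line hx ha hs hsx hy.1.1
      (line_commute_left hx hb hy.1)).2 h)⟩
  have hsb : ¬Commute s b := fun h =>
    (hnc b ⟨right_mem_line hx hb, hb.2.1⟩).2 h.symm
  have hmap : ∀ y ∈ ℓ, g * y * g ∈ ℓ := by
    intro y hy
    have hq : a * (s * b * s) * a ∈ line D x b := by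
      have h1 := hT.invol_line ha.1 (hT.star_line hs hb)
      rwa [hT.ts.braid hb.1 ha.1 (fun h => hab h.symm), invol_conj_invol (hT.sq a ha.1),
        invol_conj_eq_of_commute (hT.sq a ha.1) ha.2.2.symm, ← hT.ts.braid hs.1 hb.1 hsb] at h1
    have hqne : a * (s * b * s) * a ≠ x := fun h => hb.2.1 (invol_conj_inj (hT.sq s hs.1)
      ((invol_conj_inj (hT.sq a ha.1)
        (h.trans (invol_conj_eq_of_commute (hT.sq a ha.1) ha.2.2.symm).symm)).trans
        (invol_conj_eq_of_commute (hT.sq s hs.1) hsx').symm))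
    have h2 := hT.invol_line ha.1 (hT.invol_line hs.1 hy.1)
    rw [invol_conj_eq_of_commute (hT.sq s hs.1) hsx',
      invol_conj_eq_of_commute (hT.sq a ha.1) ha.2.2.symm, hT.line_eq_left hx hb hq hqne] at h2
    have e : a * (s * y * s) * a = g * y * g := by
      conv_rhs => arg 2; rw [hg, has.eq]
      rw [hg]; simp only [mul_assoc]
    refine ⟨e ▸ h2, fun h => hy.2 ?_⟩
    rw [Set.mem_singleton_iff] at h ⊢
    rw [← invol_conj_invol hg2 y, h,
      invol_conj_eq_of_commute hg2 (ha.2.2.symm.mul_left hsx')]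
  let σ : Equiv.Perm ↥ℓ :=
    { toFun := fun y => ⟨g * y.1 * g, hmap _ y.2⟩
      invFun := fun y => ⟨g * y.1 * g, hmap _ y.2⟩
      left_inv := fun y => Subtype.ext (invol_conj_invol hg2 _)
      right_inv := fun y => Subtype.ext (invol_conj_invol hg2 _) }
  have hfix : IsEmpty (Function.fixedPoints σ) := by
    refine ⟨fun ⟨y, hy⟩ => ?_⟩
    obtain ⟨hya, hys⟩ := hnc _ y.2
    have h : g * y.1 * g = y.1 := congrArg Subtype.val hy
    have h1 : a * (s * y.1 * s) * a = y.1 := by
      refine Eq.trans ?_ h
      conv_rhs => arg 2; rw [hg, has.eq]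
      rw [hg]; simp only [mul_assoc]
    have h2 : s * y.1 * s = a * y.1 * a := by
      conv_rhs => rw [← h1]
      exact (invol_conj_invol (hT.sq a ha.1) _).symm
    rw [hT.ts.braid hs.1 y.2.1.1 (fun k => hys k.symm),
      hT.ts.braid ha.1 y.2.1.1 (fun k => hya k.symm)] at h2
    exact hsa (invol_conj_inj (hT.sq _ y.2.1.1) h2)
  have h := Equiv.Perm.card_fixedPoints_modEq (f := (σ : ↥ℓ → ↥ℓ)) (p := 2) (n := 1)
    (funext fun y => Subtype.ext (invol_conj_invol hg2 _))
  have hev : Even ℓ.ncard := by
    rw [@Fintype.card_eq_zero (↥(Function.fixedPoints (σ : ↥ℓ → ↥ℓ))) _ hfix] at h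
    rw [← Nat.card_coe_set_eq, Nat.card_eq_fintype_card, even_iff_two_dvd]
    exact Nat.modEq_zero_iff_dvd.1 h
  rw [← Set.ncard_sdiff_singleton_add_one (left_mem_line hx hb)]
  exact hev.add_one

end Thick

end Cfsg.Agent.Fischer.Polar
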