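import Cfsg.Agent.Lib.Fischer.Polar.Quotient
import Cfsg.Agent.Lib.Fischer.Solvable.Bound

/-!
One or all: a member commutes with one or all points of a line; lines have three or five points.
-/

set_option autoImplicit false

namespace Cfsg.Agent.Fischer.Polar

open Cfsg Cfsg.Agent.Fischer.Solv

universe u

/-- The axioms of a polar space with three or five points on a line. -/
structure Polar {G : Type u} [Group G] (D : Set G) : Prop extends Thick D where
  one : ∀ x ∈ D, ∀ b ∈ perp D x, ∀ w ∈ D, ∃ y ∈ line D x b, Commute w y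
  card : ∀ x ∈ D, ∀ b ∈ perp D x, (line D x b).ncard = 3 ∨ (line D x b).ncard = 5

variable {G : Type u} [Group G] {D : Set G}

namespace Thick

variable (hT : Thick D)
include hT

theorem gq [Finite G] (h : ∀ e ∈ D, ¬Deep D e) : GQ D := by
  refine ⟨hT.toTClass, hT.sol, hT.conn, hT.center, ?_, ?_, hT.nonempty_perp, hT.not_all_commute⟩
  · intro u hu v hv e he f hf heu hev hfu hfv
    have key : ∀ d ∈ D, Commute d u → Commute d v → d ∈ line D u v := by
      intro d hd h1 h2
      by_cases hdu : d = u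
      · rw [hdu]; exact left_mem_line hu hv
      by_contra hn
      exact h u hu ⟨v, hv, d, ⟨hd, hdu, h1.symm⟩, h2.symm, hn⟩
    exact line_commute hu hv (key e he heu hev) (key f hf hfu hfv)
  · intro u hu v hv
    obtain ⟨e, he, h1, h2⟩ := hT.twins u hu v hv
    exact ⟨e, mem_perp_of_mem_line hu hv he h1, h2, (line_commute_right hu hv he).symm⟩

theorem blk_eq [Finite G] (h : ∀ e ∈ D, ¬Deep D e) {u a : G} (hu : u ∈ D) (ha : a ∈ perp D u) :
    line D u a = insert u (blk D u a) := by
  ext e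
  constructor
  · intro he
    by_cases heu : e = u
    · exact Set.mem_insert_iff.2 (Or.inl heu)
    · exact Set.mem_insert_iff.2 (Or.inr ⟨mem_perp_of_mem_line hu ha he heu,
        (line_commute_right hu ha he).symm⟩)
  · intro he
    rcases Set.mem_insert_iff.1 he with rfl | ⟨h1, h2⟩
    · exact left_mem_line hu ha
    · by_contra hn
      exact h u hu ⟨a, ha, e, h1, h2, hn⟩

theorem card_grp_lt [Finite G] {e : G} (he : e ∈ D) : Nat.card ↥(hT.grp e) < Nat.card G := by
  refine lt_of_le_of_lt (Nat.card_le_card_of_surjective _ (hT.act e).rangeRestrict_surjective) ?_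
  refine lt_of_le_of_ne (Subgroup.card_le_card_group _) fun h => ?_
  obtain ⟨w, hw, hn⟩ := hT.not_all_commute e he
  have hmem : w ∈ Subgroup.closure (perp D e) := by
    rw [Subgroup.eq_top_of_card_eq _ h]; trivial
  have h1 := conj_fix_of_mem_closure_perp hmem
  exact hn (mul_inv_eq_iff_eq_mul.1 h1).symm

open scoped Classical in
/-- The image of a member, as a total function. -/
noncomputable def clf (e v : G) : ↥(hT.grp e) := if h : v ∈ perp D e then hT.cl e h else 1

theorem clf_eq {e v : G} (hv : v ∈ perp D e) : hT.clf e v = hT.cl e hv := by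
  rw [clf, dif_pos hv]

variable [Finite G]

/-- The line through two members of `perp D e` seen from `e`: a bijection. -/
theorem line_image {e x b : G} (he : e ∈ D) (hx : x ∈ perp D e) (hb : b ∈ perp D x)
    (hbe : b ∈ perp D e) (hn : b ∉ line D e x) (hP : Polar (hT.qset e)) :
    hT.clf e '' line D x b = line (hT.qset e) (hT.clf e x) (hT.clf e b) ∧
      ((line D x b).ncard = 3 ∨ (line D x b).ncard = 5) := by
  classical
  set R := line (hT.qset e) (hT.clf e x) (hT.clf e b) with hR
  have hxb : hT.clf e b ∈ perp (hT.qset e) (hT.clf e x) := by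
    rw [hT.clf_eq hx, hT.clf_eq hbe]
    exact (hT.mem_qperp_iff he hx hbe).2 ⟨hb.2.2, hn⟩
  have hxq : hT.clf e x ∈ hT.qset e := by rw [hT.clf_eq hx]; exact hT.cl_mem hx
  have heo : e ∉ line D x b := fun h => hn (by
    rw [← line_comm x e, hT.line_eq_left hx.1 hb h (Ne.symm hx.2.1)]
    exact right_mem_line hx.1 hb)
  have hperp : ∀ y ∈ line D x b, y ∈ perp D e := fun y hy =>
    ⟨hy.1, fun h => heo (h ▸ hy), (hy.2 e ⟨he, hx.2.2, hbe.2.2⟩).symm⟩
  have hsub : hT.clf e '' line D x b ⊆ R := by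
    rintro _ ⟨y, hy, rfl⟩
    rw [hR, hT.clf_eq (hperp y hy), hT.clf_eq hx, hT.clf_eq hbe]
    refine ⟨hT.cl_mem _, ?_⟩
    rintro z ⟨⟨v, hv, rfl⟩, h1, h2⟩
    exact (hT.cl_commute_iff he (hperp y hy) hv).2 (hy.2 v
      ⟨hv.1, (hT.cl_commute_iff he hv hx).1 h1, (hT.cl_commute_iff he hv hbe).1 h2⟩)
  have hinj : Set.InjOn (hT.clf e) (line D x b) := by
    intro y hy y' hy' h
    by_contra hne
    rw [hT.clf_eq (hperp y hy), hT.clf_eq (hperp y' hy')] at h
    have h1 := (hT.cl_eq_iff he (hperp y hy) (hperp y' hy')).1 h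
    refine heo ?_
    rw [← hT.line_eq hx.1 hb hy hy' hne,
      hT.line_eq he (hperp y hy) (right_mem_line he (hperp y hy)) h1 hne]
    exact left_mem_line he (hperp y hy)
  have hR35 : R.ncard = 3 ∨ R.ncard = 5 := hP.card _ hxq _ hxb
  have hle : (line D x b).ncard ≤ R.ncard := by
    rw [← hinj.ncard_image]; exact Set.ncard_le_ncard hsub (Set.toFinite _)
  obtain ⟨k, hk⟩ := hT.odd_line hx.1 hb
  have hge : 3 ≤ (line D x b).ncard := by
    obtain ⟨d, hd, hd1, hd2⟩ := hT.twins x hx.1 b hb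
    exact (Set.two_lt_ncard (Set.toFinite _)).2 ⟨x, left_mem_line hx.1 hb, b,
      right_mem_line hx.1 hb, d, hd, Ne.symm hb.2.1, hd1.symm, hd2.symm⟩
  have hnot : ¬((line D x b).ncard = 3 ∧ R.ncard = 5) := by
    rintro ⟨h3, h5⟩
    have hfib : ∀ z ∈ R, {y | y ∈ perp D e ∧ hT.clf e y = z}.ncard = 2 := by
      intro z hz
      obtain ⟨v, hv, hzv⟩ := hz.1
      subst hzv
      have e1 : {y | y ∈ perp D e ∧ hT.clf e y = hT.cl e hv} = line D e v \ {e} := by
        ext y
        refine ⟨fun ⟨hy, h⟩ => ⟨?_, hy.2.1⟩, fun h => ?_⟩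
        · rw [hT.clf_eq hy] at h
          exact (hT.cl_eq_iff he hv hy).1 h.symm
        · have hy := mem_perp_of_mem_line he hv h.1 h.2
          exact ⟨hy, by rw [hT.clf_eq hy]; exact ((hT.cl_eq_iff he hv hy).2 h.1).symm⟩
      rw [e1, Set.ncard_sdiff_singleton_of_mem (left_mem_line he hv),
        hT.ncard_line_eq he hv hx.1 hb, h3]
    set M : Set G := {y | y ∈ perp D e ∧ hT.clf e y ∈ R}
    have hM : M.ncard = 10 := by
      rw [Set.ncard_eq_toFinset_card _ (Set.toFinite _), Finset.card_eq_sum_card_fiberwise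
        (f := hT.clf e) (t := (Set.toFinite R).toFinset) (fun y hy => by
          simp only [Finset.mem_coe, Set.Finite.mem_toFinset] at hy ⊢
          exact hy.2),
        Finset.sum_eq_card_nsmul (b := 2), smul_eq_mul, ← Set.ncard_eq_toFinset_card, h5]
      intro z hz
      rw [Set.Finite.mem_toFinset] at hz
      rw [← hfib z hz, ← Set.ncard_coe_finset]
      congr 1
      ext y
      simp only [Finset.coe_filter, Set.Finite.mem_toFinset, Set.mem_setOf_eq, M]
      exact ⟨fun h => ⟨h.1.1, h.2⟩, fun h => ⟨⟨h.1, h.2 ▸ hz⟩, h.2⟩⟩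
    set P : Finset G := (Set.toFinite (insert e M)).toFinset with hPdef
    have hP11 : P.card = 11 := by
      rw [hPdef, ← Set.ncard_eq_toFinset_card,
        Set.ncard_insert_of_notMem (fun h => h.1.2.1 rfl) (Set.toFinite _), hM]
    have hmemP : ∀ y ∈ P, y = e ∨ y ∈ M := fun y hy => by simpa [hPdef] using hy
    have hPe : ∀ y ∈ P, y ∈ D ∧ Commute y e := fun y hy => by
      rcases hmemP y hy with rfl | h
      · exact ⟨he, Commute.refl y⟩
      · exact ⟨h.1.1, h.1.2.2.symm⟩
    have hPc : ∀ y ∈ P, ∀ z ∈ P, Commute y z := by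
      intro y hy z hz
      rcases hmemP y hy with rfl | hy'
      · exact (hPe z hz).2.symm
      rcases hmemP z hz with rfl | hz'
      · exact (hPe y hy).2
      · have := line_commute hxq hxb hy'.2 hz'.2
        rw [hT.clf_eq hy'.1, hT.clf_eq hz'.1] at this
        exact (hT.cl_commute_iff he hy'.1 hz'.1).1 this
    have hclosed : ∀ y ∈ P, ∀ z ∈ P, y ≠ z → ∀ t ∈ line D y z, t ∈ P := by
      intro y hy z hz _ t ht
      simp only [hPdef, Set.Finite.mem_toFinset, Set.mem_insert_iff]
      by_cases hte : t = e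
      · exact Or.inl hte
      have htp : t ∈ perp D e :=
        ⟨ht.1, hte, (ht.2 e ⟨he, (hPe y hy).2.symm, (hPe z hz).2.symm⟩).symm⟩
      refine Or.inr ⟨htp, ?_⟩
      rw [hT.clf_eq htp]
      refine ⟨hT.cl_mem htp, ?_⟩
      rintro w hw
      obtain ⟨v, hv, hwv⟩ := hw.1
      subst hwv
      refine (hT.cl_commute_iff he htp hv).2 (ht.2 v ⟨hv.1, ?_, ?_⟩)
      · rcases hmemP y hy with rfl | hy'
        · exact hv.2.2.symm
        · have := hy'.2.2 _ hw
          rw [hT.clf_eq hy'.1] at this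
          exact ((hT.cl_commute_iff he hy'.1 hv).1 this).symm
      · rcases hmemP z hz with rfl | hz'
        · exact hv.2.2.symm
        · have := hz'.2.2 _ hw
          rw [hT.clf_eq hz'.1] at this
          exact ((hT.cl_commute_iff he hz'.1 hv).1 this).symm
    have hcnt := Finset.card_eq_sum_card_fiberwise (f := fun p : G × G => line D p.1 p.2)
      (s := P.offDiag) (t := P.offDiag.image fun p => line D p.1 p.2)
      (fun p hp => Finset.mem_image_of_mem _ hp)
    rw [Finset.offDiag_card, hP11, Finset.sum_eq_card_nsmul (b := 6), smul_eq_mul] at hcnt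
    · omega
    intro ℓ hℓ
    obtain ⟨⟨y, z⟩, hyz, rfl⟩ := Finset.mem_image.1 hℓ
    obtain ⟨hy, hz, hne⟩ := Finset.mem_offDiag.1 hyz
    have hzp : z ∈ perp D y := ⟨(hPe z hz).1, Ne.symm hne, hPc y hy z hz⟩
    have e2 : (P.offDiag.filter fun p : G × G => line D p.1 p.2 = line D y z) =
        (Set.toFinite (line D y z)).toFinset.offDiag := by
      ext ⟨p, q⟩
      simp only [Finset.mem_filter, Finset.mem_offDiag, Set.Finite.mem_toFinset]
      constructor
      · rintro ⟨⟨hp, hq, hpq⟩, h⟩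
        have hqp : q ∈ perp D p := ⟨(hPe q hq).1, Ne.symm hpq, hPc p hp q hq⟩
        exact ⟨h ▸ left_mem_line (hPe p hp).1 hqp, h ▸ right_mem_line (hPe p hp).1 hqp, hpq⟩
      · rintro ⟨hp, hq, hpq⟩
        exact ⟨⟨hclosed y hy z hz hne p hp, hclosed y hy z hz hne q hq, hpq⟩,
          hT.line_eq (hPe y hy).1 hzp hp hq hpq⟩
    rw [e2, Finset.offDiag_card, ← Set.ncard_eq_toFinset_card,
      hT.ncard_line_eq (hPe y hy).1 hzp hx.1 hb, h3]
  have heq : (line D x b).ncard = R.ncard := by omega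
  exact ⟨Set.eq_of_subset_of_ncard_le hsub (by rw [hinj.ncard_image, heq]) (Set.toFinite _),
    heq ▸ hR35⟩

omit [Finite G] in
theorem deep_conj (g : G) {e : G} (h : Deep D e) : Deep D (g * e * g⁻¹) := by
  obtain ⟨b, hb, c, hc, hbc, hn⟩ := h
  refine ⟨_, conj_mem_perp hT.toTClass g hb, _, conj_mem_perp hT.toTClass g hc, hbc.conj g,
    fun h => hn ?_⟩
  have := hT.conj_line g⁻¹ h
  simpa [mul_assoc] using this

omit [Finite G] in
theorem deep_of_deep {e v : G} (he : e ∈ D) (hv : v ∈ D) (h : Deep D e) : Deep D v := by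
  obtain ⟨g, rfl⟩ := hT.trans e he v hv
  exact hT.deep_conj g h

/-- The quotient at the end of the induction step. -/
theorem polar_step (IH : ∀ e ∈ D, Deep D e → Polar (hT.qset e)) : Polar D := by
  refine ⟨hT, ?_, ?_⟩
  · intro x hx b hb w hw
    by_cases hwx : Commute x w
    · exact ⟨x, left_mem_line hx hb, hwx.symm⟩
    obtain ⟨e, he, hex, hew, heb⟩ := hT.exists_common hx ⟨hw, hwx⟩ hb
    by_cases hel : e ∈ line D x b
    · exact ⟨e, hel, hew.symm⟩
    have hne : e ≠ x := fun h => hel (by rw [h]; exact left_mem_line hx hb)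
    have hxe : x ∈ perp D e := ⟨hx, hne.symm, hex⟩
    have hbe : b ∈ perp D e := ⟨hb.1, fun h => hel (by rw [← h]; exact right_mem_line hx hb), heb⟩
    have hn : b ∉ line D e x := fun h => hel (by
      rw [hT.line_eq he hxe (right_mem_line he hxe) h (Ne.symm hb.2.1)]
      exact left_mem_line he hxe)
    have hd : Deep D e := ⟨x, hxe, b, hbe, hb.2.2, hn⟩
    have hP := IH e he hd
    have hwe : w ∈ perp D e := ⟨hw, fun h => hwx (h ▸ hex.symm), hew⟩
    have hxb : hT.cl e hbe ∈ perp (hT.qset e) (hT.cl e hxe) :=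
      (hT.mem_qperp_iff he hxe hbe).2 ⟨hb.2.2, hn⟩
    obtain ⟨z, hz, hzw⟩ := hP.one _ (hT.cl_mem hxe) _ hxb _ (hT.cl_mem hwe)
    rw [← hT.clf_eq hxe, ← hT.clf_eq hbe, ← (hT.line_image he hxe hb hbe hn hP).1] at hz
    obtain ⟨y, hy, rfl⟩ := hz
    have hye : y ∈ perp D e := ⟨hy.1, fun h => hel (h ▸ hy), (hy.2 e ⟨he, hex, heb⟩).symm⟩
    rw [hT.clf_eq hye] at hzw
    exact ⟨y, hy, (hT.cl_commute_iff he hwe hye).1 hzw⟩
  · intro x hx b hb
    by_cases h : ∃ e ∈ D, Deep D e
    · obtain ⟨e, he, hd⟩ := h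
      obtain ⟨p, hp, q, hq, hpq, hn⟩ := id hd
      have hqp : q ∈ perp D p := ⟨hq.1, fun k => hn (by rw [k]; exact right_mem_line he hp), hpq⟩
      rw [hT.ncard_line_eq hx hb hp.1 hqp]
      exact (hT.line_image he hp hqp hq hn (IH e he hd)).2
    · push Not at h
      have hQ := hT.gq h
      obtain ⟨s, n, hcase, hs, -⟩ := hQ.params hx
      rw [hT.blk_eq h hx hb, Set.ncard_insert_of_notMem (fun k => k.1.2.1 rfl) (Set.toFinite _),
        hs x hx b hb]
      rcases hcase with ⟨rfl, -⟩ | ⟨rfl, -⟩ | ⟨rfl, -⟩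
      · exact Or.inl rfl
      · exact Or.inr rfl
      · exact Or.inr rfl

end Thick

theorem polar_aux : ∀ (n : ℕ) (G : Type u) [Group G] [Finite G] (D : Set G),
    Thick D → Nat.card G = n → Polar D := by
  intro n
  induction n using Nat.strong_induction_on with
  | _ n ih =>
    intro G _ _ D hT hn
    exact hT.polar_step fun e he hd =>
      ih _ (hn ▸ hT.card_grp_lt he) _ _ (hT.qthick he hd) rfl

theorem Thick.polar [Finite G] (hT : Thick D) : Polar D := polar_aux _ G D hT rfl

end Cfsg.Agent.Fischer.Polar
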