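import Cfsg.Agent.Lib.Fischer.Polar.Coord
import Cfsg.Agent.Lib.ClassicalSimple.UnitaryMatrix
import Cfsg.Agent.Lib.Forms.SmallPSU4

/-!
Five points on every line give a projective special unitary group over the field of four elements.
-/

set_option autoImplicit false

namespace Cfsg.Agent.Fischer.Polar

open Cfsg Cfsg.Agent.Fischer.Solv
open scoped Matrix
open Cfsg.Agent.Forms.SmallPSU4 (exists_pointHom)

universe u

variable {G : Type u} [Group G] [Finite G] {D : Set G}
variable {F : Type} [Field F] [Fintype F] {n : ℕ}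

namespace HermModel

variable (M : HermModel D F n) (hF : Fintype.card F = 4)

omit [Finite G] in
theorem self_zero (M : HermModel D F n) (d : ↥D) : Cfsg.hermForm n F 2 (M.pt d) (M.pt d) = 0 :=
  (M.commute d d).1 (Commute.refl _)

include hF

theorem pt_inj (hP : Polar D) {d c : ↥D} {k : F} (h : M.pt d = k • M.pt c) : d = c := by
  have hF' : Fintype.card F = 2 ^ 2 := hF
  have hk : k ≠ 0 := fun e => M.ne_zero d (by rw [h, e, zero_smul])
  refine Subtype.ext (hP.toThick.eq_of_sameComm d.2 c.2 (sameComm_eq_iff.2 fun e he => ?_))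
  rw [M.commute d ⟨e, he⟩, M.commute c ⟨e, he⟩, h, ← Forms.hermB_apply hF',
    ← Forms.hermB_apply hF', map_smulₛₗ, LinearMap.smul_apply, smul_eq_mul, Forms.qEnd_apply]
  exact mul_eq_zero_iff_left (pow_ne_zero _ hk)

/-- A transvection moves the points as conjugation does. -/
theorem transv (hP : Polar D) (d c : ↥D) :
    ∃ k : F, k ≠ 0 ∧ M.pt c + Cfsg.hermForm n F 2 (M.pt c) (M.pt d) • M.pt d =
      k • M.pt ⟨d.1 * c.1 * d.1, hP.ts.conj_mem d.2 c.2⟩ := by
  have hF' : Fintype.card F = 2 ^ 2 := hF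
  have h4 : IsFour F := ⟨by rw [Nat.card_eq_fintype_card, hF]⟩
  by_cases hdc : Commute (d : G) c
  · refine ⟨1, one_ne_zero, ?_⟩
    rw [(M.commute d c).1 hdc, zero_smul, add_zero, one_smul]
    exact congrArg M.pt (Subtype.ext (invol_conj_eq_of_commute (hP.sq d d.2) hdc).symm)
  set B := Forms.hermB hF' n with hB
  set k := Cfsg.hermForm n F 2 (M.pt c) (M.pt d) with hk
  have hk0 : k ≠ 0 := fun e => hdc ((M.commute d c).2 e)
  set w := M.pt c + k • M.pt d with hw
  have hBd : B (M.pt d) (M.pt c) = k := Forms.hermB_apply hF' _ _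
  have hBc : B (M.pt c) (M.pt d) = k ^ 2 := by
    rw [hB, Forms.hermB_apply, ← Forms.hermForm_swap hF', Forms.qEnd_apply, ← hk]
  have hdd : B (M.pt d) (M.pt d) = 0 := (Forms.hermB_apply hF' _ _).trans (M.self_zero d)
  have hcc : B (M.pt c) (M.pt c) = 0 := (Forms.hermB_apply hF' _ _).trans (M.self_zero c)
  have hdw : B (M.pt d) w = k := by simp [hw, hBd, hdd]
  have hw0 : w ≠ 0 := fun e => hk0 (by rw [← hdw, e, map_zero])
  have hwiso : Cfsg.hermForm n F 2 w w = 0 := by
    rw [← Forms.hermB_apply hF', ← hB, hw]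
    simp only [map_add, map_smulₛₗ, LinearMap.add_apply, LinearMap.smul_apply, smul_eq_mul,
      RingHom.id_apply, Forms.qEnd_apply, hBd, hBc, hdd, hcc]
    linear_combination k ^ 3 * h4.two
  obtain ⟨z, j, hj, hz⟩ := M.cover w hw0 hwiso
  have hcomm : ∀ e : ↥D, Commute (e : G) z ↔ B (M.pt e) w = 0 := by
    intro e
    rw [M.commute e z, hz, map_smul, smul_eq_mul, mul_eq_zero_iff_left hj, hB, Forms.hermB_apply]
  have hzn : (z : G) ∈ nbr D (d : G) :=
    ⟨z.2, fun e => hk0 (by rw [← hdw]; exact (hcomm d).1 e)⟩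
  refine ⟨j, hj, hz.trans (congrArg (j • M.pt ·) (Subtype.ext ?_))⟩
  refine (hP.span d d.2 c ⟨c.2, hdc⟩ z hzn fun e he => (hcomm ⟨e, he.1⟩).2 ?_).resolve_left
    fun e => hk0 ?_
  · have h1 := (M.commute ⟨e, he.1⟩ c).1 he.2.2
    have h2 := (M.commute ⟨e, he.1⟩ d).1 he.2.1
    rw [hw, map_add, map_smul, hB, Forms.hermB_apply, Forms.hermB_apply, h1, h2, smul_zero, zero_add]
  · have h := (hcomm c).1 (e ▸ Commute.refl (c : G))
    rw [hw, map_add, map_smul, hcc, hBc, zero_add, smul_eq_mul, h4.cube hk0] at h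
    exact absurd h one_ne_zero

include M in
theorem iso (hP : Polar D) (hn : 4 ≤ n) : Nonempty (G ≃* Cfsg.PSU n F 2) := by
  classical
  have hF' : Fintype.card F = 2 ^ 2 := hF
  have h4 : IsFour F := ⟨by rw [Nat.card_eq_fintype_card, hF]⟩
  have hn3 : 3 ≤ n := by omega
  have h32 : ¬(n = 3 ∧ 2 = 2) := by omega
  let N := Nat.card ↥D
  let en : ↥D ≃ Fin N := Finite.equivFin ↥D
  let ρ : Cfsg.SU n F 2 →* Matrix (Fin n) (Fin n) F :=
    (Cfsg.slToMat n F).comp (Cfsg.SU n F 2).subtype
  obtain ⟨φ, hφ⟩ := exists_pointHom ρ (fun i => M.pt (en.symm i)) (fun g i => by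
      obtain ⟨d, k, hk, h⟩ := M.cover (ρ g *ᵥ M.pt (en.symm i)) (fun h => by
          have h' := congrArg (ρ g⁻¹).mulVec h
          rw [Matrix.mulVec_mulVec, ← map_mul, inv_mul_cancel, map_one, Matrix.one_mulVec,
            Matrix.mulVec_zero] at h'
          exact M.ne_zero _ h')
        ((g.2 _ _).trans (M.self_zero _))
      exact ⟨en d, k, hk, by simpa using h⟩)
    (fun i j a h => en.symm.injective (M.pt_inj hF hP h))
  let κ : G →* Equiv.Perm (Fin N) := MonoidHom.mk'
    (fun g => (en.symm.trans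
      { toFun := fun d : ↥D => (⟨g * d.1 * g⁻¹, hP.conj g _ d.2⟩ : ↥D)
        invFun := fun d : ↥D => (⟨g⁻¹ * d.1 * g, by simpa using hP.conj g⁻¹ _ d.2⟩ : ↥D)
        left_inv := fun d => Subtype.ext (by simp [mul_assoc])
        right_inv := fun d => Subtype.ext (by simp [mul_assoc]) }).trans en)
    (fun g g' => Equiv.ext fun i => congrArg en (Subtype.ext (by simp [mul_assoc])))
  have hκ : ∀ (g : G) (d : ↥D), κ g (en d) = en ⟨g * d.1 * g⁻¹, hP.conj g _ d.2⟩ := fun g d => by
    show en _ = _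
    simp
  have hκinj : Function.Injective κ := by
    rw [injective_iff_map_eq_one]
    intro g hg
    rw [← Subgroup.mem_bot, ← hP.center]
    refine eq_top_of_mem_center hP.toTClass fun d hd => ?_
    have h := hκ g ⟨d, hd⟩
    rw [hg] at h
    exact (mul_inv_eq_iff_eq_mul.1 (congrArg Subtype.val (en.injective h)).symm).symm
  have htau : ∀ (d : ↥D) (g : Cfsg.SU n F 2),
      g.1.1 = Cfsg.unitaryTransvection n 2 (M.pt d) 1 → φ g = κ d := by
    intro d g hg
    refine Equiv.ext fun i => ?_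
    obtain ⟨c, rfl⟩ := en.surjective i
    rw [hκ]
    obtain ⟨k, hk, h⟩ := M.transv hF hP d c
    refine hφ g _ _ ⟨k, hk, ?_⟩
    simp only [Equiv.symm_apply_apply]
    show g.1.1 *ᵥ _ = _
    rw [hg, ClassicalSimple.unitaryTransvection_mulVec hF', Forms.hermB_apply, one_mul, h]
    exact congrArg (fun z => k • M.pt z) (Subtype.ext (congrArg ((d : G) * c * ·) (hP.ts.inv_eq d.2).symm))
  have hexists : ∀ d : ↥D, ∃ g : Cfsg.SU n F 2,
      g.1.1 = Cfsg.unitaryTransvection n 2 (M.pt d) 1 := by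
    intro d
    set v := M.pt d
    have hv0 : Cfsg.hermForm n F 2 v v = 0 := M.self_zero d
    have hdet : (Cfsg.unitaryTransvection n 2 v 1).det = 1 := by
      have hdot : (fun j => v j ^ 2) ⬝ᵥ v = 0 := by
        rw [← hv0]
        simp only [Cfsg.hermForm, dotProduct]
        exact Finset.sum_congr rfl fun i _ => mul_comm _ _
      rw [Cfsg.unitaryTransvection, one_smul, Matrix.vecMulVec_eq Unit,
        Matrix.det_one_add_replicateCol_mul_replicateRow, hdot, add_zero]
    refine ⟨⟨⟨_, hdet⟩, (ClassicalSimple.mem_SU_iff hF' _).2 ?_⟩, rfl⟩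
    refine (ClassicalSimple.unitaryTransvection_isometry_iff hF' (M.ne_zero d) ?_ 1).2 ?_
    · rw [Forms.hermB_apply]; exact hv0
    · rw [one_pow, h4.add_self]
  have hrange : φ.range = κ.range := by
    rw [MonoidHom.range_eq_map φ, MonoidHom.range_eq_map κ,
      ← ClassicalSimple.closure_unitaryTransvectionSet hF' hn3 h32, ← hP.gen,
      MonoidHom.map_closure, MonoidHom.map_closure]
    refine le_antisymm ((Subgroup.closure_le _).2 ?_) ((Subgroup.closure_le _).2 ?_)
    · rintro _ ⟨g, ⟨v, c, hv0, hg⟩, rfl⟩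
      by_cases htriv : v = 0 ∨ c = 0
      · have hone : g = 1 := by
          refine Subtype.ext (Subtype.ext (hg.trans ?_))
          show _ = (1 : Matrix (Fin n) (Fin n) F)
          rcases htriv with rfl | rfl <;> simp [Cfsg.unitaryTransvection]
        rw [hone, map_one]
        exact one_mem _
      rw [not_or] at htriv
      obtain ⟨hv, hc⟩ := htriv
      obtain ⟨d, k, hk, rfl⟩ := M.cover v hv hv0
      have hc1 : c = 1 := by
        have hmem := (ClassicalSimple.mem_SU_iff hF' g.1).1 g.2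
        rw [hg] at hmem
        have hh := (ClassicalSimple.unitaryTransvection_isometry_iff hF' hv
          (by rw [Forms.hermB_apply]; exact hv0) c).1 hmem
        exact (h4.trace_eq_zero.1 hh).resolve_left hc
      refine Subgroup.subset_closure ⟨d, d.2, (htau d g ?_).symm⟩
      rw [hg, hc1]
      ext p r
      simp only [Cfsg.unitaryTransvection, one_smul, Matrix.add_apply, Matrix.vecMulVec_apply,
        Pi.smul_apply, smul_eq_mul, mul_pow]
      linear_combination (M.pt d p * M.pt d r ^ 2) * h4.cube hk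
    · rintro _ ⟨d, hd, rfl⟩
      obtain ⟨g, hg⟩ := hexists ⟨d, hd⟩
      exact Subgroup.subset_closure ⟨g, ⟨_, 1, M.self_zero _, hg⟩, htau ⟨d, hd⟩ g hg⟩
  let e : G ≃* ↥κ.range := MonoidHom.ofInjective hκinj
  let ψ : Cfsg.SU n F 2 →* G :=
    e.symm.toMonoidHom.comp ((MulEquiv.subgroupCongr hrange).toMonoidHom.comp φ.rangeRestrict)
  have hsurj : Function.Surjective ψ :=
    e.symm.surjective.comp ((MulEquiv.subgroupCongr hrange).surjective.comp
      φ.rangeRestrict_surjective)
  have hle : Subgroup.center (Cfsg.SU n F 2) ≤ ψ.ker := by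
    intro z hz
    rw [MonoidHom.mem_ker, ← Subgroup.mem_bot, ← hP.center, Subgroup.mem_center_iff]
    intro y
    obtain ⟨g, rfl⟩ := hsurj y
    rw [← map_mul, ← map_mul, Subgroup.mem_center_iff.1 hz g]
  have hker : ψ.ker ≤ Subgroup.center (Cfsg.SU n F 2) := by
    rcases ClassicalSimple.SU_normal_eq_top_or_le_center hF' hn3 h32 ψ.ker with h | h
    · obtain ⟨d, hd⟩ := hP.nonempty
      obtain ⟨p, hp⟩ := hsurj d
      exact absurd (hp.symm.trans ((MonoidHom.mem_ker).1 (h ▸ Subgroup.mem_top p)))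
        (hP.ne_one d hd)
    · exact h
  exact ⟨((QuotientGroup.quotientMulEquivOfEq (le_antisymm hle hker)).trans
    (QuotientGroup.quotientKerEquivOfSurjective ψ hsurj)).symm⟩

end HermModel

theorem Five.unitary_iso {G : Type u} [Group G] [Finite G] {D : Set G} (hF : Five D) :
    ∃ (F : Type) (_ : Field F) (_ : Fintype F) (n : ℕ), Fintype.card F = 4 ∧
      Nonempty (G ≃* Cfsg.PSU n F 2) := by
  have : Fintype (GaloisField 2 2) := Fintype.ofFinite _
  have hcard : Fintype.card (GaloisField 2 2) = 4 := by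
    rw [← Nat.card_eq_fintype_card, GaloisField.card 2 2 two_ne_zero]
    norm_num
  obtain ⟨a, ha⟩ := hF.nonempty
  obtain ⟨b, hb, hab⟩ := hF.not_all_commute a ha
  have hB : Base D a b := { toFive := hF, ha := ha, hb := ⟨hb, hab⟩ }
  obtain ⟨n, hn, ⟨M⟩⟩ := hB.exists_model hcard
  exact ⟨GaloisField 2 2, inferInstance, inferInstance, n, hcard, M.iso hcard hF.toPolar hn⟩

end Cfsg.Agent.Fischer.Polar
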