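import Cfsg.Agent.Lib.Fischer.Polar.SympIso
import Cfsg.Agent.Lib.Fischer.Polar.UnitIso
import Cfsg.Agent.Lib.Fischer.Solvable.Setup

/-!
A non-central `O_2` of `⟨D_x⟩` gives thick lines.
-/

set_option autoImplicit false

namespace Cfsg.Agent.Fischer.Polar

open Cfsg Cfsg.Agent.Fischer.Solv

theorem Thick.of_twoCore {G : Type*} [Group G] [Finite G] {D : Set G} (hD : TClass D)
    (hsol : ∀ N : Subgroup G, N.Normal → Group.IsSolvable ↥N → N = ⊥)
    (hperf : ⁅commutator G, commutator G⁆ = commutator G) {x : G} (hx : x ∈ D)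
    (h : ¬Cfsg.pCore 2 ↥(Subgroup.closure (perp D x)) ≤ Subgroup.center _) : Thick D := by
  have hsol' : ∀ N : Subgroup G, N.Normal → Group.IsSolvable ↥N → N ≤ commutator G → N = ⊥ :=
    fun N h1 h2 _ => hsol N h1 h2
  have hcen : Subgroup.center G = ⊥ :=
    hsol _ inferInstance (Group.isSolvable_of_comm fun a b => Subtype.ext
      (Subgroup.mem_center_iff.1 b.2 a))
  have hnc : ∀ u ∈ D, ∃ w ∈ D, ¬Commute u w := by
    intro u hu
    by_contra h'
    push Not at h'
    have := eq_top_of_mem_center hD (g := u) fun d hd => (h' d hd).symm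
    rw [hcen, Subgroup.mem_bot] at this
    exact hD.ne_one u hu this
  have hconn := commuting_connected_of_perfect hD hperf
  have hne : ∀ v ∈ D, (perp D v).Nonempty := by
    intro v hv
    by_contra h'
    rw [Set.not_nonempty_iff_eq_empty] at h'
    obtain ⟨w', hw', hvw'⟩ := hnc v hv
    have : ∀ z, Relation.ReflTransGen (CAdj D) v z → z = v := by
      intro z hz
      induction hz with
      | refl => rfl
      | tail _ hb ih =>
        subst ih
        by_contra hne
        exact (Set.eq_empty_iff_forall_notMem.1 h' _) ⟨hb.1, hne, hb.2⟩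
    exact hvw' (this w' (hconn v hv w' hw') ▸ Commute.refl v)
  have hT := perp_tClass hD hsol' hx (hne x hx)
  obtain ⟨p, hp⟩ := hT.nonempty
  obtain ⟨u, hu, hpu⟩ := exists_not_commute_of_not_le_center hT h hp
  have hmem : p * (u * p * u⁻¹) ∈ Cfsg.pCore 2 ↥(Subgroup.closure (perp D x)) := by
    rw [show p * (u * p * u⁻¹) = (p * u * p⁻¹) * u⁻¹ by rw [hT.toTSet.inv_eq hp]; group]
    exact mul_mem (PCore.pCore_normal.conj_mem u hu p) (inv_mem hu)
  have hq := hT.conj u p hp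
  have htw : ∃ a ∈ perp D x, ∃ b ∈ perp D x, b ≠ a ∧ Tw D x a b :=
    ⟨(p : G), hp, _, hq, fun e => hpu (mul_inv_eq_iff_eq_mul.1 (Subtype.ext e)).symm,
      (sameComm_iff_tw hD hsol').1 (sameComm_eq_of_mul_mem hT.toTSet hp hq hmem).symm⟩
  refine ⟨hD, hsol', hcen, hconn, hne, hnc, fun u hu v hv => ?_⟩
  obtain ⟨v', hv', hv'ne, ht⟩ := tw_everywhere hD hsol' hx htw hu hv
  refine ⟨v', ⟨hv'.1, fun d hd => ?_⟩, hv'.2.1, hv'ne⟩
  by_cases hdu : d = u
  · exact hdu ▸ hv'.2.2.symm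
  · exact (ht d ⟨hd.1, hdu, hd.2.1.symm⟩).1 hd.2.2.symm

theorem Thick.classify {G : Type*} [Group G] [Finite G] {D : Set G} (hT : Thick D) :
    (∃ n : ℕ, Nonempty (G ≃* Matrix.symplecticGroup (Fin n) (ZMod 2))) ∨
      ∃ (F : Type) (_ : Field F) (_ : Fintype F) (n : ℕ), Fintype.card F = 4 ∧
        Nonempty (G ≃* Cfsg.PSU n F 2) := by
  have hP := hT.polar
  by_cases h3 : ∀ x ∈ D, ∀ b ∈ perp D x, (line D x b).ncard = 3
  · exact Or.inl (hP.symplectic_iso h3)
  · push Not at h3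
    obtain ⟨x, hx, b, hb, hne⟩ := h3
    refine Or.inr (Five.unitary_iso ⟨hP, fun u hu v hv => ?_⟩)
    rw [← hT.ncard_line_eq hx hb hu hv]
    exact (hP.card x hx b hb).resolve_left hne

end Cfsg.Agent.Fischer.Polar
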