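import Cfsg.Agent.Lib.Fischer.Polar.Fibre

/-!
An orientation of the fibres for which all translations act linearly.
-/

set_option autoImplicit false

namespace Cfsg.Agent.Fischer.Polar

open Cfsg Cfsg.Agent.Fischer.Solv

universe u

variable {G : Type u} [Group G] [Finite G] {D : Set G} {a b : G} {F : Type} [Field F]

namespace Lab

variable (L : Lab D a b F)

/-- The translations of one fibre act linearly on another. -/
def Lin (p r : ↥(both D a b)) : Prop := ∀ l, L.xv (L.g p l) r = l * L.xv (L.g p 1) r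

/-- All the translations act linearly. -/
def Linear : Prop := ∀ p r, L.Lin p r

open scoped Classical in
/-- The bijection of the field used at one point. -/
noncomputable def twist (ε : ↥(both D a b) → Prop) (r : ↥(both D a b)) (l : F) : F :=
  if ε r then l ^ 2 else l

variable (hB : Base D a b) (h4 : IsFour F)
include hB h4

theorem semi_or (p r : ↥(both D a b)) (hpr : ¬Commute (p : G) r) :
    L.xv (L.g p 1) r ≠ 0 ∧ ((∀ l, L.xv (L.g p l) r = l * L.xv (L.g p 1) r) ∨
      ∀ l, L.xv (L.g p l) r = l ^ 2 * L.xv (L.g p 1) r) :=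
  ⟨fun h => one_ne_zero (L.xv_g_eq_zero hB h4 hpr h),
    h4.linear_or_semi (fun l => L.xv (L.g p l) r)
      (fun x y => congrFun (L.xv_g_add hB h4 p x y) r) fun _ h => L.xv_g_eq_zero hB h4 hpr h⟩

omit hB in
theorem not_both (k : F) (hk : k ≠ 0) (h : ∀ l : F, l * k = l ^ 2 * k) : False := by
  have : Finite F := h4.finite
  have : Fintype F := Fintype.ofFinite F
  classical
  obtain ⟨w, -, hw⟩ := Finset.exists_mem_notMem_of_card_lt_card
    (s := ({0, 1} : Finset F)) (t := Finset.univ)
    (Finset.card_le_two.trans_lt (by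
      rw [Finset.card_univ, ← Nat.card_eq_fintype_card, h4.card]; norm_num))
  simp only [Finset.mem_insert, Finset.mem_singleton, not_or] at hw
  refine hw.2 (mul_left_cancel₀ (mul_ne_zero hw.1 hk) ?_)
  linear_combination -(h w)

omit hB in
theorem not_mixed {k₁ k₂ : F} (h1 : k₁ ≠ 0) (h2 : k₂ ≠ 0)
    (h : (∀ l, l * k₁ + l ^ 2 * k₂ = 0) ∨ ∀ l, l ≠ 0 → l * k₁ + l ^ 2 * k₂ ≠ 0) : False := by
  rcases h with h | h
  · have e := h4.add_eq_zero.1 (h 1)
    simp only [one_pow, one_mul] at e
    subst e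
    exact not_both h4 k₁ h1 fun l => h4.add_eq_zero.1 (h l)
  · refine h (k₁ / k₂) (div_ne_zero h1 h2) ?_
    rw [div_pow]
    field_simp
    linear_combination k₁ ^ 2 * h4.two

theorem lin_symm {p r : ↥(both D a b)} (hpr : ¬Commute (p : G) r) :
    L.Lin p r ↔ L.Lin r p := by
  have key : ∀ {p r : ↥(both D a b)}, ¬Commute (p : G) r → L.Lin r p → L.Lin p r := by
    intro p r hpr hlin
    refine ((L.semi_or hB h4 p r hpr).2).resolve_right fun hsemi => ?_
    refine not_both h4 1 one_ne_zero fun l => ?_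
    have h1 := L.xv_symm hB h4 hpr l
    have h2 := L.xv_symm hB h4 hpr 1
    rw [hlin] at h1 h2
    rw [hsemi] at h1
    have e : l ^ 2 * (L.xv (L.g p 1) r * L.xv (L.g r 1) p) = l := by rw [← mul_assoc]; exact h1
    rw [h2, mul_one] at e
    linear_combination -e
  exact ⟨key fun k => hpr k.symm, key hpr⟩

theorem lin_triangle {p q r : ↥(both D a b)} (hpq : ¬Commute (p : G) q) (hpr : ¬Commute (p : G) r)
    (hrq : ¬Commute (r : G) q) : L.Lin p q ↔ (L.Lin p r ↔ L.Lin r q) := by
  obtain ⟨k1, s1⟩ := L.semi_or hB h4 p q hpq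
  obtain ⟨k2, s2⟩ := L.semi_or hB h4 p r hpr
  obtain ⟨k3, s3⟩ := L.semi_or hB h4 r q hrq
  have tri := L.triangle hB h4 p q r
  set K1 := L.xv (L.g p 1) q with hK1
  set K2 := L.xv (L.g p 1) r with hK2
  set K3 := L.xv (L.g r 1) q with hK3
  have nlin : ∀ {p r : ↥(both D a b)}, L.xv (L.g p 1) r ≠ 0 →
      (∀ l, L.xv (L.g p l) r = l ^ 2 * L.xv (L.g p 1) r) → ¬L.Lin p r := fun hk hs hl =>
    not_both h4 _ hk fun l => (hl l).symm.trans (hs l)
  have lin : ∀ {p r : ↥(both D a b)}, (∀ l, L.xv (L.g p l) r = l * L.xv (L.g p 1) r) → L.Lin p r :=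
    fun h => h
  have hsq : ∀ x y : F, (x ^ 2 * y) ^ 2 = x * y ^ 2 := fun x y => by rw [mul_pow, h4.pow_four]
  rcases s1 with s1 | s1 <;> rcases s2 with s2 | s2 <;> rcases s3 with s3 | s3
  · simp only [lin s1, lin s2, lin s3]
  · exfalso
    simp only [s1, s2, s3] at tri
    refine not_mixed h4 k1 (mul_ne_zero (pow_ne_zero 2 k2) k3) ?_
    simpa only [mul_pow, mul_assoc, add_comm] using tri
  · exfalso
    simp only [s1, s2, s3] at tri
    refine not_mixed h4 k1 (mul_ne_zero k2 k3) ?_
    simpa only [mul_assoc, add_comm] using tri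
  · simp only [lin s1, nlin k2 s2, nlin k3 s3]
  · simp only [nlin k1 s1, lin s2, lin s3]
    exfalso
    simp only [s1, s2, s3] at tri
    refine not_mixed h4 (mul_ne_zero k2 k3) k1 ?_
    simpa only [mul_assoc] using tri
  · simp [nlin k1 s1, lin s2, nlin k3 s3]
  · simp [nlin k1 s1, nlin k2 s2, lin s3]
  · exfalso
    simp only [s1, s2, s3, hsq] at tri
    refine not_mixed h4 (mul_ne_zero (pow_ne_zero 2 k2) k3) k1 ?_
    simpa only [mul_assoc] using tri

include L in
theorem exists_linear : ∃ M : Lab D a b F, M.Linear := by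
  classical
  obtain ⟨p₀, hp₀a, hp₀b⟩ := hB.toThick.prj_nonempty hB.ha hB.hb
  have hp₀ : p₀ ∈ both D a b := ⟨hp₀a.1, hp₀a.2.2.symm, hp₀b⟩
  obtain ⟨ε, hε⟩ := exists_potential (fun p r : ↥(both D a b) => ¬Commute (p : G) r) L.Lin
    (fun p q h k => h k.symm) (fun p q h => L.lin_symm hB h4 h)
    (fun p q r h1 h2 h3 => L.lin_triangle hB h4 h1 h2 h3)
    (fun p r _ => by
      obtain ⟨m, hm, h1, h2⟩ := hB.middle p.2 r.2
      exact ⟨⟨m, hm⟩, fun k => h1 k.symm, h2⟩)
    (fun p q h => ⟨⟨_, hB.third_mem p.2 q.2⟩, fun k => (hB.ts.not_commute_third p.2.1 q.2.1 h).1 k.symm,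
      fun k => (hB.ts.not_commute_third p.2.1 q.2.1 h).2 k.symm, fun t ht =>
        hB.third_spec p.2.1 q.2.1 h (by
          rcases ht with ⟨h1, h2⟩ | ⟨h1, h2⟩
          · exact Or.inr ⟨h2, not_not.1 h1⟩
          · exact Or.inl ⟨h2, not_not.1 h1⟩)⟩) ⟨p₀, hp₀⟩
  have hφ : ∀ r (l : F), twist ε r (twist ε r l) = l := fun r l => by
    unfold twist; split
    · exact h4.pow_four l
    · rfl
  let M : Lab D a b F :=
    { e := fun r l => L.e r (twist (fun r => ¬ε r) r l)
      mem := fun r l => L.mem r _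
      inj := fun r x y h => by
        have h' := L.inj r h
        unfold twist at h'
        split at h'
        · exact h4.sq_inj h'
        · exact h'
      zero := fun r => by
        unfold twist
        split
        · rw [zero_pow two_ne_zero, L.zero]
        · rw [L.zero] }
  refine ⟨M, fun p r l => ?_⟩
  have hM : ∀ p (l : F), M.xv (M.g p l) = fun r =>
      twist (fun r => ¬ε r) r (L.xv (L.g p (twist (fun r => ¬ε r) p l)) r) := by
    intro p l
    have h := L.isTrans hB h4 (L.g_mem p (twist (fun r => ¬ε r) p l))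
    refine M.xv_eq ⟨h.1, fun r m => ?_⟩
    show L.g p _ * L.e r _ * (L.g p _)⁻¹ = L.e r _
    rw [h.2]
    congr 1
    simp only [twist]
    split
    · rw [h4.sq_add, h4.pow_four]
    · rfl
  rw [hM, hM]
  by_cases hpr : Commute (p : G) r
  · simp only [L.xv_g_commute hB h4 hpr, twist, zero_pow two_ne_zero, ite_self, mul_zero]
  obtain ⟨hk, hs⟩ := L.semi_or hB h4 p r hpr
  have hpar := hε p r hpr
  rcases hs with hs | hs
  · have hiff := hpar.1 hs
    by_cases hp : ε p
    · simp only [twist, not_not, hp, hiff.1 hp, if_false]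
      exact hs l
    · have hr : ¬ε r := fun k => hp (hiff.2 k)
      simp only [twist, hp, hr, not_false_eq_true, if_true]
      rw [hs (l ^ 2), hs (1 ^ 2), one_pow, one_mul, mul_pow, h4.pow_four]
  · have hiff : ¬(ε p ↔ ε r) := fun k => not_both h4 _ hk fun l => ((hpar.2 k) l).symm.trans (hs l)
    by_cases hp : ε p
    · have hr : ¬ε r := fun k => hiff (iff_of_true hp k)
      simp only [twist, not_true_eq_false, hp, hr, not_false_eq_true, if_true, if_false]
      rw [hs l, mul_pow, h4.pow_four]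
    · have hr : ε r := by tauto
      simp only [twist, hp, hr, not_false_eq_true, not_true_eq_false, if_true, if_false]
      rw [hs (l ^ 2), h4.pow_four, one_pow]

end Lab

/-- A linear labelling exists. -/
theorem Base.exists_linear (hB : Base D a b) (h4 : IsFour F) : ∃ L : Lab D a b F, L.Linear := by
  obtain ⟨L⟩ := hB.exists_lab h4
  exact L.exists_linear hB h4

end Cfsg.Agent.Fischer.Polar
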