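import Cfsg.Agent.Lib.Fischer.Polar.Line
import Cfsg.Agent.Lib.Fischer.Primitive

/-!
The quotient at a point: the lines through a member `e`, permuted by the group generated by the
members commuting with `e`, form again a class with thick lines.
-/

set_option autoImplicit false

namespace Cfsg.Agent.Fischer.Polar

open Cfsg Cfsg.Agent.Fischer.Solv

universe u

variable {G : Type u} [Group G] {D : Set G}

/-- `perp D e` has two commuting members on different lines. -/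
def Deep (D : Set G) (e : G) : Prop :=
  ∃ b ∈ perp D e, ∃ c ∈ perp D e, Commute b c ∧ c ∉ line D e b

/-- The lines through `e`. -/
abbrev Cls (D : Set G) (e : G) : Type u := {ℓ : Set G // ∃ v ∈ perp D e, line D e v = ℓ}

namespace Thick

variable [Finite G] (hT : Thick D)
include hT

omit [Finite G] in
theorem image_line (g u v : G) :
    (fun w => g * w * g⁻¹) '' line D u v = line D (g * u * g⁻¹) (g * v * g⁻¹) := by
  refine Set.Subset.antisymm ?_ fun w hw => ⟨g⁻¹ * w * g, ?_, by simp [mul_assoc]⟩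
  · rintro _ ⟨w, hw, rfl⟩
    exact hT.conj_line g hw
  · have := hT.conj_line g⁻¹ hw
    simpa [mul_assoc] using this

omit [Finite G] in
theorem image_mem {e g : G} (hg : g * e * g⁻¹ = e) {ℓ : Set G}
    (h : ∃ v ∈ perp D e, line D e v = ℓ) :
    ∃ v ∈ perp D e, line D e v = setConj g ℓ := by
  obtain ⟨v, hv, rfl⟩ := h
  have h1 := conj_mem_perp hT.toTClass g hv
  rw [hg] at h1
  refine ⟨_, h1, ?_⟩
  show _ = (fun w => g * w * g⁻¹) '' line D e v
  rw [hT.image_line, hg]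

/-- The action of `⟨perp D e⟩` on the lines through `e`. -/
def act (e : G) : ↥(Subgroup.closure (perp D e)) →* Equiv.Perm (Cls D e) where
  toFun g :=
    { toFun := fun ℓ => ⟨setConj (g : G) ℓ.1,
        hT.image_mem (conj_fix_of_mem_closure_perp g.2) ℓ.2⟩
      invFun := fun ℓ => ⟨setConj ((g⁻¹ : ↥(Subgroup.closure (perp D e))) : G) ℓ.1,
        hT.image_mem (conj_fix_of_mem_closure_perp (g⁻¹).2) ℓ.2⟩
      left_inv := fun ℓ => Subtype.ext (by
        show setConj ((g⁻¹ : ↥(Subgroup.closure (perp D e))) : G) (setConj (g : G) ℓ.1) = ℓ.1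
        rw [← Equiv.Perm.mul_apply, ← map_mul, ← Subgroup.coe_mul, inv_mul_cancel]
        simp)
      right_inv := fun ℓ => Subtype.ext (by
        show setConj (g : G) (setConj ((g⁻¹ : ↥(Subgroup.closure (perp D e))) : G) ℓ.1) = ℓ.1
        rw [← Equiv.Perm.mul_apply, ← map_mul, ← Subgroup.coe_mul, mul_inv_cancel]
        simp) }
  map_one' := Equiv.ext fun ℓ => Subtype.ext (by
    show setConj ((1 : ↥(Subgroup.closure (perp D e))) : G) ℓ.1 = ℓ.1
    simp)
  map_mul' g g' := Equiv.ext fun ℓ => Subtype.ext (by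
    show setConj ((g * g' : ↥(Subgroup.closure (perp D e))) : G) ℓ.1 =
      setConj (g : G) (setConj (g' : G) ℓ.1)
    rw [Subgroup.coe_mul, map_mul]
    rfl)

/-- The quotient group. -/
abbrev grp (e : G) : Subgroup (Equiv.Perm (Cls D e)) := (hT.act e).range

/-- The image of a member. -/
def cl (e : G) {v : G} (hv : v ∈ perp D e) : ↥(hT.grp e) :=
  (hT.act e).rangeRestrict ⟨v, Subgroup.subset_closure hv⟩

/-- The quotient class. -/
def qset (e : G) : Set ↥(hT.grp e) := {z | ∃ (v : G) (hv : v ∈ perp D e), hT.cl e hv = z}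

theorem cl_mem {e v : G} (hv : v ∈ perp D e) : hT.cl e hv ∈ hT.qset e := ⟨v, hv, rfl⟩

omit [Finite G] in
theorem line_star {e c v : G} (hv : v ∈ perp D e) :
    setConj v (line D e c) = line D e (v * c * v) := by
  show (fun w => v * w * v⁻¹) '' line D e c = _
  rw [hT.image_line, hT.ts.inv_eq hv.1, invol_conj_eq_of_commute (hT.sq v hv.1) hv.2.2.symm]

theorem perp_conj_mem {e v w : G} (hv : v ∈ perp D e) (hw : w ∈ perp D e) :
    v * w * v ∈ perp D e :=
  ⟨hT.ts.conj_mem hv.1 hw.1, fun h => hw.2.1 (invol_conj_inj (hT.sq v hv.1)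
    (h.trans (invol_conj_eq_of_commute (hT.sq v hv.1) hv.2.2.symm).symm)),
    (hv.2.2.mul_right hw.2.2).mul_right hv.2.2⟩

/-- Images agree exactly on lines. -/
theorem cl_eq_iff {e v v' : G} (he : e ∈ D) (hv : v ∈ perp D e) (hv' : v' ∈ perp D e) :
    hT.cl e hv = hT.cl e hv' ↔ v' ∈ line D e v := by
  constructor
  · intro h
    refine ⟨hv'.1, fun c hc => ?_⟩
    by_cases hce : c = e
    · exact hce ▸ hv'.2.2.symm
    by_contra hn
    have hcp : c ∈ perp D e := ⟨hc.1, hce, hc.2.1.symm⟩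
    have h1 := congrArg Subtype.val
      (congrArg (fun (p : Equiv.Perm (Cls D e)) => p ⟨_, c, hcp, rfl⟩) (congrArg Subtype.val h))
    change setConj v (line D e c) = setConj v' (line D e c) at h1
    rw [hT.line_star hv, hT.line_star hv',
      invol_conj_eq_of_commute (hT.sq v hv.1) hc.2.2.symm] at h1
    have h2 : v' * c * v' ∈ line D e c := h1 ▸ right_mem_line he (hT.perp_conj_mem hv' hcp)
    exact (hT.ts.not_commute_third hv'.1 hc.1 hn).2 (line_commute_right he hcp h2)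
  · intro h
    refine Subtype.ext (Equiv.ext fun ⟨ℓ, c, hc, hl⟩ => Subtype.ext ?_)
    subst hl
    show setConj v (line D e c) = setConj v' (line D e c)
    rw [hT.line_star hv, hT.line_star hv']
    have hiff := hT.commute_iff_of_line he hv h hv'.2.1 hc.1 hc.2.2.symm
    by_cases hvc : Commute c v
    · rw [invol_conj_eq_of_commute (hT.sq v hv.1) hvc.symm,
        invol_conj_eq_of_commute (hT.sq v' hv'.1) (hiff.1 hvc).symm]
    · rw [hT.ts.braid hv.1 hc.1 (fun k => hvc k.symm),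
        hT.ts.braid hv'.1 hc.1 (fun k => hvc (hiff.2 k.symm))]
      exact (hT.line_eq_left he (hT.perp_conj_mem hc hv) (hT.star_line h hc)
        (hT.perp_conj_mem hc hv').2.1).symm

theorem cl_conj {e v w : G} (hv : v ∈ perp D e) (hw : w ∈ perp D e) :
    hT.cl e (hT.perp_conj_mem hv hw) = hT.cl e hv * hT.cl e hw * hT.cl e hv := by
  rw [cl, cl, cl, ← map_mul, ← map_mul]
  rfl

theorem cl_commute_iff {e v w : G} (he : e ∈ D) (hv : v ∈ perp D e) (hw : w ∈ perp D e) :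
    Commute (hT.cl e hv) (hT.cl e hw) ↔ Commute v w := by
  constructor
  · intro h
    by_contra hn
    have hsq : hT.cl e hv * hT.cl e hv = 1 := by
      rw [cl, ← map_mul]
      exact (congrArg _ (Subtype.ext (hT.sq v hv.1))).trans (map_one _)
    have h1 : hT.cl e (hT.perp_conj_mem hv hw) = hT.cl e hw := by
      rw [hT.cl_conj hv hw, h.eq, mul_assoc, hsq, mul_one]
    have h2 := (hT.cl_eq_iff he hw (hT.perp_conj_mem hv hw)).1 h1.symm
    exact (hT.ts.not_commute_third hv.1 hw.1 hn).2 (line_commute_right he hw h2)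
  · intro h
    have h0 : Commute (⟨v, Subgroup.subset_closure hv⟩ : ↥(Subgroup.closure (perp D e)))
        ⟨w, Subgroup.subset_closure hw⟩ := Subtype.ext h.eq
    exact h0.map (hT.act e).rangeRestrict

theorem mem_qperp_iff {e v w : G} (he : e ∈ D) (hv : v ∈ perp D e) (hw : w ∈ perp D e) :
    hT.cl e hw ∈ perp (hT.qset e) (hT.cl e hv) ↔ Commute v w ∧ w ∉ line D e v := by
  constructor
  · rintro ⟨-, h1, h2⟩
    exact ⟨(hT.cl_commute_iff he hv hw).1 h2,
      fun h => h1 ((hT.cl_eq_iff he hv hw).2 h).symm⟩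
  · rintro ⟨h1, h2⟩
    exact ⟨hT.cl_mem hw, fun h => h2 ((hT.cl_eq_iff he hv hw).1 h.symm),
      (hT.cl_commute_iff he hv hw).2 h1⟩

theorem qclass {e : G} (he : e ∈ D) : TClass (hT.qset e) := by
  have hsq : ∀ z ∈ hT.qset e, z * z = 1 := by
    rintro _ ⟨v, hv, rfl⟩
    rw [cl, ← map_mul]
    exact (congrArg _ (Subtype.ext (hT.sq v hv.1))).trans (map_one _)
  obtain ⟨v0, hv0⟩ := hT.nonempty_perp e he
  refine ⟨⟨hsq, ?_, ?_, ?_⟩, ?_, ?_, ⟨_, hT.cl_mem hv0⟩⟩
  · rintro _ ⟨v, hv, rfl⟩ h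
    obtain ⟨c, hc, hcv⟩ := hT.exists_nonCommute he hv
    apply hcv
    refine ((hT.cl_commute_iff he hv hc).1 ?_).symm
    rw [h]
    exact Commute.one_left _
  · rintro _ ⟨v, hv, rfl⟩ _ ⟨w, hw, rfl⟩
    rw [cl, cl, ← map_mul, ← map_pow, ← map_pow]
    rcases hT.ord v hv.1 w hw.1 with h | h
    · exact Or.inl ((congrArg _ (Subtype.ext h)).trans (map_one _))
    · exact Or.inr ((congrArg _ (Subtype.ext h)).trans (map_one _))
  · intro g z hz
    obtain ⟨v, hv, rfl⟩ := hz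
    obtain ⟨g, rfl⟩ := (hT.act e).rangeRestrict_surjective g
    have h1 := conj_mem_perp hT.toTClass (g : G) (x := e) hv
    rw [conj_fix_of_mem_closure_perp g.2] at h1
    refine ⟨_, h1, ?_⟩
    rw [cl, cl, ← map_inv, ← map_mul, ← map_mul]
    rfl
  · rintro _ ⟨v, hv, rfl⟩ _ ⟨w, hw, rfl⟩
    obtain ⟨g, hg, h⟩ := perp_transitive hT.toTClass hT.sol he hv hw
    refine ⟨(hT.act e).rangeRestrict ⟨g, hg⟩, ?_⟩
    rw [cl, cl, ← map_inv, ← map_mul, ← map_mul]
    exact congrArg _ (Subtype.ext h)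
  · rw [eq_top_iff]
    intro z hz
    clear hz
    obtain ⟨⟨g, hg⟩, rfl⟩ := (hT.act e).rangeRestrict_surjective z
    induction hg using Subgroup.closure_induction with
    | mem v hv => exact Subgroup.subset_closure (hT.cl_mem hv)
    | one => exact (map_one (hT.act e).rangeRestrict).symm ▸ one_mem _
    | mul p q hp hq h1 h2 =>
      rw [show (⟨p * q, mul_mem hp hq⟩ : ↥(Subgroup.closure (perp D e))) = ⟨p, hp⟩ * ⟨q, hq⟩ from rfl,
        map_mul]
      exact mul_mem h1 h2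
    | inv p hp h1 =>
      rw [show (⟨p⁻¹, inv_mem hp⟩ : ↥(Subgroup.closure (perp D e))) = ⟨p, hp⟩⁻¹ from rfl, map_inv]
      exact inv_mem h1

theorem qcenter {e : G} (he : e ∈ D) : Subgroup.center ↥(hT.grp e) = ⊥ := by
  refine (Subgroup.eq_bot_iff_forall _).2 fun z hz => ?_
  obtain ⟨⟨g, hg⟩, rfl⟩ := (hT.act e).rangeRestrict_surjective z
  refine Subtype.ext (Equiv.ext fun ⟨ℓ, c, hc, hl⟩ => Subtype.ext ?_)
  subst hl
  show setConj g (line D e c) = line D e c
  have h1 := conj_mem_perp hT.toTClass g (x := e) hc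
  rw [conj_fix_of_mem_closure_perp hg] at h1
  have h2 : hT.cl e h1 = hT.cl e hc := by
    rw [cl, cl]
    have := Subgroup.mem_center_iff.1 hz (hT.cl e hc)
    rw [cl, ← map_mul, ← map_mul] at this
    rw [show (⟨g * c * g⁻¹, Subgroup.subset_closure h1⟩ : ↥(Subgroup.closure (perp D e))) =
      ⟨g, hg⟩ * ⟨c, Subgroup.subset_closure hc⟩ * ⟨g, hg⟩⁻¹ from rfl, map_mul, map_inv,
      mul_inv_eq_iff_eq_mul, ← map_mul]
    exact this.symm
  have h3 := (hT.cl_eq_iff he hc h1).1 h2.symm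
  show (fun w => g * w * g⁻¹) '' line D e c = _
  rw [hT.image_line, conj_fix_of_mem_closure_perp hg]
  exact hT.line_eq_left he hc h3 h1.2.1

/-- A third member of a line, seen from `e`. -/
theorem qtwin {e b c : G} (he : e ∈ D) (hb : b ∈ perp D e) (hc : c ∈ perp D e) (hbc : Commute b c)
    (hn : c ∉ line D e b) :
    ∃ (d : G) (hd : d ∈ perp D e), d ∈ line D b c ∧ d ≠ c ∧ hT.cl e hd ∈ line (hT.qset e) (hT.cl e hb) (hT.cl e hc) ∧
      hT.cl e hd ≠ hT.cl e hb ∧ hT.cl e hd ≠ hT.cl e hc := by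
  have hcb : c ∈ perp D b := ⟨hc.1, fun h => hn (by rw [h]; exact right_mem_line he hb), hbc⟩
  obtain ⟨d, hd, hdb, hdc⟩ := hT.twins b hb.1 c hcb
  have hde : Commute d e := hd.2 e ⟨he, hb.2.2, hc.2.2⟩
  have hne : d ≠ e := by
    intro h
    refine hn ?_
    rw [h] at hd
    rw [← line_comm b e, hT.line_eq_left hb.1 hcb hd (Ne.symm hb.2.1)]
    exact right_mem_line hb.1 hcb
  have hdp : d ∈ perp D e := ⟨hd.1, hne, hde.symm⟩
  refine ⟨d, hdp, hd, hdc, ⟨hT.cl_mem hdp, ?_⟩, fun h => ?_, fun h => ?_⟩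
  · rintro z ⟨⟨v, hv, rfl⟩, h1, h2⟩
    exact (hT.cl_commute_iff he hdp hv).2 (hd.2 v
      ⟨hv.1, (hT.cl_commute_iff he hv hb).1 h1, (hT.cl_commute_iff he hv hc).1 h2⟩)
  · have h1 := (hT.cl_eq_iff he hb hdp).1 h.symm
    refine hn ?_
    rw [← hT.line_eq he hb (right_mem_line he hb) h1 hdb.symm,
      hT.line_eq_left hb.1 hcb hd hdb]
    exact right_mem_line hb.1 hcb
  · have h1 := (hT.cl_eq_iff he hc hdp).1 h.symm
    refine hn ?_
    have h2 : line D e c = line D b c := by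
      rw [← hT.line_eq he hc (right_mem_line he hc) h1 hdc.symm,
        hT.line_eq hb.1 hcb (right_mem_line hb.1 hcb) hd hdc.symm]
    have h3 : e ∈ line D b c := h2 ▸ left_mem_line he hc
    rw [← line_comm b e, hT.line_eq_left hb.1 hcb h3 (Ne.symm hb.2.1)]
    exact right_mem_line hb.1 hcb

theorem deep_everywhere {e v : G} (he : e ∈ D) (hnt : Deep D e) (hv : v ∈ perp D e) :
    ∃ c ∈ perp D e, Commute v c ∧ c ∉ line D e v := by
  obtain ⟨b, hb, c, hc, hbc, hn⟩ := hnt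
  obtain ⟨g, hge, hgb⟩ := exists_pair_conj hT.toTClass hT.sol he hb he hv
  have h1 := conj_mem_perp hT.toTClass g hc
  rw [hge] at h1
  refine ⟨_, h1, hgb ▸ hbc.conj g, fun h => hn ?_⟩
  have h2 := hT.conj_line g⁻¹ h
  rw [← hgb, show g⁻¹ * e * g⁻¹⁻¹ = e by nth_rw 1 [← hge]; group,
    show g⁻¹ * (g * b * g⁻¹) * g⁻¹⁻¹ = b by group,
    show g⁻¹ * (g * c * g⁻¹) * g⁻¹⁻¹ = c by group] at h2
  exact h2

/-- Two commuting members see both ends of a non-commuting pair. -/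
theorem exists_commuting_common {e : G} (he : e ∈ D) (hnt : Deep D e) {p q : G} (hp : p ∈ D)
    (hq : q ∈ nbr D p) : ∃ r ∈ both D p q, ∃ r' ∈ both D p q, r ≠ r' ∧ Commute r r' := by
  by_contra hcon
  push Not at hcon
  have hall : ∀ u ∈ D, ∀ v ∈ nbr D u, ∀ r ∈ both D u v, ∀ r' ∈ both D u v, Commute r r' → r = r' := by
    intro u hu v hv r hr r' hr' hrr
    obtain ⟨g, hg⟩ := hT.trans u hu p hp
    have hv' := conj_mem_nbr hT.toTClass g hv
    rw [hg] at hv'
    obtain ⟨k, hkp, hkv⟩ := nbr_transitive hT.toTClass hT.sol hT.conn hp hv' hq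
    have hmem : ∀ z ∈ both D u v, k * (g * z * g⁻¹) * k⁻¹ ∈ both D p q := fun z hz => by
      refine ⟨hT.conj k _ (hT.conj g z hz.1), ?_, ?_⟩
      · have := (hz.2.1.conj g).conj k
        rwa [hg, hkp] at this
      · have := (hz.2.2.conj g).conj k
        rwa [hkv] at this
    by_contra hne
    exact hcon _ (hmem r hr) _ (hmem r' hr')
      (fun h => hne (mul_left_cancel (mul_right_cancel (mul_left_cancel (mul_right_cancel h)))))
      ((hrr.conj g).conj k)
  obtain ⟨a, ha, haq⟩ := hT.prj_nonempty hp hq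
  obtain ⟨b, hb, c, hc, hbc, hn⟩ := hnt
  obtain ⟨g, hge, hgb⟩ := exists_pair_conj hT.toTClass hT.sol he hb hp ha
  have hc' := conj_mem_perp hT.toTClass g hc
  rw [hge] at hc'
  set c' := g * c * g⁻¹
  have hac : Commute a c' := hgb ▸ hbc.conj g
  have hca : c' ∉ line D p a := fun h => by
    have h2 := hT.conj_line g⁻¹ h
    rw [← hge, ← hgb, show g⁻¹ * (g * e * g⁻¹) * g⁻¹⁻¹ = e by group,
      show g⁻¹ * (g * b * g⁻¹) * g⁻¹⁻¹ = b by group,
      show g⁻¹ * c' * g⁻¹⁻¹ = c by simp [c', mul_assoc]] at h2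
    exact hn h2
  have hne : c' ≠ a := fun h => hca (by rw [h]; exact right_mem_line hp ha)
  have hcq : ¬Commute c' q := fun h => hne
    (hall p hp q hq c' ⟨hc'.1, hc'.2.2.symm, h⟩ a ⟨ha.1, ha.2.2.symm, haq⟩ hac.symm)
  obtain ⟨d, hd, hda⟩ : ∃ d ∈ both D p c', ¬Commute d a := by
    by_contra h
    push Not at h
    refine hca ?_
    rw [hT.line_eq_left hp hc' (e := a) ⟨ha.1, fun d hd => (h d hd).symm⟩ ha.2.1]
    exact right_mem_line hp hc'
  have hdp : d ≠ p := fun h => hda (h ▸ ha.2.2)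
  obtain ⟨a', ha', ha'p, ha'q, ha'd⟩ := hT.exists_common hp hq (b := d)
    ⟨hd.1, hdp, hd.2.1.symm⟩
  have hne2 : a' ≠ a := fun h => hda (h ▸ ha'd.symm)
  have haa' : ¬Commute a a' := fun h => hne2
    (hall p hp q hq a ⟨ha.1, ha.2.2.symm, haq⟩ a' ⟨ha', ha'p, ha'q⟩ h).symm
  have hca' : ¬Commute c' a' := fun h => hc'.2.1
    (hall a ha.1 a' ⟨ha', haa'⟩ c' ⟨hc'.1, hac.symm, h⟩ p ⟨hp, ha.2.2, ha'p.symm⟩ hc'.2.2.symm)
  exact hdp (hall c' hc'.1 a' ⟨ha', hca'⟩ d ⟨hd.1, hd.2.2, ha'd.symm⟩ p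
    ⟨hp, hc'.2.2, ha'p.symm⟩ hd.2.1)

/-- A non-commuting pair in `perp D e` sees a member of `perp D e`. -/
theorem exists_common_in_perp {e p q : G} (he : e ∈ D) (hnt : Deep D e) (hp : p ∈ perp D e)
    (hq : q ∈ perp D e) (hpq : ¬Commute p q) :
    ∃ r ∈ perp D e, Commute r p ∧ Commute r q := by
  obtain ⟨r, hr, r', hr', hne, hrr⟩ := hT.exists_commuting_common he hnt hp.1 ⟨hq.1, hpq⟩
  by_cases hre : Commute r e
  · by_cases h : r = e
    · exact ⟨r', ⟨hr'.1, fun k => hne (h.trans k.symm), h ▸ hrr⟩, hr'.2.1, hr'.2.2⟩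
    · exact ⟨r, ⟨hr.1, h, hre.symm⟩, hr.2.1, hr.2.2⟩
  have h1 := hT.ts.edge_swap hr.1 he hre
  set g := r * e * r with hgdef
  have hg : ∀ z, Commute z r → Commute z e → g * z * g⁻¹ = z := fun z h1 h2 => by
    rw [((h1.mul_right h2).mul_right h1).symm.eq, mul_inv_cancel_right]
  refine ⟨g * r' * g⁻¹, ⟨hT.conj g r' hr'.1, fun h => hne ?_, ?_⟩, ?_, ?_⟩
  · exact (mul_left_cancel (mul_right_cancel (h.trans h1.1.symm))).symm
  · have := hrr.conj g
    rwa [h1.1] at this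
  · have := hr'.2.1.conj g
    rwa [hg p hr.2.1.symm hp.2.2.symm] at this
  · have := hr'.2.2.conj g
    rwa [hg q hr.2.2.symm hq.2.2.symm] at this

theorem qthick {e : G} (he : e ∈ D) (hnt : Deep D e) : Thick (hT.qset e) := by
  have hQ := hT.qclass he
  have hcen := hT.qcenter he
  have hnc : ∀ z ∈ hT.qset e, ∃ w ∈ hT.qset e, ¬Commute z w := by
    rintro _ ⟨v, hv, rfl⟩
    obtain ⟨c, hc, hcv⟩ := hT.exists_nonCommute he hv
    exact ⟨_, hT.cl_mem hc, fun h => hcv ((hT.cl_commute_iff he hv hc).1 h).symm⟩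
  have hne : ∀ z ∈ hT.qset e, (perp (hT.qset e) z).Nonempty := by
    rintro _ ⟨v, hv, rfl⟩
    obtain ⟨c, hc, h1, h2⟩ := hT.deep_everywhere he hnt hv
    exact ⟨_, (hT.mem_qperp_iff he hv hc).2 ⟨h1, h2⟩⟩
  have htw : ∀ z ∈ hT.qset e, ∀ w ∈ perp (hT.qset e) z,
      ∃ d ∈ line (hT.qset e) z w, d ≠ z ∧ d ≠ w := by
    rintro _ ⟨v, hv, rfl⟩ _ h
    obtain ⟨c, hc, rfl⟩ := h.1
    obtain ⟨h1, h2⟩ := (hT.mem_qperp_iff he hv hc).1 h
    obtain ⟨d, hd, -, -, hline, hd1, hd2⟩ := hT.qtwin he hv hc h1 h2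
    exact ⟨_, hline, hd1, hd2⟩
  have hD2 : ∃ a ∈ hT.qset e, ∃ b ∈ hT.qset e, a ≠ b := by
    obtain ⟨z, hz⟩ := hQ.nonempty
    obtain ⟨w, hw, hn⟩ := hnc z hz
    exact ⟨z, hz, w, hw, fun h => hn (h ▸ Commute.refl z)⟩
  have hperp : ∀ z ∈ hT.qset e, ∀ w ∈ hT.qset e, ¬Commute z w →
      perp (hT.qset e) z ≠ perp (hT.qset e) w := by
    rintro _ ⟨v, hv, rfl⟩ _ ⟨w, hw, rfl⟩ hn h
    obtain ⟨c, hc, hvc, hnvc⟩ := hT.deep_everywhere he hnt hv
    obtain ⟨d, hd, hdl, hdc, hdq, hd1, -⟩ := hT.qtwin he hv hc hvc hnvc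
    have hcv : c ∈ perp D v := ⟨hc.1, fun k => hnvc (by rw [k]; exact right_mem_line he hv), hvc⟩
    have h1 : hT.cl e hc ∈ perp (hT.qset e) (hT.cl e hv) :=
      (hT.mem_qperp_iff he hv hc).2 ⟨hvc, hnvc⟩
    have h2 : hT.cl e hd ∈ perp (hT.qset e) (hT.cl e hv) :=
      mem_perp_of_mem_line (hT.cl_mem hv) h1 hdq hd1
    rw [h] at h1 h2
    exact hn ((hT.cl_commute_iff he hv hw).2 (hT.commute_line hv.1 hcv hdl
      (right_mem_line hv.1 hcv) hdc (left_mem_line hv.1 hcv) hw.1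
      ((hT.cl_commute_iff he hw hd).1 h2.2.2) ((hT.cl_commute_iff he hw hc).1 h1.2.2)))
  have h3 : Cfsg.pCore 3 ↥(hT.grp e) = ⊥ := by
    refine (Subgroup.eq_bot_iff_forall _).2 fun g hg => ?_
    have hgc : g ∈ Subgroup.center ↥(hT.grp e) := eq_top_of_mem_center hQ fun d hd => by
      have hd' := hQ.conj g d hd
      have hmem : d * (g * d * g⁻¹) ∈ Cfsg.pCore 3 ↥(hT.grp e) := by
        rw [show d * (g * d * g⁻¹) = (d * g * d⁻¹) * g⁻¹ by rw [hQ.toTSet.inv_eq hd]; group]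
        exact mul_mem (PCore.pCore_normal.conj_mem g hg d) (inv_mem hg)
      have he' := perp_eq_of_mul_mem hQ.toTSet hd hd' hmem
      by_cases hne : g * d * g⁻¹ = d
      · exact (mul_inv_eq_iff_eq_mul.1 hne).symm
      exfalso
      by_cases hc : Commute d (g * d * g⁻¹)
      · have : g * d * g⁻¹ ∈ perp (hT.qset e) d := ⟨hd', hne, hc⟩
        rw [he'] at this
        exact this.2.1 rfl
      · exact hperp d hd _ hd' hc he'
    rwa [hcen, Subgroup.mem_bot] at hgc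
  have h2 : Cfsg.pCore 2 ↥(hT.grp e) = ⊥ := by
    refine (Subgroup.eq_bot_iff_forall _).2 fun g hg => ?_
    have hgc : g ∈ Subgroup.center ↥(hT.grp e) := eq_top_of_mem_center hQ fun d hd => by
      have hd' := hQ.conj g d hd
      have hmem : d * (g * d * g⁻¹) ∈ Cfsg.pCore 2 ↥(hT.grp e) := by
        rw [show d * (g * d * g⁻¹) = (d * g * d⁻¹) * g⁻¹ by rw [hQ.toTSet.inv_eq hd]; group]
        exact mul_mem (PCore.pCore_normal.conj_mem g hg d) (inv_mem hg)
      have hs := sameComm_eq_iff.1 (sameComm_eq_of_mul_mem hQ.toTSet hd hd' hmem)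
      obtain ⟨v, hv, rfl⟩ := hd
      obtain ⟨v', hv', hvv⟩ := hd'
      have hmem' : v' ∈ line D e v := by
        refine ⟨hv'.1, fun c hc => ?_⟩
        by_cases hce : c = e
        · exact hce ▸ hv'.2.2.symm
        · have hcp : c ∈ perp D e := ⟨hc.1, hce, hc.2.1.symm⟩
          refine (hT.cl_commute_iff he hv' hcp).1 ?_
          rw [hvv]
          exact (hs _ (hT.cl_mem hcp)).2 ((hT.cl_commute_iff he hv hcp).2 hc.2.2.symm)
      rw [← (hT.cl_eq_iff he hv hv').2 hmem'] at hvv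
      exact (mul_inv_eq_iff_eq_mul.1 hvv.symm).symm
    rwa [hcen, Subgroup.mem_bot] at hgc
  refine ⟨hQ, fun N hN hNs _ => eq_bot_iff.2 ?_, hcen, ?_, hne, hnc, htw⟩
  · have := hN; have := hNs
    exact le_trans (solvable_le_center hQ hD2 (h2.le.trans bot_le) (h3.le.trans bot_le)) hcen.le
  · rintro _ ⟨v, hv, rfl⟩ _ ⟨w, hw, rfl⟩
    by_cases hvw : Commute v w
    · exact Relation.ReflTransGen.single ⟨hT.cl_mem hw, (hT.cl_commute_iff he hv hw).2 hvw⟩
    obtain ⟨r, hr, hrv, hrw⟩ := hT.exists_common_in_perp he hnt hv hw hvw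
    exact (Relation.ReflTransGen.single
      ⟨hT.cl_mem hr, (hT.cl_commute_iff he hv hr).2 hrv.symm⟩).tail
      ⟨hT.cl_mem hw, (hT.cl_commute_iff he hr hw).2 hrw⟩

end Thick

end Cfsg.Agent.Fischer.Polar
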