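import Cfsg.Agent.Lib.Fischer.Polar.Main

/-!
The members seeing everything that two non-commuting members see: only three.
-/

set_option autoImplicit false

namespace Cfsg.Agent.Fischer.Polar

open Cfsg Cfsg.Agent.Fischer.Solv

universe u

/-- Hyperbolic lines have three points. -/
def SpanThree {G : Type u} [Group G] (D : Set G) : Prop :=
  ∀ a ∈ D, ∀ b ∈ nbr D a, ∀ y ∈ nbr D a,
    (∀ d ∈ both D a b, Commute d y) → y = b ∨ y = a * b * a

variable {G : Type u} [Group G] [Finite G] {D : Set G}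

namespace Polar

variable (hP : Polar D)
include hP

theorem exists_not_commute_both {a b p : G} (ha : a ∈ D) (hb : b ∈ nbr D a)
    (hp : p ∈ both D a b) : ∃ q ∈ both D a b, ¬Commute p q := by
  have hpa : p ∈ perp D a := ⟨hp.1, fun h => hb.2 (h ▸ hp.2.2), hp.2.1.symm⟩
  obtain ⟨v, hv, hvp⟩ := hP.exists_nonCommute ha hpa
  obtain ⟨y, hy, hby⟩ := hP.one a ha v hv b hb.1
  have hya : y ≠ a := fun h => hb.2 (h ▸ hby).symm
  refine ⟨y, ⟨hy.1, line_commute_left ha hv hy, hby.symm⟩, fun h => hvp ?_⟩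
  exact ((hP.commute_iff_of_line ha hv hy hya hp.1 hp.2.1).2 h).symm

theorem eq_of_commute_sees {a b y : G} (ha : a ∈ D) (hb : b ∈ nbr D a) (hy : y ∈ D)
    (hW : ∀ d ∈ both D a b, Commute d y) (hby : Commute b y) : y = b := by
  by_contra hne
  have hyb : y ∈ perp D b := ⟨hy, hne, hby⟩
  obtain ⟨z, hz, haz⟩ := hP.one b hb.1 y hyb a ha
  have hzW : z ∈ both D a b := ⟨hz.1, haz.symm, line_commute_left hb.1 hyb hz⟩
  obtain ⟨q, hq, hn⟩ := hP.exists_not_commute_both ha hb hzW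
  exact hn (hz.2 q ⟨hq.1, hq.2.2, hW q hq⟩)

omit [Finite G] in
theorem both_third {a b : G} (ha : a ∈ D) (hb : b ∈ D) {d : G} :
    d ∈ both D a (a * b * a) ↔ d ∈ both D a b := by
  have key : Commute d a → (Commute d (a * b * a) ↔ Commute d b) := fun h =>
    ⟨fun k => ((hP.ts.commute_third_iff ha h.symm).1 k.symm).symm,
      fun k => ((hP.ts.commute_third_iff ha h.symm).2 k.symm).symm⟩
  have _ := hb
  exact ⟨fun h => ⟨h.1, h.2.1, (key h.2.1).1 h.2.2⟩, fun h => ⟨h.1, h.2.1, (key h.2.1).2 h.2.2⟩⟩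

theorem span_base (hnd : ∀ e ∈ D, ¬Deep D e) {a b y : G} (ha : a ∈ D) (hb : b ∈ nbr D a)
    (hy : y ∈ nbr D a) (hW : ∀ d ∈ both D a b, Commute d y) : y = b ∨ y = a * b * a := by
  classical
  by_contra hcon
  rw [not_or] at hcon
  obtain ⟨hyb, hyg⟩ := hcon
  have hQ := hP.toThick.gq hnd
  obtain ⟨s, n, hcase, hs, hn, hpc, hnc⟩ := hQ.params ha
  have hWp : ∀ u ∈ D, ∀ v ∈ nbr D u, both D u v = prj D u v := by
    intro u hu v hv
    ext d
    exact ⟨fun h => ⟨⟨h.1, fun k => hv.2 (k ▸ h.2.2), h.2.1.symm⟩, h.2.2⟩,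
      fun h => ⟨h.1.1, h.1.2.2.symm, h.2⟩⟩
  set W := both D a b with hWdef
  have hWcard : W.ncard = n := by rw [hWdef, hWp a ha b hb]; exact hn a ha b hb
  have hWnc : ∀ p ∈ W, ∀ q ∈ W, Commute p q → p = q := by
    intro p hp q hq h
    rw [hWdef, hWp a ha b hb] at hp hq
    exact hQ.prj_width_one ha hb hp hq h
  have hn3 : 3 ≤ n := by rcases hcase with ⟨-, h⟩ | ⟨-, h⟩ | ⟨-, h⟩ <;> omega
  obtain ⟨p0, q0, hp0, hq0, hpq0⟩ : ∃ p0 q0, p0 ∈ W ∧ q0 ∈ W ∧ p0 ≠ q0 :=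
    (Set.one_lt_ncard_iff (Set.toFinite _)).1 (by omega)
  set S : Set G := {k | k ∈ D ∧ ∀ d ∈ W, Commute d k}
  have hSw : ∀ k ∈ S, ∀ k' ∈ S, Commute k k' → k = k' := by
    intro k hk k' hk' h
    by_contra hne
    exact hpq0 (hWnc p0 hp0 q0 hq0 (hQ.clique k hk.1 k' ⟨hk'.1, Ne.symm hne, h⟩ p0 hp0.1 q0 hq0.1
      (hk.2 p0 hp0) (hk'.2 p0 hp0) (hk.2 q0 hq0) (hk'.2 q0 hq0)))
  have hScl : ∀ k ∈ S, ∀ k' ∈ S, k * k' * k ∈ S := fun k hk k' hk' =>
    ⟨hP.ts.conj_mem hk.1 hk'.1,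
      fun d hd => ((hk.2 d hd).mul_right (hk'.2 d hd)).mul_right (hk.2 d hd)⟩
  have haS : a ∈ S := ⟨ha, fun d hd => hd.2.1⟩
  have hbS : b ∈ S := ⟨hb.1, fun d hd => hd.2.2⟩
  obtain ⟨j, hj⟩ := ncard_eq_three_pow hP.ts (fun _ h => h.1) ⟨a, haS⟩ hSw hScl
  have h4 : 4 ≤ S.ncard := by
    have hg := hP.ts.third_ne ha hb.1 hb.2
    have e1 : ({a, b, a * b * a, y} : Set G).ncard = 4 := by
      rw [Set.ncard_insert_of_notMem _ (Set.toFinite _),
        Set.ncard_insert_of_notMem _ (Set.toFinite _), Set.ncard_pair (Ne.symm hyg)]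
      · simp only [Set.mem_insert_iff, Set.mem_singleton_iff]
        rintro (h | h)
        · exact hg.2 h.symm
        · exact hyb h.symm
      · simp only [Set.mem_insert_iff, Set.mem_singleton_iff]
        rintro (h | h | h)
        · exact hb.2 (h ▸ Commute.refl a)
        · exact hg.1 h.symm
        · exact hy.2 (h ▸ Commute.refl a)
    rw [← e1]
    refine Set.ncard_le_ncard ?_ (Set.toFinite _)
    simp only [Set.insert_subset_iff, Set.singleton_subset_iff]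
    exact ⟨haS, hbS, hScl a haS b hbS, hy.1, hW⟩
  have hSn : S.ncard ≤ n := by
    have hq : q0 ∈ nbr D p0 := ⟨hq0.1, fun h => hpq0 (hWnc p0 hp0 q0 hq0 h)⟩
    rw [← hn p0 hp0.1 q0 hq, ← hWp p0 hp0.1 q0 hq]
    exact Set.ncard_le_ncard (fun k hk => ⟨hk.1, (hk.2 p0 hp0).symm, (hk.2 q0 hq0).symm⟩)
      (Set.toFinite _)
  obtain ⟨rfl, rfl⟩ : s = 4 ∧ n = 9 := by
    rcases hcase with ⟨-, h⟩ | ⟨-, h⟩ | h
    · omega
    · omega
    · exact h
  have hS9 : S.ncard = 9 := by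
    rcases j with _ | _ | _ | j
    · rw [pow_zero] at hj; omega
    · rw [pow_one] at hj; omega
    · rw [hj]; norm_num
    · have : 0 < 3 ^ j := Nat.pow_pos (by norm_num)
      rw [pow_succ, pow_succ, pow_succ] at hj
      omega
  have hperpS : ∀ k ∈ S, ∀ k' ∈ S, k ≠ k' → both D k k' = W := by
    intro k hk k' hk' hne
    have hnk : k' ∈ nbr D k := ⟨hk'.1, fun h => hne (hSw k hk k' hk' h)⟩
    have hsub : W ⊆ both D k k' := fun d hd => ⟨hd.1, hk.2 d hd, hk'.2 d hd⟩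
    refine (Set.eq_of_subset_of_ncard_le hsub ?_ (Set.toFinite _)).symm
    rw [hWp k hk.1 k' hnk, hn k hk.1 k' hnk, hWcard]
  have hperpW : ∀ p ∈ W, ∀ q ∈ W, p ≠ q → both D p q = S := by
    intro p hp q hq hne
    have hq' : q ∈ nbr D p := ⟨hq.1, fun h => hne (hWnc p hp q hq h)⟩
    have hsub : S ⊆ both D p q := fun k hk => ⟨hk.1, (hk.2 p hp).symm, (hk.2 q hq).symm⟩
    refine (Set.eq_of_subset_of_ncard_le hsub ?_ (Set.toFinite _)).symm
    rw [hWp p hp.1 q hq', hn p hp.1 q hq', hS9]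
  have hne : ∀ k ∈ S, ∀ p ∈ W, p ∈ perp D k := fun k hk p hp => ⟨hp.1, fun h => by
    obtain ⟨p', hp', hn'⟩ := hP.exists_not_commute_both ha hb hp
    exact hn' (h ▸ (hk.2 p' hp').symm), (hk.2 p hp).symm⟩
  let F : G × G → Finset G := fun kp =>
    (Set.toFinite (line D kp.1 kp.2 \ {kp.1, kp.2})).toFinset
  let I : Finset (G × G) := (Set.toFinite S).toFinset ×ˢ (Set.toFinite W).toFinset
  have hI : ∀ kp ∈ I, kp.1 ∈ S ∧ kp.2 ∈ W := fun kp h => by
    simpa [I, Finset.mem_product] using h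
  have hdisj : ∀ kp ∈ I, ∀ kp' ∈ I, kp ≠ kp' → Disjoint (F kp) (F kp') := by
    rintro ⟨k, p⟩ h ⟨k', p'⟩ h' hne'
    obtain ⟨hk, hp⟩ := hI _ h
    obtain ⟨hk', hp'⟩ := hI _ h'
    rw [Finset.disjoint_left]
    intro c hc hc'
    simp only [F, Set.Finite.mem_toFinset, Set.mem_sdiff, Set.mem_insert_iff,
      Set.mem_singleton_iff, not_or] at hc hc'
    obtain ⟨hc, hck, hcp⟩ := hc
    obtain ⟨hc', hck', hcp'⟩ := hc'
    have c1 := line_commute_left hk.1 (hne k hk p hp) hc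
    have c2 := line_commute_right hk.1 (hne k hk p hp) hc
    by_cases hkk : k = k'
    · subst hkk
      have hpp : p ≠ p' := fun e => hne' (by rw [e])
      have hcS : c ∈ S := by
        rw [← hperpW p hp p' hp' hpp]
        exact ⟨hc.1, c2, line_commute_right hk'.1 (hne _ hk p' hp') hc'⟩
      exact hck (hSw c hcS k hk c1)
    · have hcW : c ∈ W := by
        rw [← hperpS k hk k' hk' hkk]
        exact ⟨hc.1, c1, line_commute_left hk'.1 (hne k' hk' p' hp') hc'⟩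
      exact hcp (hWnc c hcW p hp c2)
  have hcard : ∀ kp ∈ I, (F kp).card = 3 := by
    rintro ⟨k, p⟩ h
    obtain ⟨hk, hp⟩ := hI _ h
    show (Set.toFinite (line D k p \ {k, p})).toFinset.card = 3
    rw [← Set.ncard_eq_toFinset_card, Set.ncard_sdiff (by
        simp [Set.insert_subset_iff, left_mem_line hk.1 (hne k hk p hp),
          right_mem_line hk.1 (hne k hk p hp)]) (Set.toFinite _),
      Set.ncard_pair (Ne.symm (hne k hk p hp).2.1),
      hP.toThick.blk_eq hnd hk.1 (hne k hk p hp),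
      Set.ncard_insert_of_notMem (fun q => q.1.2.1 rfl) (Set.toFinite _),
      hs k hk.1 p (hne k hk p hp)]
  have hD : D.ncard ≤ 165 := by
    have hsub : D ⊆ insert a (perp D a ∪ nbr D a) := fun d hd => by
      by_cases h : d = a
      · exact Or.inl h
      by_cases hc : Commute a d
      · exact Or.inr (Or.inl ⟨hd, h, hc⟩)
      · exact Or.inr (Or.inr ⟨hd, hc⟩)
    refine (Set.ncard_le_ncard hsub (Set.toFinite _)).trans ((Set.ncard_insert_le _ _).trans ?_)
    have := Set.ncard_union_le (perp D a) (nbr D a)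
    rw [hpc a ha, hnc a ha] at this
    omega
  have hle : (I.biUnion F).card ≤ D.ncard := by
    rw [← Set.ncard_coe_finset]
    refine Set.ncard_le_ncard (fun c hc => ?_) (Set.toFinite _)
    simp only [Finset.mem_coe, Finset.mem_biUnion, F, Set.Finite.mem_toFinset] at hc
    obtain ⟨kp, -, h, -⟩ := hc
    exact h.1
  rw [Finset.card_biUnion hdisj, Finset.sum_eq_card_nsmul hcard, smul_eq_mul,
    Finset.card_product, ← Set.ncard_eq_toFinset_card, ← Set.ncard_eq_toFinset_card, hS9,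
    hWcard] at hle
  omega

theorem span_step (IH : ∀ e ∈ D, Deep D e → SpanThree (hP.toThick.qset e)) : SpanThree D := by
  intro a ha b hb y hy hW
  by_cases hdeep : ∃ e ∈ D, Deep D e
  swap
  · push Not at hdeep
    exact hP.span_base hdeep ha hb hy hW
  obtain ⟨e0, he0, hd0⟩ := hdeep
  obtain ⟨p, hpa, hpb⟩ := hP.prj_nonempty ha hb
  have hp : p ∈ both D a b := ⟨hpa.1, hpa.2.2.symm, hpb⟩
  have hd := hP.toThick.deep_of_deep he0 hp.1 hd0
  have hap : a ∈ perp D p := perp_symm ha hpa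
  have hbp : b ∈ perp D p := ⟨hb.1, fun h => hb.2 (h ▸ hpa.2.2), hpb⟩
  have hyp : y ∈ perp D p := ⟨hy.1, fun h => hy.2 (h ▸ hpa.2.2), hW p hp⟩
  have hgp : a * b * a ∈ perp D p := hP.toThick.perp_conj_mem hap hbp
  have hab : hP.toThick.cl p hbp ∈ nbr (hP.toThick.qset p) (hP.toThick.cl p hap) :=
    ⟨hP.toThick.cl_mem hbp, fun h => hb.2 ((hP.toThick.cl_commute_iff hp.1 hap hbp).1 h)⟩
  have hay : hP.toThick.cl p hyp ∈ nbr (hP.toThick.qset p) (hP.toThick.cl p hap) :=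
    ⟨hP.toThick.cl_mem hyp, fun h => hy.2 ((hP.toThick.cl_commute_iff hp.1 hap hyp).1 h)⟩
  have key := IH p hp.1 hd _ (hP.toThick.cl_mem hap) _ hab _ hay ?_
  · rcases key with h | h
    · have := (hP.toThick.cl_eq_iff hp.1 hbp hyp).1 h.symm
      exact Or.inl (hP.eq_of_commute_sees ha hb hy.1 hW (line_commute_right hp.1 hbp this).symm)
    · rw [← hP.toThick.cl_conj hap hbp] at h
      have := (hP.toThick.cl_eq_iff hp.1 hgp hyp).1 h.symm
      have hg : a * b * a ∈ nbr D a := ⟨hP.ts.conj_mem ha hb.1,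
        fun k => (hP.ts.not_commute_third ha hb.1 hb.2).1 k.symm⟩
      exact Or.inr (hP.eq_of_commute_sees ha hg hy.1
        (fun d hd => hW d ((hP.both_third ha hb.1).1 hd))
        (line_commute_right hp.1 hgp this).symm)
  · rintro z ⟨⟨d, hd, rfl⟩, h1, h2⟩
    exact (hP.toThick.cl_commute_iff hp.1 hd hyp).2 (hW d ⟨hd.1,
      (hP.toThick.cl_commute_iff hp.1 hd hap).1 h1, (hP.toThick.cl_commute_iff hp.1 hd hbp).1 h2⟩)

end Polar

theorem span_aux : ∀ (n : ℕ) (G : Type u) [Group G] [Finite G] (D : Set G),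
    Polar D → Nat.card G = n → SpanThree D := by
  intro n
  induction n using Nat.strong_induction_on with
  | _ n ih =>
    intro G _ _ D hP hn
    exact hP.span_step fun e he hd =>
      ih _ (hn ▸ hP.toThick.card_grp_lt he) _ _ (hP.toThick.qthick he hd).polar rfl

theorem Polar.span (hP : Polar D) : SpanThree D := span_aux _ G D hP rfl

end Cfsg.Agent.Fischer.Polar
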