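import Cfsg.Agent.Lib.Fischer.Polar.Symplectic

/-!
The commuting vectors span a symplectic space on which the class acts as the transvections.
-/

set_option autoImplicit false

namespace Cfsg.Agent.Fischer.Polar

open Cfsg Cfsg.Agent.ClassicalSimple

universe u

variable {G : Type u} [Group G] [Finite G] {D : Set G}

namespace Polar

variable (hP : Polar D) (h3 : ∀ x ∈ D, ∀ b ∈ perp D x, (line D x b).ncard = 3)
include hP h3

theorem symplectic_iso : ∃ n : ℕ, Nonempty (G ≃* Matrix.symplecticGroup (Fin n) (ZMod 2)) := by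
  classical
  let Φ : ↥D → ↥D → ZMod 2 := fun a => phi D (a : G)
  let V : Submodule (ZMod 2) (↥D → ZMod 2) := Submodule.span (ZMod 2) (Set.range Φ)
  have hsymm : ∀ a b : ↥D, Φ a b = Φ b a := fun a b =>
    if_congr ⟨Commute.symm, Commute.symm⟩ rfl rfl
  have hself : ∀ a : ↥D, Φ a a = 0 := fun a => if_pos (Commute.refl _)
  have z2 : ∀ x : ZMod 2, x + x = 0 := by decide
  have hadd : ∀ v : ↥D → ZMod 2, v + v = 0 := fun v => funext fun d => z2 (v d)
  have hmem : ∀ v ∈ V, v = 0 ∨ ∃ a, v = Φ a := by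
    intro v hv
    induction hv using Submodule.span_induction with
    | mem x hx => obtain ⟨a, rfl⟩ := hx; exact Or.inr ⟨a, rfl⟩
    | zero => exact Or.inl rfl
    | add x y _ _ hx hy =>
      rcases hx with rfl | ⟨a, rfl⟩
      · rwa [zero_add]
      rcases hy with rfl | ⟨b, rfl⟩
      · rw [add_zero]; exact Or.inr ⟨a, rfl⟩
      by_cases hab : a = b
      · subst hab; exact Or.inl (hadd _)
      · obtain ⟨c, hc, h, -⟩ := hP.phi_add h3 a.2 b.2 (fun k => hab (Subtype.ext k))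
        exact Or.inr ⟨⟨c, hc⟩, h.symm⟩
    | smul r x _ hx =>
      rcases (show r = 0 ∨ r = 1 from by revert r; decide) with rfl | rfl
      · exact Or.inl (zero_smul _ _)
      · rwa [one_smul]
  have hΦ : ∀ a, Φ a ∈ V := fun a => Submodule.subset_span ⟨a, rfl⟩
  let pick : ↥V → Option ↥D := fun v => if h : ∃ a, (v : ↥D → ZMod 2) = Φ a then some h.choose else none
  let val : ↥V → ↥V → ZMod 2 := fun v w => ((pick w).map fun a => (v : ↥D → ZMod 2) a).getD 0
  have hval : ∀ (v : ↥V) (a : ↥D), val v ⟨Φ a, hΦ a⟩ = (v : ↥D → ZMod 2) a := by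
    intro v a
    have hex : ∃ b, Φ a = Φ b := ⟨a, rfl⟩
    have hp : pick ⟨Φ a, hΦ a⟩ = some a := by
      simp only [pick]
      rw [dif_pos hex]
      exact congrArg some (Subtype.ext (hP.phi_inj hex.choose.2 a.2 hex.choose_spec.symm))
    simp [val, hp]
  have hzero : ∀ v : ↥V, val v 0 = 0 := by
    intro v
    simp only [val, pick]
    split
    · rename_i h
      have hv := v.2
      rcases hmem _ hv with e | ⟨b, e⟩
      · simp [e]
      · simp only [Option.map_some, Option.getD_some, e]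
        rw [hsymm]
        exact (congrFun h.choose_spec.symm b).trans rfl
    · rfl
  have hvr : ∀ (a : ↥D) (w : ↥V), val ⟨Φ a, hΦ a⟩ w = (w : ↥D → ZMod 2) a := by
    intro a w
    rcases hmem _ w.2 with e | ⟨b, e⟩
    · rw [show w = 0 from Subtype.ext e, hzero]; rfl
    · rw [show w = ⟨Φ b, hΦ b⟩ from Subtype.ext e, hval]
      exact hsymm a b
  have hvz : ∀ w : ↥V, val 0 w = 0 := by
    intro w
    rcases hmem _ w.2 with e | ⟨b, e⟩
    · rw [show w = 0 from Subtype.ext e, hzero]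
    · rw [show w = ⟨Φ b, hΦ b⟩ from Subtype.ext e, hval]; rfl
  have haddr : ∀ v w w' : ↥V, val v (w + w') = val v w + val v w' := by
    intro v w w'
    rcases hmem _ v.2 with e | ⟨a, e⟩
    · rw [show v = 0 from Subtype.ext e, hvz, hvz, hvz, add_zero]
    · rw [show v = ⟨Φ a, hΦ a⟩ from Subtype.ext e, hvr, hvr, hvr]; rfl
  have haddl : ∀ v v' w : ↥V, val (v + v') w = val v w + val v' w := by
    intro v v' w
    rcases hmem _ w.2 with e | ⟨b, e⟩
    · rw [show w = 0 from Subtype.ext e, hzero, hzero, hzero, add_zero]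
    · rw [show w = ⟨Φ b, hΦ b⟩ from Subtype.ext e, hval, hval, hval]; rfl
  let B : LinearMap.BilinForm (ZMod 2) ↥V := LinearMap.mk₂ (ZMod 2) val haddl
    (fun c v w => by
      rcases (show c = 0 ∨ c = 1 from by revert c; decide) with rfl | rfl
      · simp [hvz]
      · simp)
    haddr
    (fun c v w => by
      rcases (show c = 0 ∨ c = 1 from by revert c; decide) with rfl | rfl
      · simp [hzero]
      · simp)
  have hA : B.IsAlt := fun v => by
    rcases hmem _ v.2 with e | ⟨b, e⟩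
    · rw [show v = 0 from Subtype.ext e]; simp
    · rw [show v = ⟨Φ b, hΦ b⟩ from Subtype.ext e]
      exact (hval _ b).trans (hself b)
  obtain ⟨m, k, e, he⟩ := Forms.exists_alt_coords B hA
  have hk : k = 0 := by
    by_contra hk
    let i : Fin k := ⟨0, Nat.pos_of_ne_zero hk⟩
    set r : ↥V := e.symm (Pi.single (Sum.inr i) 1)
    have hr : ∀ w, B r w = 0 := fun w => by
      rw [he, show (fun j => e r (Sum.inl j)) = 0 from funext fun j => by simp [r]]
      simp [sympForm]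
    have h0 : r = 0 := Subtype.ext (funext fun d => (hval r d).symm.trans (hr _))
    have := congrFun (congrArg e h0) (Sum.inr i)
    simp [r] at this
  subst hk
  let e' : ↥V ≃ₗ[ZMod 2] (Fin m ⊕ Fin m → ZMod 2) :=
    e.trans (LinearEquiv.funCongrLeft (ZMod 2) (ZMod 2) (Equiv.sumEmpty (Fin m ⊕ Fin m) (Fin 0)).symm)
  have hneg : ∀ x : ZMod 2, -x = x := by decide
  have he' : ∀ v w, B v w = sympBilin m (ZMod 2) (e' v) (e' w) := fun v w => by
    rw [← LinearMap.IsAlt.neg (sympBilin_isAlt (m := m) (F := ZMod 2)), hneg, sympBilin_apply, he]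
    rfl
  let σ : G → ↥D → ↥D := fun g d => ⟨g⁻¹ * d.1 * g, by
    simpa using hP.toTClass.conj g⁻¹ _ d.2⟩
  have hσΦ : ∀ g a, LinearMap.funLeft (ZMod 2) (ZMod 2) (σ g) (Φ a) =
      Φ ⟨g * a.1 * g⁻¹, hP.toTClass.conj g _ a.2⟩ := by
    intro g a
    funext d
    show (if Commute (a : G) (g⁻¹ * d.1 * g) then (0 : ZMod 2) else 1) =
      if Commute (g * a.1 * g⁻¹) d.1 then 0 else 1
    refine if_congr ⟨fun h => ?_, fun h => ?_⟩ rfl rfl
    · simpa [mul_assoc] using h.conj g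
    · simpa [mul_assoc] using h.conj g⁻¹
  have hσV : ∀ g, ∀ v ∈ V, LinearMap.funLeft (ZMod 2) (ZMod 2) (σ g) v ∈ V := by
    intro g v hv
    rcases hmem v hv with rfl | ⟨a, rfl⟩
    · rw [map_zero]; exact zero_mem _
    · rw [hσΦ]; exact hΦ _
  let L : G → ↥V →ₗ[ZMod 2] ↥V := fun g =>
    (LinearMap.funLeft (ZMod 2) (ZMod 2) (σ g)).restrict (hσV g)
  have hL : ∀ g a, L g ⟨Φ a, hΦ a⟩ = ⟨Φ ⟨g * a.1 * g⁻¹, hP.toTClass.conj g _ a.2⟩, hΦ _⟩ :=
    fun g a => Subtype.ext (hσΦ g a)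
  have hL1 : ∀ v, L 1 v = v := fun v => Subtype.ext (funext fun d => by
    show (v : ↥D → ZMod 2) (σ 1 d) = (v : ↥D → ZMod 2) d
    exact congrArg (v : ↥D → ZMod 2) (a₁ := σ 1 d) (a₂ := d) (Subtype.ext (show (1 : G)⁻¹ * d.1 * 1 = d.1 by group)))
  have hLm : ∀ g g' v, L (g * g') v = L g (L g' v) := fun g g' v => Subtype.ext (funext fun d => by
    show (v : ↥D → ZMod 2) (σ (g * g') d) = (v : ↥D → ZMod 2) (σ g' (σ g d))
    exact congrArg (v : ↥D → ZMod 2) (a₁ := σ (g * g') d) (a₂ := σ g' (σ g d)) (Subtype.ext (show (g * g')⁻¹ * d.1 * (g * g') = g'⁻¹ * (g⁻¹ * d.1 * g) * g' by group)))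
  have hLB : ∀ g v w, B (L g v) (L g w) = B v w := by
    intro g v w
    rcases hmem _ v.2 with ev | ⟨a, ev⟩
    · simp [show v = 0 from Subtype.ext ev]
    rcases hmem _ w.2 with ew | ⟨b, ew⟩
    · simp [show w = 0 from Subtype.ext ew]
    rw [show v = ⟨Φ a, hΦ a⟩ from Subtype.ext ev, show w = ⟨Φ b, hΦ b⟩ from Subtype.ext ew, hL, hL]
    show val _ _ = val _ _
    rw [hval, hval]
    exact if_congr (Commute.conj_iff g) rfl rfl
  have hLi : ∀ g v, L g (L g⁻¹ v) = v := fun g v => by rw [← hLm, mul_inv_cancel, hL1]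
  have hLi' : ∀ g v, L g⁻¹ (L g v) = v := fun g v => by rw [← hLm, inv_mul_cancel, hL1]
  let T : G → SpB (sympBilin m (ZMod 2)) := fun g =>
    ⟨e'.symm.trans ((LinearEquiv.ofLinearMap (L g) (L g⁻¹)
        (LinearMap.ext (hLi g)) (LinearMap.ext (hLi' g)) : ↥V ≃ₗ[ZMod 2] ↥V).trans e'),
      fun x y => by
        show sympBilin m (ZMod 2) (e' (L g (e'.symm x))) (e' (L g (e'.symm y))) = _
        rw [← he', hLB, he', LinearEquiv.apply_symm_apply, LinearEquiv.apply_symm_apply]⟩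
  let ψ : G →* SpB (sympBilin m (ZMod 2)) := MonoidHom.mk' T fun g g' => SpB.ext' fun x => by
    show e' (L (g * g') (e'.symm x)) = e' (L g (e'.symm (e' (L g' (e'.symm x)))))
    rw [LinearEquiv.symm_apply_apply, hLm]
  have hψ : ∀ d : ↥D, ψ d.1 = spTransv sympBilin_isAlt (e' ⟨Φ d, hΦ d⟩) 1 := by
    intro d
    refine SpB.ext' fun x => ?_
    show e' (L d.1 (e'.symm x)) = _
    rw [spTransv_smul, one_mul, ← e'.apply_symm_apply x, ← he', ← map_smul, ← map_add,
      e'.apply_symm_apply]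
    congr 1
    generalize e'.symm x = v
    rcases hmem _ v.2 with ev | ⟨a, ev⟩
    · simp [show v = 0 from Subtype.ext ev]
    rw [show v = ⟨Φ a, hΦ a⟩ from Subtype.ext ev, hL]
    refine Subtype.ext (funext fun z => ?_)
    show Φ ⟨d.1 * a.1 * d.1⁻¹, _⟩ z = Φ a z + val ⟨Φ a, hΦ a⟩ ⟨Φ d, hΦ d⟩ * Φ d z
    rw [hval]
    show Φ ⟨d.1 * a.1 * d.1⁻¹, _⟩ z = Φ a z + Φ a d * Φ d z
    by_cases hc : Commute (d : G) (a : G)
    · rw [show Φ a d = 0 from if_pos hc.symm, zero_mul, add_zero]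
      show phi D (d.1 * a.1 * d.1⁻¹) z = phi D a.1 z
      rw [hc.eq, mul_inv_cancel_right]
    · rw [show Φ a d = 1 from if_neg (fun k => hc k.symm), one_mul]
      have hda : (d : G) ≠ a := fun k => hc (k ▸ Commute.refl _)
      obtain ⟨c, hcD, h1, h2⟩ := hP.phi_add h3 d.2 a.2 hda
      have := congrFun h1 z
      rw [Pi.add_apply] at this
      show phi D (d.1 * a.1 * d.1⁻¹) z = _
      rw [hP.ts.inv_eq d.2, ← h2 hc, this, add_comm]
  have hinj : Function.Injective ψ := by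
    rw [injective_iff_map_eq_one]
    intro g hg
    rw [← Subgroup.mem_bot, ← hP.center]
    refine eq_top_of_mem_center hP.toTClass fun d hd => ?_
    have h1 : L g ⟨Φ ⟨d, hd⟩, hΦ _⟩ = ⟨Φ ⟨d, hd⟩, hΦ _⟩ := by
      have := congrArg (fun T : SpB (sympBilin m (ZMod 2)) => T • e' ⟨Φ ⟨d, hd⟩, hΦ _⟩) hg
      simp only [one_smul] at this
      have h' : e' (L g (e'.symm (e' ⟨Φ ⟨d, hd⟩, hΦ _⟩))) = e' ⟨Φ ⟨d, hd⟩, hΦ _⟩ := this
      rw [LinearEquiv.symm_apply_apply] at h'
      exact e'.injective h'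
    rw [hL] at h1
    exact (mul_inv_eq_iff_eq_mul.1
      (hP.phi_inj (hP.toTClass.conj g d hd) hd (congrArg Subtype.val h1))).symm
  have hsurj : Function.Surjective ψ := by
    have hN := sympBilin_nondegenerate (m := m) (F := ZMod 2)
    rw [← MonoidHom.range_eq_top, eq_top_iff, ← transvGroup_eq_top sympBilin_isAlt hN,
      spTransvGroup, Subgroup.closure_le]
    rintro _ ⟨⟨w, c⟩, rfl⟩
    rcases (show c = 0 ∨ c = 1 from by revert c; decide) with rfl | rfl
    · exact ⟨1, (map_one ψ).trans (spTransv_zero _ w).symm⟩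
    rcases hmem _ (e'.symm w).2 with ew | ⟨a, ew⟩
    · refine ⟨1, ?_⟩
      have hw : w = 0 := by
        rw [← e'.apply_symm_apply w, show e'.symm w = 0 from Subtype.ext ew, map_zero]
      rw [map_one, hw]
      exact SpB.ext' fun x => by simp
    · refine ⟨a.1, ?_⟩
      rw [hψ, show (⟨Φ a, hΦ a⟩ : ↥V) = e'.symm w from Subtype.ext ew.symm,
        e'.apply_symm_apply]
  exact ⟨m, ⟨(MulEquiv.ofBijective ψ ⟨hinj, hsurj⟩).trans symplecticEquiv.symm⟩⟩

end Polar

end Cfsg.Agent.Fischer.Polar
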