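import Cfsg.Agent.Lib.Fischer.Polar.Span
import Cfsg.Agent.Lib.ClassicalSimple.SympMatrix
import Cfsg.Agent.Lib.Forms.Classify

/-!
Three points on every line: the group is a symplectic group over the field with two elements.
-/

set_option autoImplicit false

namespace Cfsg.Agent.Fischer.Polar

open Cfsg Cfsg.Agent.Fischer.Solv

universe u

/-- No member misses all three members of a hyperbolic line. -/
def NoAffine {G : Type u} [Group G] (D : Set G) : Prop :=
  ∀ a ∈ D, ∀ b ∈ nbr D a, ∀ x ∈ D, ¬Commute x a → ¬Commute x b → Commute x (a * b * a)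

variable {G : Type u} [Group G] [Finite G] {D : Set G}

namespace Polar

variable (hP : Polar D) (h3 : ∀ x ∈ D, ∀ b ∈ perp D x, (line D x b).ncard = 3)
include hP h3

theorem noAffine_base (hnd : ∀ e ∈ D, ¬Deep D e) {a b x : G} (ha : a ∈ D) (hb : b ∈ nbr D a)
    (hx : x ∈ D) (hxa : ¬Commute x a) (hxb : ¬Commute x b) : Commute x (a * b * a) := by
  classical
  by_contra hxg
  have hQ := hP.toThick.gq hnd
  obtain ⟨s, n, hcase, hs, hn, hpc, -⟩ := hQ.params ha
  set g := a * b * a with hgdef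
  have hg : g ∈ D := hP.ts.conj_mem ha hb.1
  have hga := hP.ts.not_commute_third ha hb.1 hb.2
  obtain ⟨p, hpa, hpb⟩ := hP.prj_nonempty ha hb
  obtain ⟨rfl, rfl⟩ : s = 2 ∧ n = 3 := by
    have h := h3 a ha p hpa
    rw [hP.toThick.blk_eq hnd ha hpa, Set.ncard_insert_of_notMem (fun k => k.1.2.1 rfl)
      (Set.toFinite _), hs a ha p hpa] at h
    rcases hcase with h' | ⟨rfl, -⟩ | ⟨rfl, -⟩
    · exact h'
    · omega
    · omega
  have hWp : ∀ u ∈ D, ∀ v ∈ nbr D u, (both D u v).ncard = 3 := by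
    intro u hu v hv
    rw [show both D u v = prj D u v from Set.ext fun d =>
      ⟨fun h => ⟨⟨h.1, fun k => hv.2 (k ▸ h.2.2), h.2.1.symm⟩, h.2.2⟩,
        fun h => ⟨h.1.1, h.1.2.2.symm, h.2⟩⟩]
    exact hn u hu v hv
  set W := both D a b with hW
  have hWnc : ∀ u ∈ W, ∀ v ∈ W, Commute u v → u = v := fun u hu v hv h =>
    hQ.prj_width_one ha hb ⟨⟨hu.1, fun k => hb.2 (k ▸ hu.2.2), hu.2.1.symm⟩, hu.2.2⟩
      ⟨⟨hv.1, fun k => hb.2 (k ▸ hv.2.2), hv.2.1.symm⟩, hv.2.2⟩ h
  set S : Set G := {a, b, g}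
  have hS : ∀ k ∈ S, k ∈ D ∧ ¬Commute x k ∧ ∀ u ∈ W, u ∈ perp D k := by
    intro k hk
    simp only [S, Set.mem_insert_iff, Set.mem_singleton_iff] at hk
    have hne : ∀ u ∈ W, u ≠ a ∧ u ≠ b := fun u hu =>
      ⟨fun h => hb.2 (h ▸ hu.2.2), fun h => hb.2 (h ▸ hu.2.1).symm⟩
    rcases hk with rfl | rfl | rfl
    · exact ⟨ha, hxa, fun u hu => ⟨hu.1, (hne u hu).1, hu.2.1.symm⟩⟩
    · exact ⟨hb.1, hxb, fun u hu => ⟨hu.1, (hne u hu).2, hu.2.2.symm⟩⟩
    · exact ⟨hg, hxg, fun u hu => ⟨hu.1, fun h => hga.1 (by rw [← hgdef, ← h]; exact hu.2.1),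
        ((hu.2.1.mul_right hu.2.2).mul_right hu.2.1).symm⟩⟩
  have hSnc : ∀ k ∈ S, ∀ l ∈ S, k ≠ l → l ∈ nbr D k := by
    intro k hk l hl hne
    refine ⟨(hS l hl).1, ?_⟩
    simp only [S, Set.mem_insert_iff, Set.mem_singleton_iff] at hk hl
    rcases hk with rfl | rfl | rfl <;> rcases hl with rfl | rfl | rfl
    all_goals first
      | exact absurd rfl hne
      | exact hb.2
      | exact fun h => hb.2 h.symm
      | exact hga.1
      | exact fun h => hga.1 h.symm
      | exact hga.2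
      | exact fun h => hga.2 h.symm
  have hxW : ∀ u ∈ W, ¬Commute x u := by
    intro u hu hxu
    have hxp : x ∈ perp D u := ⟨hx, fun h => hxa (h ▸ hu.2.1), hxu.symm⟩
    have hsub : ∀ k ∈ S, line D u k \ {u} ⊆ perp D u := fun k hk e he =>
      mem_perp_of_mem_line hu.1 (perp_symm (hS k hk).1 ((hS k hk).2.2 u hu)) he.1 he.2
    have h6 : (perp D u).ncard = 6 := by rw [hpc u hu.1]
    obtain ⟨k, hk, hxk⟩ : ∃ k ∈ S, x ∈ line D u k := by
      by_contra hcon
      push Not at hcon
      have hd : ∀ k ∈ S, ∀ l ∈ S, k ≠ l → Disjoint (line D u k \ {u}) (line D u l \ {u}) := by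
        intro k hk l hl hne
        rw [Set.disjoint_left]
        intro e he he'
        have hup := perp_symm (hS k hk).1 ((hS k hk).2.2 u hu)
        have hup' := perp_symm (hS l hl).1 ((hS l hl).2.2 u hu)
        have h1 := hP.line_eq_left hu.1 hup he.1 he.2
        rw [hP.line_eq_left hu.1 hup' he'.1 he'.2] at h1
        exact (hSnc k hk l hl hne).2
          (line_commute_right hu.1 hup' (h1 ▸ right_mem_line hu.1 hup)).symm.symm
      have hc2 : ∀ k ∈ S, (line D u k \ {u}).ncard = 2 := fun k hk => by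
        have hup := perp_symm (hS k hk).1 ((hS k hk).2.2 u hu)
        rw [Set.ncard_sdiff_singleton_of_mem (left_mem_line hu.1 hup), h3 u hu.1 k hup]
      have haS : a ∈ S := Or.inl rfl
      have hbS : b ∈ S := Or.inr (Or.inl rfl)
      have hgS : g ∈ S := Or.inr (Or.inr rfl)
      have hab : a ≠ b := fun h => hb.2 (h ▸ Commute.refl a)
      have hag : a ≠ g := fun h => hga.1 (by rw [← hgdef, ← h])
      have hbg : b ≠ g := fun h => hga.2 (by rw [← hgdef, ← h])
      have heq : (line D u a \ {u} ∪ (line D u b \ {u}) ∪ (line D u g \ {u})) = perp D u := by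
        refine Set.eq_of_subset_of_ncard_le
          (Set.union_subset (Set.union_subset (hsub a haS) (hsub b hbS)) (hsub g hgS)) ?_
          (Set.toFinite _)
        rw [Set.ncard_union_eq (Set.disjoint_union_left.2
            ⟨hd a haS g hgS hag, hd b hbS g hgS hbg⟩) (Set.toFinite _) (Set.toFinite _),
          Set.ncard_union_eq (hd a haS b hbS hab) (Set.toFinite _) (Set.toFinite _),
          hc2 a haS, hc2 b hbS, hc2 g hgS, h6]
      rw [← heq] at hxp
      rcases hxp with (h | h) | h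
      · exact hcon a haS h.1
      · exact hcon b hbS h.1
      · exact hcon g hgS h.1
    exact (hS k hk).2.1 (line_commute_right hu.1 (perp_symm (hS k hk).1 ((hS k hk).2.2 u hu)) hxk)
  have hpt : ∀ kp : S × W, ∃ y ∈ line D (kp.1 : G) kp.2, Commute x y := fun kp =>
    hP.one _ (hS _ kp.1.2).1 _ ((hS _ kp.1.2).2.2 _ kp.2.2) x hx
  choose f hf hfx using hpt
  have hfne : ∀ kp, f kp ≠ (kp.1 : G) ∧ f kp ≠ (kp.2 : G) := fun kp =>
    ⟨fun h => (hS _ kp.1.2).2.1 (h ▸ hfx kp), fun h => hxW _ kp.2.2 (h ▸ hfx kp)⟩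
  have hinj : Function.Injective f := by
    rintro ⟨k, u⟩ ⟨l, v⟩ h
    have hku := (hS _ k.2).2.2 _ u.2
    have hlv := (hS _ l.2).2.2 _ v.2
    have c1 := line_commute_left (hS _ k.2).1 hku (hf (k, u))
    have c2 := line_commute_right (hS _ k.2).1 hku (hf (k, u))
    have hd := (hf (k, u)).1
    have d1 := h ▸ line_commute_left (hS _ l.2).1 hlv (hf (l, v))
    have d2 := h ▸ line_commute_right (hS _ l.2).1 hlv (hf (l, v))
    by_cases hkl : (k : G) = l
    · by_cases huv : (u : G) = v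
      · exact Prod.ext (Subtype.ext hkl) (Subtype.ext huv)
      exfalso
      have e : S = both D (u : G) v := by
        refine Set.eq_of_subset_of_ncard_le (fun m hm => ⟨(hS m hm).1,
          ((hS m hm).2.2 _ u.2).2.2, ((hS m hm).2.2 _ v.2).2.2⟩) ?_ (Set.toFinite _)
        rw [hWp _ u.2.1 _ ⟨v.2.1, fun k => huv (hWnc _ u.2 _ v.2 k)⟩]
        have hag : a ≠ g := fun h => hga.1 (by rw [← hgdef, ← h])
        have hbg : b ≠ g := fun h => hga.2 (by rw [← hgdef, ← h])
        rw [show S = {a, b, g} from rfl, Set.ncard_insert_of_notMem (by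
          simp only [Set.mem_insert_iff, Set.mem_singleton_iff, not_or]
          exact ⟨fun h => hb.2 (h ▸ Commute.refl a), hag⟩) (Set.toFinite _), Set.ncard_pair hbg]
      have hmem : f (k, u) ∈ S := (Set.ext_iff.1 e _).2 ⟨hd, c2, d2⟩
      exact (hS _ hmem).2.1 (hfx (k, u))
    · exfalso
      have hl := hSnc _ k.2 _ l.2 hkl
      have e : W = both D (k : G) l :=
        Set.eq_of_subset_of_ncard_le (fun d hd => ⟨hd.1, ((hS _ k.2).2.2 d hd).2.2.symm,
          ((hS _ l.2).2.2 d hd).2.2.symm⟩) (by rw [hWp _ (hS _ k.2).1 _ hl, hW, hWp a ha b hb])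
          (Set.toFinite _)
      exact hxW _ ((Set.ext_iff.1 e _).2 ⟨hd, c1, d1⟩) (hfx (k, u))
  have hle : (S ×ˢ W).ncard ≤ (perp D x).ncard := by
    rw [← Nat.card_coe_set_eq, ← Nat.card_coe_set_eq]
    refine Nat.card_le_card_of_injective (fun kp => ⟨f (⟨kp.1.1, kp.2.1⟩, ⟨kp.1.2, kp.2.2⟩),
      (hf _).1, fun h => (hfne _).1 (h.trans ?_), hfx _⟩) ?_
    · exact absurd (line_commute_left (hS _ kp.2.1).1 ((hS _ kp.2.1).2.2 _ kp.2.2)
        (hf (⟨kp.1.1, kp.2.1⟩, ⟨kp.1.2, kp.2.2⟩)) |> fun c => h ▸ c) (hS _ kp.2.1).2.1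
    · intro p q h
      have := hinj (congrArg Subtype.val h)
      simp only [Prod.mk.injEq, Subtype.mk.injEq] at this
      exact Subtype.ext (Prod.ext this.1 this.2)
  have hag : a ≠ g := fun h => hga.1 (by rw [← hgdef, ← h])
  have hbg : b ≠ g := fun h => hga.2 (by rw [← hgdef, ← h])
  rw [Set.ncard_prod, hpc x hx, hW, hWp a ha b hb, show S = {a, b, g} from rfl,
    Set.ncard_insert_of_notMem (by
      simp only [Set.mem_insert_iff, Set.mem_singleton_iff, not_or]
      exact ⟨fun h => hb.2 (h ▸ Commute.refl a), hag⟩) (Set.toFinite _), Set.ncard_pair hbg] at hle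
  omega

omit h3 in
theorem line_card_quotient {e : G} (he : e ∈ D) (hd : Deep D e) {s : ℕ}
    (hs : ∀ x ∈ D, ∀ b ∈ perp D x, (line D x b).ncard = s) :
    ∀ x ∈ hP.toThick.qset e, ∀ b ∈ perp (hP.toThick.qset e) x,
      (line (hP.toThick.qset e) x b).ncard = s := by
  have hq := (hP.toThick.qthick he hd).polar
  intro x hx b hb
  obtain ⟨p, hp, q, hq', hpq, hn⟩ := id hd
  have hqp : q ∈ perp D p := ⟨hq'.1, fun k => hn (by rw [k]; exact right_mem_line he hp), hpq⟩
  have h2 : hP.toThick.cl e hq' ∈ perp (hP.toThick.qset e) (hP.toThick.cl e hp) :=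
    (hP.toThick.mem_qperp_iff he hp hq').2 ⟨hpq, hn⟩
  rw [(hq.toThick.ncard_line_eq hx hb (hP.toThick.cl_mem hp) h2)]
  obtain ⟨himg, -⟩ := hP.toThick.line_image he hp hqp hq' hn hq
  rw [← hP.toThick.clf_eq hp, ← hP.toThick.clf_eq hq', ← himg, ← hs p hp.1 q hqp]
  refine Set.InjOn.ncard_image fun y hy y' hy' h => ?_
  by_contra hne
  have hyp : ∀ y ∈ line D p q, y ∈ perp D e := fun y hy => ⟨hy.1, fun k => hn (by
    rw [← line_comm p e, hP.line_eq_left hp.1 hqp (k ▸ hy) (Ne.symm hp.2.1)]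
    exact right_mem_line hp.1 hqp), (hy.2 e ⟨he, hp.2.2, hq'.2.2⟩).symm⟩
  rw [hP.toThick.clf_eq (hyp y hy), hP.toThick.clf_eq (hyp y' hy')] at h
  have h1 := (hP.toThick.cl_eq_iff he (hyp y hy) (hyp y' hy')).1 h
  have h4 : e ∈ line D p q := by
    rw [← hP.line_eq hp.1 hqp hy hy' hne,
      hP.line_eq he (hyp y hy) (right_mem_line he (hyp y hy)) h1 hne]
    exact left_mem_line he (hyp y hy)
  exact (hyp e h4).2.1 rfl

theorem noAffine_step (IH : ∀ e ∈ D, Deep D e → NoAffine (hP.toThick.qset e)) : NoAffine D := by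
  intro a ha b hb x hx hxa hxb
  by_cases hdeep : ∃ e ∈ D, Deep D e
  swap
  · push Not at hdeep
    exact hP.noAffine_base h3 hdeep ha hb hx hxa hxb
  obtain ⟨e0, he0, hd0⟩ := hdeep
  obtain ⟨r, hr, r', hr', hne, hrr⟩ := hP.toThick.exists_commuting_common he0 hd0 ha hb
  have hrp : r' ∈ perp D r := ⟨hr'.1, hne.symm, hrr⟩
  obtain ⟨p, hp, hxp⟩ := hP.one r hr.1 r' hrp x hx
  have hpa : Commute p a := hp.2 a ⟨ha, hr.2.1.symm, hr'.2.1.symm⟩
  have hpb : Commute p b := hp.2 b ⟨hb.1, hr.2.2.symm, hr'.2.2.symm⟩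
  have hd := hP.toThick.deep_of_deep he0 hp.1 hd0
  have hap : a ∈ perp D p := ⟨ha, fun h => hb.2 (h ▸ hpb), hpa⟩
  have hbp : b ∈ perp D p := ⟨hb.1, fun h => hb.2 (h ▸ hpa).symm, hpb⟩
  have hxp' : x ∈ perp D p := ⟨hx, fun h => hxa (h ▸ hpa), hxp.symm⟩
  have key := IH p hp.1 hd _ (hP.toThick.cl_mem hap) _
    ⟨hP.toThick.cl_mem hbp, fun h => hb.2 ((hP.toThick.cl_commute_iff hp.1 hap hbp).1 h)⟩ _
    (hP.toThick.cl_mem hxp') (fun h => hxa ((hP.toThick.cl_commute_iff hp.1 hxp' hap).1 h))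
    (fun h => hxb ((hP.toThick.cl_commute_iff hp.1 hxp' hbp).1 h))
  rw [← hP.toThick.cl_conj hap hbp] at key
  exact (hP.toThick.cl_commute_iff hp.1 hxp' _).1 key

end Polar

theorem noAffine_aux : ∀ (n : ℕ) (G : Type u) [Group G] [Finite G] (D : Set G), Polar D →
    (∀ x ∈ D, ∀ b ∈ perp D x, (line D x b).ncard = 3) → Nat.card G = n → NoAffine D := by
  intro n
  induction n using Nat.strong_induction_on with
  | _ n ih =>
    intro G _ _ D hP h3 hn
    exact hP.noAffine_step h3 fun e he hd => ih _ (hn ▸ hP.toThick.card_grp_lt he) _ _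
      (hP.toThick.qthick he hd).polar (hP.line_card_quotient he hd h3) rfl

open scoped Classical in
/-- The commuting vector of a member. -/
noncomputable def phi (D : Set G) (a : G) : ↥D → ZMod 2 :=
  fun d => if Commute a (d : G) then 0 else 1

namespace Polar

variable (hP : Polar D) (h3 : ∀ x ∈ D, ∀ b ∈ perp D x, (line D x b).ncard = 3)

include hP in
omit [Finite G] in
theorem phi_inj [Finite G] {a b : G} (ha : a ∈ D) (hb : b ∈ D) (h : phi D a = phi D b) :
    a = b := by
  refine hP.eq_of_sameComm ha hb (sameComm_eq_iff.2 fun e he => ?_)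
  have := congrFun h ⟨e, he⟩
  unfold phi at this
  constructor <;> intro hc <;> by_contra hn <;> simp [hc, hn] at this

include hP h3

theorem phi_add {a b : G} (ha : a ∈ D) (hb : b ∈ D) (hab : a ≠ b) :
    ∃ c ∈ D, phi D c = phi D a + phi D b ∧ (¬Commute a b → c = a * b * a) := by
  classical
  by_cases hc : Commute a b
  · have hbp : b ∈ perp D a := ⟨hb, Ne.symm hab, hc⟩
    obtain ⟨c, hcl, hca, hcb⟩ := hP.twins a ha b hbp
    have hline : line D a b = {a, b, c} := by
      refine (Set.eq_of_subset_of_ncard_le ?_ ?_ (Set.toFinite _)).symm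
      · simp only [Set.insert_subset_iff, Set.singleton_subset_iff]
        exact ⟨left_mem_line ha hbp, right_mem_line ha hbp, hcl⟩
      · rw [h3 a ha b hbp, Set.ncard_insert_of_notMem (by
          simp only [Set.mem_insert_iff, Set.mem_singleton_iff, not_or]
          exact ⟨hab, hca.symm⟩) (Set.toFinite _), Set.ncard_pair hcb.symm]
    refine ⟨c, hcl.1, funext fun ⟨d, hd⟩ => ?_, fun h => absurd hc h⟩
    obtain ⟨y, hy, hdy⟩ := hP.one a ha b hbp d hd
    have two : ∀ {e f g : G}, e ∈ line D a b → f ∈ line D a b → g ∈ line D a b → e ≠ f →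
        Commute d e → Commute d f → Commute g d := fun he hf hg hne h1 h2 =>
      hP.commute_line ha hbp he hf hne hg hd h1 h2
    have A := left_mem_line ha hbp
    have B := right_mem_line ha hbp
    show phi D c ⟨d, hd⟩ = phi D a ⟨d, hd⟩ + phi D b ⟨d, hd⟩
    unfold phi
    by_cases h1 : Commute a d <;> by_cases h2 : Commute b d <;> by_cases h4 : Commute c d <;>
      simp only [h1, h2, h4, if_true, if_false] <;> first
        | rfl
        | exact absurd (two A B hcl hab h1.symm h2.symm) h4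
        | exact absurd (two A hcl B hca.symm h1.symm h4.symm) h2
        | exact absurd (two B hcl A hcb.symm h2.symm h4.symm) h1
        | (rw [hline] at hy
           simp only [Set.mem_insert_iff, Set.mem_singleton_iff] at hy
           rcases hy with rfl | rfl | rfl
           · exact absurd hdy.symm h1
           · exact absurd hdy.symm h2
           · exact absurd hdy.symm h4)
  · refine ⟨a * b * a, hP.ts.conj_mem ha hb, funext fun ⟨d, hd⟩ => ?_, fun _ => rfl⟩
    have hna := noAffine_aux _ G D hP h3 rfl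
    have k1 : Commute a d → (Commute (a * b * a) d ↔ Commute b d) := hP.ts.commute_third_iff ha
    have k2 : Commute b d → (Commute (b * a * b) d ↔ Commute a d) := hP.ts.commute_third_iff hb
    rw [← hP.ts.braid ha hb hc] at k2
    show phi D (a * b * a) ⟨d, hd⟩ = phi D a ⟨d, hd⟩ + phi D b ⟨d, hd⟩
    unfold phi
    by_cases h1 : Commute a d <;> by_cases h2 : Commute b d <;>
      by_cases h4 : Commute (a * b * a) d <;>
      simp only [h1, h2, h4, if_true, if_false] <;> first
        | rfl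
        | exact absurd ((k1 h1).2 h2) h4
        | exact absurd ((k1 h1).1 h4) h2
        | exact absurd ((k2 h2).1 h4) h1
        | exact absurd (hna a ha b ⟨hb, hc⟩ d hd (fun k => h1 k.symm) (fun k => h2 k.symm)).symm h4

end Polar

end Cfsg.Agent.Fischer.Polar
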